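import Cfsg.Agent.H4.K3i

/-! Simple groups of order `9 * 2 ^ a * q ^ b` with at most two classes of `3`-elements. -/

set_option autoImplicit false
set_option linter.unusedSectionVars false

namespace Cfsg.Agent.H4.K3

open Subgroup

variable {G : Type*} [Group G]

theorem three_le_classes [Finite G] {x y z : G} (hx : x ≠ 1 ∧ orderOf x ∣ 9)
    (hy : y ≠ 1 ∧ orderOf y ∣ 9) (hz : z ≠ 1 ∧ orderOf z ∣ 9) (h1 : ¬ IsConj x y) (h2 : ¬ IsConj x z)
    (h3 : ¬ IsConj y z) :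
    3 ≤ Nat.card {C : ConjClasses G // ∃ g ∈ C.carrier, g ≠ 1 ∧ orderOf g ∣ 9} := by
  have := Fintype.ofFinite {C : ConjClasses G // ∃ g ∈ C.carrier, g ≠ 1 ∧ orderOf g ∣ 9}
  rw [Nat.card_eq_fintype_card]
  exact Fintype.two_lt_card_iff.2 ⟨⟨.mk x, x, ConjClasses.mem_carrier_mk, hx⟩,
    ⟨.mk y, y, ConjClasses.mem_carrier_mk, hy⟩, ⟨.mk z, z, ConjClasses.mem_carrier_mk, hz⟩,
    fun e => h1 (ConjClasses.mk_eq_mk_iff_isConj.1 (congrArg Subtype.val e)),
    fun e => h2 (ConjClasses.mk_eq_mk_iff_isConj.1 (congrArg Subtype.val e)),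
    fun e => h3 (ConjClasses.mk_eq_mk_iff_isConj.1 (congrArg Subtype.val e))⟩

theorem exists_four [Finite G] (hG : CC G) {r : G} (hr : r ^ 3 = 1) (hr1 : r ≠ 1) (h9 : cc r = 9)
    (h4 : {y | Commute r y ∧ IsConj r y}.ncard = 4) : ∃ s h, Four r s h := by
  set O := {y | Commute r y ∧ IsConj r y} with hO
  have nm : ∀ g, g * r * g⁻¹ ∈ O → ∀ y ∈ O, g * y * g⁻¹ ∈ O := fun g hg y hy =>
    ⟨hG.comm (g * r * g⁻¹) _ _ (by rw [conj_pow, hr]; simp) (by simpa using hr1) hg.1.symm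
      (hy.1.conj g), hy.2.trans (isConj_iff.2 ⟨g, rfl⟩)⟩
  have inv : ∀ t, t * r * t⁻¹ ∈ O → t * (t * r * t⁻¹) * t⁻¹ = r → t * r * t⁻¹ = r ∨
      t * r * t⁻¹ = r⁻¹ := fun t ht e => by
    by_cases h1 : r * (t * r * t⁻¹) = 1
    · exact Or.inr (eq_inv_of_mul_eq_one_right h1)
    · refine Or.inl (mul_inv_eq_iff_eq_mul.2 (hG.comm (r * (t * r * t⁻¹)) t r (by
        rw [ht.1.mul_pow, conj_pow, hr]; simp) h1 ?_ ((Commute.refl r).mul_left ht.1.symm)))
      rw [Commute, SemiconjBy, eq_comm, ← mul_inv_eq_iff_eq_mul]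
      calc t * (r * (t * r * t⁻¹)) * t⁻¹ = t * r * t⁻¹ * (t * (t * r * t⁻¹) * t⁻¹) := by group
        _ = _ := by rw [e, ht.1.eq]
  obtain ⟨s, hs, s1, s2⟩ : ∃ s ∈ O, s ≠ r ∧ s ≠ r⁻¹ := by
    by_contra hc
    push Not at hc
    have := Set.ncard_le_ncard (s := O) (t := {r, r⁻¹}) fun y hy => by
      by_cases e : y = r
      · exact Or.inl e
      · exact Or.inr (hc y hy e)
    have := Set.ncard_insert_le r {r⁻¹}
    rw [Set.ncard_singleton] at this
    omega
  obtain ⟨h, e1⟩ := isConj_iff.1 hs.2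
  have m1 := nm h (e1 ▸ hs)
  set t := h * s * h⁻¹ with ht
  set u := h * t * h⁻¹ with hu
  have cj : ∀ {x y : G}, h * x * h⁻¹ = h * y * h⁻¹ → x = y := fun e => by simpa using e
  have a1 : t ≠ r := fun e => by
    rcases inv h (e1 ▸ hs) (by rw [e1]; exact e) with e' | e'
    · exact s1 (e1 ▸ e')
    · exact s2 (e1 ▸ e')
  have a2 : u ≠ r := fun e => by
    have b1 : Commute r (h ^ 3) := by
      rw [Commute, SemiconjBy, eq_comm, ← mul_inv_eq_iff_eq_mul]
      nth_rw 2 [← e]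
      rw [hu, ht, ← e1]
      simp only [pow_succ, pow_zero, one_mul, mul_inv_rev, mul_assoc]
    by_cases h3 : h ^ 3 = 1
    · have c1 : Commute r t := (m1 s hs).1
      have c2 := hG.comm r s t hr hr1 hs.1 c1
      have s3 := cube_of_isConj hr hs.2
      have fin : ∀ k, k ^ 3 = 1 → k ≠ 1 → Commute k r → h * k * h⁻¹ = k → False :=
        fun k k3 k1 c e => s1 (by
          rw [← e1, mul_inv_eq_iff_eq_mul]
          exact hG.comm k h r k3 k1 (mul_inv_eq_iff_eq_mul.1 e).symm c)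
      by_cases b2 : r * s * t = 1
      · refine fin (r * s⁻¹) (by rw [hs.1.inv_right.mul_pow, inv_pow, hr, s3]; simp)
          (fun e => s1 (mul_inv_eq_one.1 e).symm) ((Commute.refl r).mul_left hs.1.symm.inv_left) ?_
        rw [show h * (r * s⁻¹) * h⁻¹ = h * r * h⁻¹ * (h * s * h⁻¹)⁻¹ by group, e1, ← ht,
          inv_eq_of_mul_eq_one_left b2, ← mul_assoc, ← hs.1.eq, mul_assoc]
        congr 1
        rw [eq_inv_iff_mul_eq_one, ← s3, pow_succ, pow_two]
      · refine fin _ (by rw [(c1.mul_left c2).mul_pow, hs.1.mul_pow, hr, s3,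
          cube_of_isConj hr (m1 s hs).2]; simp) b2
          (((Commute.refl r).mul_left hs.1.symm).mul_left c1.symm) ?_
        rw [show h * (r * s * t) * h⁻¹ = h * r * h⁻¹ * (h * s * h⁻¹) * (h * t * h⁻¹) by group, e1,
          ← ht, ← hu, e, ← (hs.1.mul_right c1).eq, mul_assoc]
    · exact s1 (by
        rw [← e1, mul_inv_eq_iff_eq_mul]
        exact hG.comm (h ^ 3) h r (hG.cube _ _ hr hr1 b1) h3 ((Commute.refl h).pow_left 3) b1.symm)
  have a3 : s ≠ t := fun e => s1 (cj (e1.trans e)).symm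
  have a4 : s ≠ u := fun e => a1 (cj (e1.trans e)).symm
  have a5 : t ≠ u := fun e => a3 (cj e)
  have eO : {r, s, t, u} = O := by
    refine Set.eq_of_subset_of_ncard_le ?_ ?_
    · rintro _ (rfl | rfl | rfl | rfl)
      exacts [⟨rfl, IsConj.refl _⟩, hs, m1 s hs, m1 _ (m1 s hs)]
    · rw [Set.ncard_insert_of_notMem (by simp [s1.symm, a1.symm, a2.symm]),
        Set.ncard_insert_of_notMem (by simp [a3, a4]), Set.ncard_pair a5]
      exact h4.le
  have a6 : h * u * h⁻¹ = r := by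
    have : h * u * h⁻¹ ∈ ({r, s, t, u} : Set G) := eO ▸ m1 _ (m1 _ (m1 s hs))
    rcases this with e | e | e | e
    · exact e
    · exact absurd (cj (e.trans e1.symm)) a2
    · exact absurd (cj e) a4.symm
    · exact absurd (cj e) a5.symm
  have e2 : h * h * r * (h * h)⁻¹ = t := by rw [ht, ← e1]; group
  have a7 : t = r⁻¹ := by
    rcases inv (h * h) (e2 ▸ m1 s hs) (by rw [e2, ← a6, hu]; group) with e | e
    · exact absurd (e2 ▸ e) a1
    · exact e2 ▸ e
  refine ⟨s, h, hG, hr, hr1, h9, hs.1, e1, a7, fun hc => ?_⟩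
  have s3 := cube_of_isConj hr hs.2
  have : r * s ∈ ({r, s, t, u} : Set G) := eO ▸ ⟨(Commute.refl r).mul_right hs.1, hc⟩
  rcases this with e | e | e | e
  · exact hr1 (isConj_one_left.1 (mul_eq_left.1 e ▸ hs.2))
  · exact hr1 (mul_eq_right.1 e)
  · refine s1 (mul_left_cancel (a := r) (mul_left_cancel (a := r) ?_))
    rw [e, a7, mul_inv_cancel, ← hr, pow_succ', pow_two]
  · refine s1 (mul_right_cancel (b := s) (mul_right_cancel (b := s) ?_))
    rw [e, hu, a7, ← pow_two, ← pow_succ, s3, ← e1]; group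

theorem alt_of_not_three [Finite G] [IsSimpleGroup G] (hnc : ¬ IsMulCommutative G)
    (q a b : ℕ) (hq : q.Prime) (hq2 : q ≠ 2) (hq3 : q ≠ 3) (hcard : Nat.card G = 9 * 2 ^ a * q ^ b)
    (R : Sylow 3 G) (hR : ∀ k ∈ (R : Subgroup G), k ≠ 1 → centralizer ({k} : Set G) = R)
    (h3 : ¬ 3 ≤ Nat.card {C : ConjClasses G // ∃ g ∈ C.carrier, g ≠ 1 ∧ orderOf g ∣ 9}) :
    Nonempty (G ≃* alternatingGroup (Fin 6)) := by
  have : Fact (Nat.Prime 3) := ⟨Nat.prime_three⟩
  have cR : Nat.card R = 9 := card_sylow_eq (m := 2 ^ a * q ^ b) (k := 2) R (by rw [hcard]; ring)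
    fun h => by
      rcases Nat.prime_three.dvd_mul.1 h with h | h
      · simpa using Nat.prime_three.dvd_of_dvd_pow h
      · exact hq3 ((Nat.prime_dvd_prime_iff_eq Nat.prime_three hq).1
          (Nat.prime_three.dvd_of_dvd_pow h)).symm
  have mR : ∀ k ∈ (R : Subgroup G), k ≠ 1 → ∀ y, Commute k y ↔ y ∈ (R : Subgroup G) :=
    fun k hk k1 y => by
      rw [← hR k hk k1, mem_centralizer_singleton_iff]; exact ⟨fun e => e.symm, fun e => e.symm⟩
  have two : ∀ x ∈ (R : Subgroup G), ∀ y ∈ (R : Subgroup G), ∀ z ∈ (R : Subgroup G), x ≠ 1 → y ≠ 1 →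
      z ≠ 1 → ¬ IsConj x y → ¬ IsConj x z → IsConj y z := fun x hx y hy z hz x1 y1 z1 h1 h2 => by
    by_contra h
    exact h3 (three_le_classes ⟨x1, cR ▸ (R : Subgroup G).orderOf_dvd_natCard hx⟩
      ⟨y1, cR ▸ (R : Subgroup G).orderOf_dvd_natCard hy⟩
      ⟨z1, cR ▸ (R : Subgroup G).orderOf_dvd_natCard hz⟩ h1 h2 h)
  have ex : ∀ k ∈ (R : Subgroup G), k ^ 3 = 1 := fun k hk => by
    by_contra h
    have k9 : k ^ 9 = 1 := orderOf_dvd_iff_pow_eq_one.1 (cR ▸ (R : Subgroup G).orderOf_dvd_natCard hk)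
    have k3 : (k ^ 3) ^ 3 = 1 := by rw [← pow_mul, k9]
    have k4 : (k ^ 4) ^ 3 = k ^ 3 := by rw [← pow_mul, show 4 * 3 = 9 + 3 from rfl, pow_add, k9, one_mul]
    have k1 : k ≠ 1 := by rintro rfl; simp at h
    obtain ⟨g, hg⟩ := isConj_iff.1 (two _ (pow_mem hk 3) _ hk _ (pow_mem hk 4) h k1
      (fun e => h (by rw [← k4, e, one_pow])) (fun e => h (cube_of_isConj k3 e))
      fun e => h (k4 ▸ cube_of_isConj k3 e))
    have g1 := (mR _ (pow_mem hk 3) h g).1 (mul_inv_eq_iff_eq_mul.1 (by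
      rw [← conj_pow, hg, k4])).symm
    rw [← ((mR k hk k1 g).2 g1).eq, mul_inv_cancel_right, pow_succ, eq_comm, mul_eq_right] at hg
    exact h hg
  have cm : ∀ x ∈ (R : Subgroup G), ∀ y ∈ (R : Subgroup G), Commute x y := fun x hx y hy => by
    by_cases e : x = 1
    · simp [e]
    · exact (mR x hx e y).2 hy
  have into : ∀ g : G, g ^ 3 = 1 → ∃ c, c⁻¹ * g * c ∈ (R : Subgroup G) := fun g hg => by
    obtain ⟨Q, hQ⟩ := (IsPGroup.of_card_dvd_pow (p := 3) (G := zpowers g) (n := 1) (by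
      rw [Nat.card_zpowers]; exact orderOf_dvd_of_pow_eq_one hg)).exists_le_sylow
    obtain ⟨c, rfl⟩ := MulAction.exists_smul_eq G R Q
    exact ⟨c, mem_cj.1 (hQ (mem_zpowers g))⟩
  have key : ∀ g : G, g ^ 3 = 1 → g ≠ 1 → ∃ c, ∀ y, Commute g y → c⁻¹ * y * c ∈ (R : Subgroup G) :=
    fun g hg g1 => by
      obtain ⟨c, hc⟩ := into g hg
      exact ⟨c, fun y hy => (mR _ hc (fun e => g1 (eq_one_of_conj e)) _).1
        (by simpa using hy.conj c⁻¹)⟩
  have hG : CC G :=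
    { cube := fun g y hg g1 hy => by
        obtain ⟨c, hc⟩ := key g hg g1
        exact cube_of_isConj (ex _ (hc y hy)) (isConj_iff.2 ⟨c, by group⟩)
      comm := fun g y z hg g1 hy hz => by
        obtain ⟨c, hc⟩ := key g hg g1
        simpa [mul_assoc] using (cm _ (hc y hy) _ (hc z hz)).conj c }
  obtain ⟨r, hr, r1⟩ := ((R : Subgroup G).bot_or_exists_ne_one).resolve_left fun e => by
    rw [e, card_bot] at cR; omega
  have h9 : cc r = 9 := by rw [cc, hR r hr r1, cR]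
  by_cases hw : ∃ w ∈ (R : Subgroup G), w ≠ 1 ∧ ¬ IsConj r w
  · obtain ⟨w, hw, w1, nc⟩ := hw
    have le : ∀ x ∈ (R : Subgroup G), ∀ z ∈ (R : Subgroup G), x ≠ 1 → z ≠ 1 →
        {y | y ∈ (R : Subgroup G) ∧ IsConj x y}.ncard ≤
          {y | y ∈ (R : Subgroup G) ∧ IsConj z y}.ncard := fun x hx z hz x1 z1 => by
      have : ∀ y, IsConj x y → ∃ c, c * x * c⁻¹ = y := fun y => isConj_iff.1
      choose! γ hγ using this
      refine Set.ncard_le_ncard_of_injOn (fun y => γ y * z * (γ y)⁻¹) (fun y hy =>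
        ⟨(mR y hy.1 (fun e => x1 (isConj_one_left.1 (e ▸ hy.2))) _).1 ?_,
          isConj_iff.2 ⟨_, rfl⟩⟩) fun y hy y' hy' e => ?_
      · nth_rw 1 [← hγ y hy.2]
        exact (cm x hx z hz).conj _
      · have e' : γ y * z * (γ y)⁻¹ = γ y' * z * (γ y')⁻¹ := e
        have b1 := cm x hx _ ((mR z hz z1 ((γ y')⁻¹ * γ y)).1 (by
          rw [Commute, SemiconjBy, mul_assoc, mul_inv_eq_iff_eq_mul.1 e']; group))
        rw [← hγ y hy.2, show γ y * x * (γ y)⁻¹ = γ y' * ((γ y')⁻¹ * γ y * x) * (γ y)⁻¹ by group,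
          ← b1.eq]
        exact Eq.trans (by group) (hγ y' hy'.2)
    have un : {y | y ∈ (R : Subgroup G) ∧ IsConj r y} ∪ {y | y ∈ (R : Subgroup G) ∧ IsConj w y} =
        ((R : Subgroup G) : Set G) \ {1} := by
      ext y
      constructor
      · rintro (h | h)
        · exact ⟨h.1, fun e => r1 (isConj_one_left.1 (e ▸ h.2))⟩
        · exact ⟨h.1, fun e => w1 (isConj_one_left.1 (e ▸ h.2))⟩
      · intro h
        by_cases e : IsConj r y
        · exact Or.inl ⟨h.1, e⟩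
        · exact Or.inr ⟨h.1, two r hr w hw y h.1 r1 w1 h.2 nc e⟩
    have c1 := congrArg Set.ncard un
    rw [Set.ncard_union_eq (Set.disjoint_left.2 fun y h h' => nc (h.2.trans h'.2.symm)),
      Set.ncard_sdiff_singleton_of_mem (one_mem _),
      show ((R : Subgroup G) : Set G).ncard = 9 from cR] at c1
    have c2 := le r hr w hw r1 w1
    have c3 := le w hw r hr w1 r1
    obtain ⟨s, h, H⟩ := exists_four hG (ex r hr) r1 h9 (by
      simp only [mR r hr r1]; omega)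
    exact H.alt
  · push Not at hw
    refine (eight_false hnc hq2 hq3 hcard hG (ex r hr) r1 h9 hq fun g hg g1 => ?_).elim
    obtain ⟨c, hc⟩ := into g hg
    exact (hw _ hc fun e => g1 (eq_one_of_conj e)).trans (isConj_iff.2 ⟨c, by group⟩)

end Cfsg.Agent.H4.K3
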