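import Cfsg.Agent.H4.Cyc2

/-! Similarity by elements of determinant one. -/

set_option autoImplicit false

namespace Cfsg.Agent.H4

open Module Polynomial

universe u

variable {F : Type u} [Field F]
variable {V : Type*} [AddCommGroup V] [Module F V]

/-- Similarity by an element of determinant one. -/
def SSim (f g : End F V) : Prop := ∃ e : End F V, LinearMap.det e = 1 ∧ e * f = g * e

theorem SSim.refl (f : End F V) : SSim f f := ⟨1, map_one _, by simp⟩

theorem SSim.trans {f g h : End F V} (h1 : SSim f g) (h2 : SSim g h) : SSim f h := by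
  obtain ⟨e, a1, a2⟩ := h1
  obtain ⟨e', b1, b2⟩ := h2
  exact ⟨e' * e, by rw [map_mul, a1, b1, one_mul], by
    rw [mul_assoc, a2, ← mul_assoc, b2, mul_assoc]⟩

theorem SSim.smul {f g : End F V} (h : SSim f g) (c : F) : SSim (c • f) (c • g) := by
  obtain ⟨e, a1, a2⟩ := h
  exact ⟨e, a1, by rw [mul_smul_comm, smul_mul_assoc, a2]⟩

variable [Module.Finite F V]

theorem exists_inv_of_det {e : End F V} (h : LinearMap.det e ≠ 0) :
    ∃ e' : End F V, e * e' = 1 ∧ e' * e = 1 ∧ LinearMap.det e' = (LinearMap.det e)⁻¹ := by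
  obtain ⟨u, rfl⟩ := (LinearMap.isUnit_iff_isUnit_det _).2 h.isUnit
  refine ⟨u⁻¹.val, by simp, by simp, eq_inv_of_mul_eq_one_left ?_⟩
  rw [← map_mul]; simp

theorem exists_inv_of_det_one {e : End F V} (h : LinearMap.det e = 1) :
    ∃ e' : End F V, e * e' = 1 ∧ e' * e = 1 ∧ LinearMap.det e' = 1 := by
  simpa [h] using exists_inv_of_det (e := e) (by rw [h]; exact one_ne_zero)

theorem SSim.symm {f g : End F V} (h : SSim f g) : SSim g f := by
  obtain ⟨e, a1, a2⟩ := h
  obtain ⟨e', b1, b2, b3⟩ := exists_inv_of_det_one a1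
  refine ⟨e', b3, ?_⟩
  calc e' * g = e' * (g * e) * e' := by rw [mul_assoc, mul_assoc, b1, mul_one]
    _ = f * e' := by rw [← a2, ← mul_assoc, b2, one_mul]

theorem SSim.exists_conj {f g : End F V} (h : SSim f g) : ∃ e e' : End F V,
    LinearMap.det e = 1 ∧ LinearMap.det e' = 1 ∧ e * e' = 1 ∧ e' * e = 1 ∧ g = e * f * e' := by
  obtain ⟨e, a1, a2⟩ := h
  obtain ⟨e', b1, b2, b3⟩ := exists_inv_of_det_one a1
  exact ⟨e, e', a1, b3, b1, b2, by rw [a2, mul_assoc, b1, mul_one]⟩

omit [Module.Finite F V] in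
theorem ssim_conj (f : End F V) {e e' : End F V} (h : LinearMap.det e = 1) (h' : e' * e = 1) :
    SSim f (e * f * e') := ⟨e, h, by rw [mul_assoc, h', mul_one]⟩

theorem sim_of_mul {f g e : End F V} (h : LinearMap.det e ≠ 0) (h' : e * f = g * e) : Sim f g := by
  obtain ⟨e', b1, b2, -⟩ := exists_inv_of_det h
  exact ⟨LinearEquiv.ofLinearMap e e' b1 b2, fun v => LinearMap.congr_fun h' v⟩

theorem SSim.sim {f g : End F V} (h : SSim f g) : Sim f g := by
  obtain ⟨e, a1, a2⟩ := h
  exact sim_of_mul (by rw [a1]; exact one_ne_zero) a2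

omit [Module.Finite F V] in
theorem Sim.exists_mul {f g : End F V} (h : Sim f g) :
    ∃ e : End F V, LinearMap.det e ≠ 0 ∧ e * f = g * e := by
  obtain ⟨e, he⟩ := h
  exact ⟨e, (LinearEquiv.isUnit_det' e).ne_zero, LinearMap.ext he⟩

omit [Module.Finite F V] in
theorem Sim.ssim {f g : End F V} (h : Sim f g)
    (hc : ∀ μ : F, μ ≠ 0 → ∃ c : End F V, c * f = f * c ∧ LinearMap.det c = μ) : SSim f g := by
  obtain ⟨e, a1, a2⟩ := h.exists_mul
  obtain ⟨c, b1, b2⟩ := hc _ (inv_ne_zero a1)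
  exact ⟨e * c, by rw [map_mul, b2, mul_inv_cancel₀ a1], by
    rw [mul_assoc, b1, ← mul_assoc, a2, mul_assoc]⟩

theorem det_one_add_smulRight' (φ : V →ₗ[F] F) (v : V) :
    LinearMap.det (1 + φ.smulRight v : End F V) = 1 + φ v := by
  rw [← LinearMap.transvection.det]
  congr 1

theorem span_sup_ne_top {P : Submodule F V} (y : V) (h : finrank F P + 2 ≤ finrank F V) :
    P ⊔ Submodule.span F {y} ≠ ⊤ := by
  intro h1
  have h2 := Submodule.finrank_add_le_finrank_add_finrank P (Submodule.span F {y})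
  have h3 := finrank_span_le_card (R := F) ({y} : Set V)
  rw [h1, finrank_top] at h2
  simp at h3
  omega

theorem exists_move_aux {P : Submodule F V} {y z : V} (hy : y ∉ P)
    (hz : z ∉ P ⊔ Submodule.span F {y}) :
    ∃ g : End F V, LinearMap.det g = 1 ∧ (∀ v ∈ P, g v = v) ∧ g y = z := by
  obtain ⟨f, a1, a2⟩ := exists_dual_one_zero hy
  obtain ⟨ψ, b1, b2⟩ := exists_dual_one_zero hz
  have b3 : ψ y = 0 := b2 y (Submodule.mem_sup_right (Submodule.subset_span rfl))
  refine ⟨1 + (f + (1 - f z) • ψ).smulRight (z - y), ?_, fun v hv => ?_, ?_⟩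
  · rw [det_one_add_smulRight']; simp [a1, b1, b3]
  · simp [a2 v hv, b2 v (Submodule.mem_sup_left hv)]
  · simp [a1, b3]

theorem exists_move {P : Submodule F V} (h : finrank F P + 2 ≤ finrank F V) {y y' : V}
    (hy : y ∉ P) (hy' : y' ∉ P) :
    ∃ g : End F V, LinearMap.det g = 1 ∧ (∀ v ∈ P, g v = v) ∧ g y = y' := by
  obtain ⟨z, h1, h2⟩ := avoid_two (span_sup_ne_top y h) (span_sup_ne_top y' h)
  obtain ⟨g, a1, a2, a3⟩ := exists_move_aux hy h1
  obtain ⟨g', b1, b2, b3⟩ := exists_move_aux hy' h2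
  obtain ⟨k, -, c2, c3⟩ := exists_inv_of_det_one b1
  have hk : ∀ v, k (g' v) = v := fun v => LinearMap.congr_fun c2 v
  refine ⟨k * g, by rw [map_mul, a1, c3, one_mul], fun v hv => ?_, ?_⟩
  · rw [Module.End.mul_apply, a2 v hv]
    conv_lhs => rw [← b2 v hv, hk]
  · rw [Module.End.mul_apply, a3, ← b3, hk]

theorem injective_of_det {g : End F V} (h : LinearMap.det g ≠ 0) : Function.Injective g := by
  obtain ⟨g', -, b2, -⟩ := exists_inv_of_det h
  exact Function.LeftInverse.injective (g := g') fun v => LinearMap.congr_fun b2 v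

theorem exists_move_two (h : 3 ≤ finrank F V) {x y x' y' : V} (hx : x ≠ 0)
    (hy : y ∉ Submodule.span F {x}) (hx' : x' ≠ 0) (hy' : y' ∉ Submodule.span F {x'}) :
    ∃ g : End F V, LinearMap.det g = 1 ∧ g x = x' ∧ g y = y' := by
  obtain ⟨g, a1, -, a3⟩ := exists_move (P := (⊥ : Submodule F V)) (by simp; omega)
    (y := x) (y' := x') (by simpa) (by simpa)
  have hinj := injective_of_det (g := g) (by rw [a1]; exact one_ne_zero)
  obtain ⟨g', b1, b2, b3⟩ := exists_move (P := Submodule.span F {x'}) (by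
    rw [finrank_span_singleton hx']; omega) (y := g y) (y' := y') (by
      intro h1
      obtain ⟨c, hc⟩ := Submodule.mem_span_singleton.1 h1
      rw [← a3, ← map_smul] at hc
      exact hy (Submodule.mem_span_singleton.2 ⟨c, hinj hc⟩)) hy'
  exact ⟨g' * g, by rw [map_mul, a1, b1, one_mul], by
    rw [Module.End.mul_apply, a3, b2 _ (Submodule.subset_span rfl)], b3⟩

omit [Module.Finite F V] in
theorem exists_not_mem_span {f : End F V} (h : ∀ c : F, f ≠ c • 1) :
    ∃ v, v ≠ 0 ∧ f v ∉ Submodule.span F {v} := by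
  by_contra hh
  push Not at hh
  have : ∀ v, f v ∈ Submodule.span F {v} := fun v => by
    by_cases h0 : v = 0
    · simp [h0]
    · exact hh v h0
  obtain ⟨c, hc⟩ := f.exists_eq_smul_id_of_forall_notLinearIndependent fun v hv => by
    obtain ⟨c, hc⟩ := Submodule.mem_span_singleton.1 (this v)
    have := (LinearIndependent.pair_iff.1 hv c (-1) (by simp [hc])).2
    simp at this
  exact h c hc

section mat

variable {n : Type*} [Fintype n] [DecidableEq n]

theorem isConj_SL_iff_ssim (A B : Matrix.SpecialLinearGroup n F) :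
    IsConj A B ↔ SSim (Matrix.toLin' (A : Matrix n n F)) (Matrix.toLin' (B : Matrix n n F)) := by
  constructor
  · intro h
    obtain ⟨c, rfl⟩ := isConj_iff.1 h
    refine ⟨Matrix.toLin' (c : Matrix n n F), by rw [LinearMap.det_toLin', c.det_coe], ?_⟩
    rw [Module.End.mul_eq_comp, Module.End.mul_eq_comp, ← Matrix.toLin'_mul, ← Matrix.toLin'_mul,
      ← Matrix.SpecialLinearGroup.coe_mul, ← Matrix.SpecialLinearGroup.coe_mul,
      inv_mul_cancel_right]
  · rintro ⟨e, a1, a2⟩
    obtain ⟨P, rfl⟩ := Matrix.toLin'.surjective e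
    refine isConj_SL_of_mul A B P (Matrix.toLin'.injective ?_) (by rwa [LinearMap.det_toLin'] at a1)
    rw [Matrix.toLin'_mul, Matrix.toLin'_mul]
    exact a2

theorem exists_SL_toLin' {f : End F (n → F)} (h : LinearMap.det f = 1) :
    ∃ A : Matrix.SpecialLinearGroup n F, Matrix.toLin' (A : Matrix n n F) = f := by
  obtain ⟨P, rfl⟩ := Matrix.toLin'.surjective f
  exact ⟨⟨P, by rwa [LinearMap.det_toLin'] at h⟩, rfl⟩

theorem mem_center_SL_iff (A : Matrix.SpecialLinearGroup n F) :
    A ∈ Subgroup.center (Matrix.SpecialLinearGroup n F) ↔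
      ∃ c : F, Matrix.toLin' (A : Matrix n n F) = c • 1 := by
  constructor
  · intro h
    obtain ⟨c, -, hc⟩ := Matrix.SpecialLinearGroup.mem_center_iff.1 h
    refine ⟨c, ?_⟩
    rw [← hc]
    ext i j
    simp [Matrix.scalar_apply, Matrix.mulVec_diagonal]
  · rintro ⟨c, hc⟩
    rw [Subgroup.mem_center_iff]
    intro B
    apply Subtype.ext
    apply Matrix.toLin'.injective
    change Matrix.toLin' ((B : Matrix n n F) * (A : Matrix n n F)) =
      Matrix.toLin' ((A : Matrix n n F) * (B : Matrix n n F))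
    rw [Matrix.toLin'_mul, Matrix.toLin'_mul, hc]
    exact LinearMap.ext fun v => by simp [Matrix.mulVec_smul]

end mat

end Cfsg.Agent.H4
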