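import Cfsg.Agent.H9.AH0
import Cfsg.Agent.S2272
import Cfsg.Agent.S2450

/-! S2451, the linear groups. -/

set_option autoImplicit false

namespace Cfsg.Agent.H4.AL

open Cfsg.Agent.H9.AH

theorem noCP_psl {F : Type*} [Field F] [Fintype F] (n : ℕ) (h2 : 2 ≤ n) (h4 : n = 2 → 4 ≤ Fintype.card F) :
    NoCP (Matrix.ProjectiveSpecialLinearGroup (Fin n) F) := fun a b c h => by
  rcases h2.eq_or_lt with rfl | hn
  · refine S2450.result (h4 rfl) a b h.ha h.hb c (Set.ext fun g => ⟨?_, fun k => ?_⟩)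
    · rintro ⟨u, v, rfl⟩
      exact h.conj _ _ (isConj_conj u a) (isConj_conj v b)
    · obtain ⟨x, hx⟩ := isConj_iff.1 (h.mul.symm.trans k)
      exact ⟨x, x, by rw [← hx]; group⟩
  · obtain ⟨g, k, e⟩ := S2272.result n hn a b h.ha h.hb
    exact e (h.mul.symm.trans (h.conj _ _ (isConj_conj g a) (isConj_conj k b)))

theorem good_psl {F : Type*} [Field F] [Fintype F] (p n : ℕ) (h2 : 2 ≤ n) (h4 : n = 2 → 4 ≤ Fintype.card F) :
    H9.AH.Good p (Matrix.ProjectiveSpecialLinearGroup (Fin n) F) := (noCP_psl n h2 h4).good p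

theorem good_of_isPSLChar {p : ℕ} {G : Type*} [Group G] (h : IsPSLChar p G) : H9.AH.Good p G := by
  obtain ⟨F, _, _, _, n, h2, h4, ⟨e⟩⟩ := h
  exact (good_psl p n h2 h4).congr e

end Cfsg.Agent.H4.AL
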