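import Cfsg.Agent.H2.SolvGen

/-! Solvable permutation groups containing a regular cyclic subgroup of odd prime power order. -/

set_option autoImplicit false

namespace Cfsg.Agent.H4

open Equiv Subgroup

theorem ap_exists_step {G : Type*} [Group G] [Finite G] {p : ℕ} [Fact p.Prime] (A : Subgroup G)
    (hA : IsPGroup p A) (u : G) {k : ℕ} (hu : u ^ p ^ k = 1) (hn : ∀ a ∈ A, u * a * u⁻¹ ∈ A)
    (K : G → Prop) (h1 : K 1) {y0 : G} (hy0 : y0 ∈ A) (hK : ¬ K y0) :
    ∃ y ∈ A, ¬ K y ∧ K (u * y * u⁻¹ * y⁻¹) := by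
  classical
  have hU : IsPGroup p (zpowers u) := by
    intro g
    obtain ⟨g, j, rfl⟩ := g
    refine ⟨k, Subtype.ext ?_⟩
    change (u ^ j) ^ p ^ k = 1
    rw [← zpow_natCast, ← zpow_mul, mul_comm, zpow_mul, zpow_natCast, hu, one_zpow]
  have hnorm : zpowers u ≤ normalizer (A : Set G) := by
    rw [zpowers_le]
    exact mem_normalizer_fintype hn
  have hP : IsPGroup p (zpowers u ⊔ A : Subgroup G) := IsPGroup.to_sup_of_normal_right' hU hA hnorm
  set P : Subgroup G := zpowers u ⊔ A with hPdef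
  have hnil : Group.IsNilpotent P := hP.isNilpotent
  have huP : u ∈ P := (le_sup_left : zpowers u ≤ P) (mem_zpowers u)
  let D : G → G := fun y => u * y * u⁻¹ * y⁻¹
  have hDA : ∀ j, D^[j] y0 ∈ A := by
    intro j
    induction j with
    | zero => exact hy0
    | succ j ih =>
      rw [Function.iterate_succ_apply']
      exact A.mul_mem (hn _ ih) (A.inv_mem ih)
  have hlow : ∀ j, (⟨D^[j] y0, (le_sup_right : A ≤ P) (hDA j)⟩ : P) ∈ Subgroup.lowerCentralSeries (⊤ : Subgroup P) j := by
    intro j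
    induction j with
    | zero => simp
    | succ j ih =>
      rw [Subgroup.lowerCentralSeries_succ]
      have := commutator_mem_commutator ih (mem_top (⟨u, huP⟩ : P))
      have h2 := inv_mem this
      convert h2 using 1
      apply Subtype.ext
      simp [Function.iterate_succ_apply', D, commutatorElement_def, mul_assoc]
  obtain ⟨n, hn'⟩ := Subgroup.nilpotent_iff_lowerCentralSeries.1 hnil
  have hex : ∃ j, K (D^[j] y0) := by
    refine ⟨n, ?_⟩
    have := hlow n
    rw [hn', mem_bot] at this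
    have h3 : D^[n] y0 = 1 := congrArg Subtype.val this
    rw [h3]; exact h1
  have h0 : Nat.find hex ≠ 0 := by
    intro h
    have := Nat.find_spec hex
    rw [h] at this
    exact hK this
  obtain ⟨j, hj⟩ := Nat.exists_eq_succ_of_ne_zero h0
  refine ⟨D^[j] y0, hDA j, Nat.find_min hex (by omega), ?_⟩
  have := Nat.find_spec hex
  rw [hj, Function.iterate_succ_apply'] at this
  exact this

theorem zmod_exists_nsmul {p i : ℕ} [Fact p.Prime] {k0 d : ZMod (p ^ i)} (h0 : k0 ≠ 0)
    (hk : (p : ZMod (p ^ i)) * k0 = 0) (hd : (p : ZMod (p ^ i)) * d = 0) : ∃ j : ℕ, d = j * k0 := by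
  classical
  have hp := (Fact.out : p.Prime)
  have : NeZero (p ^ i) := ⟨pow_ne_zero _ hp.ne_zero⟩
  have hc := IsAddCyclic.card_nsmul_eq_zero_le (α := ZMod (p ^ i)) hp.pos
  have hord : addOrderOf k0 = p := addOrderOf_eq_prime (by rw [nsmul_eq_mul]; exact hk) h0
  have hsub : (Finset.range p).image (fun j : ℕ => j • k0) ⊆ Finset.univ.filter fun a : ZMod (p ^ i) => p • a = 0 := by
    intro x hx
    obtain ⟨j, -, rfl⟩ := Finset.mem_image.1 hx
    simp only [Finset.mem_filter, Finset.mem_univ, true_and, nsmul_eq_mul]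
    rw [mul_left_comm, hk, mul_zero]
  have hcard : ((Finset.range p).image (fun j : ℕ => j • k0)).card = p := by
    rw [Finset.card_image_of_injOn, Finset.card_range]
    have := nsmul_injOn_Iio_addOrderOf (x := k0)
    rw [hord] at this
    intro a ha b hb hab
    exact this (by simpa using ha) (by simpa using hb) hab
  have heq := Finset.eq_of_subset_of_card_le hsub (by rw [hcard]; exact hc)
  have : d ∈ (Finset.range p).image (fun j : ℕ => j • k0) := by
    rw [heq]; simp [hd]
  obtain ⟨j, -, hj⟩ := Finset.mem_image.1 this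
  exact ⟨j, by rw [← hj, nsmul_eq_mul]⟩

/-- translation -/
def tl {m : ℕ} (d : ZMod m) : Perm (ZMod m) := Equiv.addRight d

@[simp] theorem tl_apply {m : ℕ} (d x : ZMod m) : tl d x = x + d := rfl
@[simp] theorem tl_inv_apply {m : ℕ} (d x : ZMod m) : (tl d)⁻¹ x = x - d := by
  rw [Perm.inv_eq_iff_eq]; simp

@[simp] theorem tl_symm_apply {m : ℕ} (d x : ZMod m) : (tl d).symm x = x - d := tl_inv_apply d x

theorem tl_pow {m : ℕ} (d : ZMod m) (j : ℕ) : tl d ^ j = tl ((j : ZMod m) * d) := by
  induction j with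
  | zero => ext x; simp
  | succ j ih => ext x; rw [pow_succ, ih]; simp; ring

theorem tl_one_pow_val {m : ℕ} [NeZero m] (d : ZMod m) : tl (1 : ZMod m) ^ d.val = tl d := by
  rw [tl_pow]; simp

theorem ap_solvable {p i : ℕ} [Fact p.Prime] (hp2 : p ≠ 2) (hi : 1 ≤ i) (H : Subgroup (Perm (ZMod (p ^ i))))
    (hs : Group.IsSolvable H) (hu : tl 1 ∈ H) {h : Perm (ZMod (p ^ i))} (hh : h ∈ H)
    {d : ZMod (p ^ i)} (hd : (p : ZMod (p ^ i)) * d = 0) :
    (∀ x, (p : ZMod (p ^ i)) * (h (x + d) - h x) = 0) ∧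
      ∀ x, h (h⁻¹ (x + d) + d) = h (h⁻¹ x + d) + d := by
  classical
  have hp := (Fact.out : p.Prime)
  have : NeZero (p ^ i) := ⟨pow_ne_zero _ hp.ne_zero⟩
  have hm1 : 1 < p ^ i := Nat.one_lt_pow (by omega) hp.one_lt
  have : Fact (1 < p ^ i) := ⟨hm1⟩
  have htl : ∀ d, tl d ∈ H := fun d => by rw [← tl_one_pow_val]; exact H.pow_mem hu _
  have hH : H ≠ ⊥ := by
    intro e
    rw [e, mem_bot] at hu
    have := congrArg (fun g : Perm (ZMod (p ^ i)) => g 0) hu
    simp at this
  obtain ⟨N, hN, hNH, hab, hnorm⟩ := H2.exists_abelian_normal hs hH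
  -- orbit of `0`
  let D : AddSubgroup (ZMod (p ^ i)) :=
    { carrier := {x | ∃ a ∈ N, a 0 = x}
      zero_mem' := ⟨1, N.one_mem, rfl⟩
      add_mem' := by
        rintro _ _ ⟨a, ha, rfl⟩ ⟨b, hb, rfl⟩
        refine ⟨tl (a 0) * b * (tl (a 0))⁻¹ * a, N.mul_mem (hnorm _ (htl _) _ hb) ha, ?_⟩
        simp [add_comm]
      neg_mem' := by
        rintro _ ⟨a, ha, rfl⟩
        refine ⟨(tl (a 0))⁻¹ * a⁻¹ * (tl (a 0))⁻¹⁻¹, hnorm _ (H.inv_mem (htl _)) _ (N.inv_mem ha), ?_⟩
        simp }
  have hD1 : Nat.card D ≠ 1 := by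
    intro e
    rw [AddSubgroup.card_eq_one] at e
    apply hN
    rw [eq_bot_iff_forall]
    intro a ha
    ext x
    have h1 : ((tl x)⁻¹ * a * (tl x)⁻¹⁻¹) 0 ∈ D := ⟨_, hnorm _ (H.inv_mem (htl _)) _ ha, rfl⟩
    rw [e, AddSubgroup.mem_bot] at h1
    simpa [sub_eq_zero] using h1
  have hpD : p ∣ Nat.card D := by
    have h1 := AddSubgroup.card_addSubgroup_dvd_card D
    rw [Nat.card_zmod] at h1
    obtain ⟨s, -, hs⟩ := (Nat.dvd_prime_pow hp).1 h1
    rw [hs] at hD1 ⊢
    exact dvd_pow_self _ (by rintro rfl; simp at hD1)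
  have hpN : p ∣ Nat.card N := by
    refine hpD.trans ?_
    have h1 : Nat.card D = Nat.card (MulAction.orbit N (0 : ZMod (p ^ i))) := by
      apply Nat.card_congr
      apply Equiv.setCongr
      ext x
      constructor
      · rintro ⟨a, ha, rfl⟩; exact ⟨⟨a, ha⟩, rfl⟩
      · rintro ⟨a, rfl⟩; exact ⟨a, a.2, rfl⟩
    rw [h1, Nat.card_coe_set_eq, ← MulAction.index_stabilizer]
    exact index_dvd_card _
  obtain ⟨a0, ha0⟩ := exists_prime_orderOf_dvd_card' p hpN
  let A : Subgroup (Perm (ZMod (p ^ i))) :=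
    { carrier := {a | a ∈ N ∧ a ^ p = 1}
      one_mem' := ⟨N.one_mem, one_pow _⟩
      mul_mem' := fun {a b} ha hb => ⟨N.mul_mem ha.1 hb.1, by
        rw [Commute.mul_pow (hab a ha.1 b hb.1), ha.2, hb.2, one_mul]⟩
      inv_mem' := fun {a} ha => ⟨N.inv_mem ha.1, by rw [inv_pow, ha.2, inv_one]⟩ }
  have hAp : IsPGroup p A := fun g => ⟨1, Subtype.ext (by simpa using g.2.2)⟩
  have hAn : ∀ g ∈ H, ∀ a ∈ A, g * a * g⁻¹ ∈ A := fun g hg a ha =>
    ⟨hnorm g hg a ha.1, by rw [conj_pow, ha.2]; simp⟩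
  have hAc : ∀ a ∈ A, ∀ b ∈ A, ∀ x, a (b x) = b (a x) := fun a ha b hb x =>
    congrArg (fun g : Perm (ZMod (p ^ i)) => g x) (hab a ha.1 b hb.1)
  have hu' : (tl 1 : Perm (ZMod (p ^ i))) ^ p ^ i = 1 := by
    rw [tl_pow]; ext x; simp [-Nat.cast_pow]
  have ha0A : (a0 : Perm (ZMod (p ^ i))) ∈ A := ⟨a0.2, by
    have := pow_orderOf_eq_one a0
    rw [ha0] at this
    exact congrArg Subtype.val this⟩
  have ha01 : (a0 : Perm (ZMod (p ^ i))) ≠ 1 := by
    intro e
    have : a0 = 1 := Subtype.ext e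
    rw [this, orderOf_one] at ha0
    exact hp.one_lt.ne ha0
  have hind : ∀ P : ZMod (p ^ i) → Prop, P 0 → (∀ x, P x → P (x + 1)) → ∀ x, P x := by
    intro P h0 hs x
    have : ∀ j : ℕ, P j := by
      intro j
      induction j with
      | zero => simpa using h0
      | succ j ih => push_cast; exact hs _ ih
    simpa using this x.val
  -- all translations of order `p` lie in `A`
  obtain ⟨y, hyA, hy1, hy2⟩ := ap_exists_step A hAp (tl 1) hu' (hAn _ hu) (fun g => g = 1) rfl ha0A ha01
  have hy3 : y = tl (y 0) := by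
    have h1 : ∀ x, y (x + 1) = y x + 1 := by
      intro x
      have h2 : tl 1 * y * (tl 1)⁻¹ = y := by rw [← mul_inv_eq_one]; exact hy2
      have := congrArg (fun g : Perm (ZMod (p ^ i)) => g (x + 1)) h2
      simpa using this.symm
    ext x
    rw [tl_apply]
    refine hind (fun x => y x = x + y 0) (by simp) (fun x hx => ?_) x
    rw [h1, hx]; ring
  have htA : ∀ e : ZMod (p ^ i), (p : ZMod (p ^ i)) * e = 0 → tl e ∈ A := by
    intro e he
    have h0 : y 0 ≠ 0 := by
      intro e0
      apply hy1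
      rw [hy3, e0]; ext x; simp
    have hk : (p : ZMod (p ^ i)) * y 0 = 0 := by
      have h2 := hyA.2
      rw [hy3, tl_pow] at h2
      have := congrArg (fun g : Perm (ZMod (p ^ i)) => g 0) h2
      simpa using this
    obtain ⟨j, hj⟩ := zmod_exists_nsmul h0 hk he
    rw [hj, ← tl_pow, ← hy3]
    exact A.pow_mem hyA _
  -- every element of `A` preserves the orbits of these translations
  have hK : ∀ a ∈ A, ∀ x, (p : ZMod (p ^ i)) * (a x - x) = 0 := by
    by_contra hc
    push Not at hc
    obtain ⟨a, ha, hc⟩ := hc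
    obtain ⟨y, hyA, hy1, hy2⟩ := ap_exists_step A hAp (tl 1) hu' (hAn _ hu)
      (fun g => ∀ x, (p : ZMod (p ^ i)) * (g x - x) = 0) (by simp) ha (by push Not; exact hc)
    apply hy1
    set c := y 0 with hc
    have hF : ∀ x, (p : ZMod (p ^ i)) * (y x - x - c) = 0 := by
      refine hind _ (by simp [hc]) fun x hx => ?_
      have := hy2 (y (x + 1))
      simp only [Perm.mul_apply, tl_apply, tl_inv_apply, Perm.coe_inv, symm_apply_apply, add_sub_cancel_right] at this
      linear_combination hx - this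
    have hper : ∀ x e, (p : ZMod (p ^ i)) * e = 0 → y (x + e) = y x + e := fun x e he => by
      have := hAc y hyA _ (htA e he) x
      simpa using this
    have hG : ∀ x, y (x + c) - y x = y c - y 0 := by
      refine hind _ (by simp) fun x hx => ?_
      have h1 := hAc y hyA _ (hAn _ hu y hyA) (x + 1)
      simp only [Perm.mul_apply, tl_apply, tl_inv_apply, add_sub_cancel_right] at h1
      have h2 := hper (x + 1 + c) (y x - x - c) (hF x)
      have h3 := hper (x + c) (y (x + 1) - (x + 1) - c) (hF (x + 1))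
      rw [show x + 1 + c + (y x - x - c) = y x + 1 by ring] at h2
      rw [show x + c + (y (x + 1) - (x + 1) - c) = y (x + 1) - 1 by ring] at h3
      linear_combination hx + h1 - h2 + h3
    set γ := y c - c - c with hγ
    have hpγ : (p : ZMod (p ^ i)) * γ = 0 := hF c
    have hFj : ∀ j : ℕ, y (j * c) = j * c + c + j * γ := by
      intro j
      induction j with
      | zero => simp [hc]
      | succ j ih =>
        have := hG (j * c)
        push_cast
        rw [show ((j : ZMod (p ^ i)) + 1) * c = j * c + c by ring]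
        linear_combination this + ih
    have hyj : ∀ j : ℕ, (y ^ j) 0 = j * c + (j.choose 2 : ℕ) * γ := by
      intro j
      induction j with
      | zero => simp
      | succ j ih =>
        rw [pow_succ', Perm.mul_apply, ih, hper _ _ (by rw [mul_left_comm, hpγ, mul_zero]), hFj,
          Nat.choose_succ_succ' j 1]
        push_cast
        simp only [Nat.choose_one_right]
        ring
    have h4 := hyj p
    rw [hyA.2] at h4
    obtain ⟨t, ht⟩ : p ∣ p.choose 2 := hp.dvd_choose_self (by norm_num) (by have := hp.two_le; omega)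
    rw [ht] at h4
    push_cast at h4
    have hpc : (p : ZMod (p ^ i)) * c = 0 := by
      have : (0 : ZMod (p ^ i)) = p * c + t * (p * γ) := by
        rw [id] at h4
        linear_combination h4
      rw [hpγ] at this
      linear_combination -this
    intro x
    linear_combination hF x + hpc
  have hz := hAn h hh _ (htA d hd)
  refine ⟨fun x => ?_, fun x => ?_⟩
  · have := hK _ hz (h x)
    simpa using this
  · have := hAc _ hz _ (htA d hd) x
    simpa using this

end Cfsg.Agent.H4
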