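import Cfsg.Agent.H4.AP1
import Cfsg.Agent.H3.Syl2b

/-! Pairs of `p`-elements of symmetric groups generating a non-solvable group. -/

set_option autoImplicit false

namespace Cfsg.Agent.H4

open Equiv Subgroup

def GoodP (p : ℕ) {α : Type*} (u w : Perm α) : Prop :=
  (¬ ∃ k, orderOf (u * w) = p ^ k) ∧ ¬ Group.IsSolvable (closure ({u, w} : Set (Perm α)))

theorem apply_eq_of_pow_coprime {α : Type*} {g : Perm α} {x : α} {a b : ℕ} (ha : (g ^ a) x = x)
    (hb : (g ^ b) x = x) (hab : Nat.Coprime a b) : g x = x := by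
  have h1 : Function.IsPeriodicPt g a x := by rw [Perm.coe_pow] at ha; exact ha
  have h2 : Function.IsPeriodicPt g b x := by rw [Perm.coe_pow] at hb; exact hb
  have := h1.gcd h2
  rw [hab] at this
  simpa [Function.IsPeriodicPt, Function.IsFixedPt] using this

theorem not_ppow_of_cycle {α : Type*} {g : Perm α} {x : α} {r p : ℕ} (hr : (g ^ r) x = x)
    (hx : g x ≠ x) (hc : Nat.Coprime r p) : ¬ ∃ k, orderOf g = p ^ k := by
  rintro ⟨k, hk⟩
  refine hx (apply_eq_of_pow_coprime hr (b := p ^ k) ?_ (hc.pow_right k))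
  rw [← hk, pow_orderOf_eq_one]; rfl

theorem GoodP.of_emb {p : ℕ} (hp : p.Prime) {α β : Type*} {u w : Perm α} {u0 w0 : Perm β}
    (f : β → α) (hf : Function.Injective f) (hu : ∀ x, u (f x) = f (u0 x)) (hw : ∀ x, w (f x) = f (w0 x))
    (h : GoodP p u0 w0) : GoodP p u w := by
  let R : Subgroup (Perm α × Perm β) :=
    { carrier := {g | ∀ x, g.1 (f x) = f (g.2 x)}
      one_mem' := fun _ => rfl
      mul_mem' := fun {a b} ha hb x => by
        simp only [Prod.fst_mul, Prod.snd_mul, Perm.mul_apply]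
        rw [hb, ha]
      inv_mem' := fun {a} ha x => by
        simp only [Prod.fst_inv, Prod.snd_inv]
        rw [Perm.inv_eq_iff_eq, ha]; simp }
  have hR : ∀ g ∈ R, g.1 = 1 → g.2 = 1 := by
    intro g hg h1
    ext x
    apply hf
    rw [← hg x, h1]; rfl
  have huR : (u, u0) ∈ R := hu
  have hwR : (w, w0) ∈ R := hw
  refine ⟨fun ⟨k, hk⟩ => h.1 ?_, fun hs => h.2 ?_⟩
  · have h1 := hR _ (R.pow_mem (R.mul_mem huR hwR) (p ^ k)) (by
      simp only [Prod.mk_mul_mk, Prod.pow_mk]; rw [← hk, pow_orderOf_eq_one])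
    simp only [Prod.mk_mul_mk, Prod.pow_mk] at h1
    obtain ⟨j, -, hj⟩ := (Nat.dvd_prime_pow hp).1 (orderOf_dvd_of_pow_eq_one h1)
    exact ⟨j, hj⟩
  · let K : Subgroup (Perm α × Perm β) := closure {(u, u0), (w, w0)}
    have hKR : K ≤ R := by
      rw [closure_le]
      rintro _ (rfl | rfl)
      exacts [huR, hwR]
    have m1 : K.map (MonoidHom.fst _ _) = closure {u, w} := by
      rw [MonoidHom.map_closure]; simp [Set.image_insert_eq]
    have m2 : K.map (MonoidHom.snd _ _) = closure {u0, w0} := by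
      rw [MonoidHom.map_closure]; simp [Set.image_insert_eq]
    rw [← m1] at hs
    rw [← m2]
    have hK : Group.IsSolvable K := by
      refine Group.isSolvable_of_isSolvable_injective (f := (MonoidHom.fst _ _).subgroupMap K) ?_
      rw [injective_iff_map_eq_one]
      intro g hg
      have h1 : (g : Perm α × Perm β).1 = 1 := congrArg Subtype.val hg
      exact Subtype.ext (Prod.ext h1 (hR _ (hKR g.2) h1))
    exact Group.isSolvable_of_surjective (MonoidHom.subgroupMap_surjective (MonoidHom.snd _ _) K)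

theorem GoodP.swap {p : ℕ} {α : Type*} {u w : Perm α} (h : GoodP p u w) : GoodP p w u := by
  refine ⟨?_, by rw [Set.pair_comm]; exact h.2⟩
  have : orderOf (w * u) = orderOf (u * w) := by
    rw [show w * u = u⁻¹ * (u * w) * u⁻¹⁻¹ by group]
    exact (MulAut.conj u⁻¹).orderOf_eq _
  rw [this]; exact h.1

def BothP (p : ℕ) {α : Type*} [Fintype α] [DecidableEq α] (u w : Perm α) : Prop :=
  ∀ s : ℤˣ, ∃ g : Perm α, Perm.sign g = s ∧ GoodP p u (g * w * g⁻¹)

theorem BothP.of_two {p : ℕ} {α : Type*} [Fintype α] [DecidableEq α] {u w : Perm α} (g1 g2 : Perm α)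
    (hs : Perm.sign g1 ≠ Perm.sign g2) (h1 : GoodP p u (g1 * w * g1⁻¹)) (h2 : GoodP p u (g2 * w * g2⁻¹)) :
    BothP p u w := by
  intro s
  by_cases e : Perm.sign g1 = s
  · exact ⟨g1, e, h1⟩
  · refine ⟨g2, ?_, h2⟩
    rcases Int.units_eq_one_or (Perm.sign g1) with a | a <;>
    rcases Int.units_eq_one_or (Perm.sign g2) with b | b <;>
    rcases Int.units_eq_one_or s with c | c <;> simp_all

theorem BothP.swap {p : ℕ} (hp : p.Prime) {α : Type*} [Fintype α] [DecidableEq α] {u w : Perm α}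
    (h : BothP p u w) : BothP p w u := by
  intro s
  obtain ⟨g, hg, h1⟩ := h s
  refine ⟨g⁻¹, by simpa using hg, ?_⟩
  refine GoodP.of_emb hp (g⁻¹ : Perm α) (g⁻¹ : Perm α).injective ?_ ?_ h1.swap <;> intro x <;> simp

theorem BothP.of_emb {p : ℕ} (hp : p.Prime) {α β : Type*} [Fintype α] [DecidableEq α] [Fintype β]
    [DecidableEq β] {u w : Perm α} {u0 w0 : Perm β}
    (fu fw : β → α) (hfu : Function.Injective fu) (hfw : Function.Injective fw)
    (hu : ∀ x, u (fu x) = fu (u0 x)) (hw : ∀ x, w (fw x) = fw (w0 x))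
    (h : BothP p u0 w0) : BothP p u w := by
  intro s
  obtain ⟨g0, hg0⟩ := Perm.exists_extending_pair fw fu hfw hfu
  obtain ⟨γ, hγ, h1⟩ := h (s * Perm.sign g0)
  let E : Perm α := γ.viaFintypeEmbedding ⟨fu, hfu⟩
  have hE : ∀ x, E (fu x) = fu (γ x) := fun x => Perm.viaFintypeEmbedding_apply_image γ ⟨fu, hfu⟩ x
  refine ⟨E * g0, ?_, GoodP.of_emb hp fu hfu hu (fun x => ?_) h1⟩
  · rw [map_mul, Perm.viaFintypeEmbedding_sign, hγ, mul_assoc, Int.units_mul_self, mul_one]
  · have h2 : (E * g0)⁻¹ (fu x) = fw (γ⁻¹ x) := by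
      rw [Perm.inv_eq_iff_eq, Perm.mul_apply, hg0, hE]; simp
    rw [Perm.mul_apply, h2, Perm.mul_apply, Perm.mul_apply, hw, hg0, hE]
    rfl

theorem bothP_of_local {p : ℕ} {β ι : Type*} [Fintype β] [DecidableEq β] [Fintype ι] {u w : Perm β}
    (f g : ι → β) (hf : Function.Injective f) (hg : Function.Injective g)
    (hc : Fintype.card ι + 2 ≤ Fintype.card β)
    (h : ∀ σ : Perm β, (∀ a, σ (f a) = g a) → GoodP p u (σ * w * σ⁻¹)) : BothP p u w := by
  obtain ⟨σ, hσ⟩ := Perm.exists_extending_pair f g hf hg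
  have h1 : 1 < (Finset.univ.image g)ᶜ.card := by
    rw [Finset.card_compl, Finset.card_image_of_injective _ hg, Finset.card_univ]; omega
  obtain ⟨a, ha, b, hb, hab⟩ := Finset.one_lt_card.1 h1
  simp only [Finset.mem_compl, Finset.mem_image, Finset.mem_univ, true_and, not_exists] at ha hb
  refine BothP.of_two σ (Equiv.swap a b * σ) ?_ (h σ hσ) (h _ fun c => ?_)
  · rw [map_mul, Perm.sign_swap hab]
    rcases Int.units_eq_one_or (Perm.sign σ) with e | e <;> rw [e] <;> decide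
  · rw [Perm.mul_apply, hσ, swap_apply_of_ne_of_ne (ha c) (hb c)]

theorem inj4 {α : Type*} {a b c d : α} (h1 : a ≠ b) (h2 : a ≠ c) (h3 : a ≠ d) (h4 : b ≠ c) (h5 : b ≠ d)
    (h6 : c ≠ d) : Function.Injective ![a, b, c, d] :=
  List.nodup_ofFn.1 (by simp [*])

theorem inj5 {α : Type*} {a b c d e : α} (h1 : a ≠ b) (h2 : a ≠ c) (h3 : a ≠ d) (h4 : a ≠ e) (h5 : b ≠ c)
    (h6 : b ≠ d) (h7 : b ≠ e) (h8 : c ≠ d) (h9 : c ≠ e) (h10 : d ≠ e) : Function.Injective ![a, b, c, d, e] :=
  List.nodup_ofFn.1 (by simp [*])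

theorem inj6 {α : Type*} {a b c d e f : α} (h1 : a ≠ b) (h2 : a ≠ c) (h3 : a ≠ d) (h4 : a ≠ e) (h5 : a ≠ f)
    (h6 : b ≠ c) (h7 : b ≠ d) (h8 : b ≠ e) (h9 : b ≠ f) (h10 : c ≠ d) (h11 : c ≠ e) (h12 : c ≠ f)
    (h13 : d ≠ e) (h14 : d ≠ f) (h15 : e ≠ f) : Function.Injective ![a, b, c, d, e, f] :=
  List.nodup_ofFn.1 (by simp [*])

theorem zmod_small_ne {m : ℕ} (hm : 7 ≤ m) (a : ℕ) (h0 : 0 < a) (h7 : a < 7) : (a : ZMod m) ≠ 0 := by
  rw [Ne, ZMod.natCast_eq_zero_iff]
  intro h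
  have := Nat.le_of_dvd h0 h
  omega

theorem bothP_zmod {p i k : ℕ} [Fact p.Prime] (hp2 : p ≠ 2) (hm : 7 ≤ p ^ i) [NeZero (p ^ i)]
    (w : Perm (ZMod (p ^ i))) (hw : w ≠ 1) (hk : w ^ p ^ k = 1) : BothP p (tl 1) w := by
  have hp := (Fact.out : p.Prime)
  have hi : 1 ≤ i := by
    rcases i with _ | i
    · simp at hm
    · omega
  have n1 : (1 : ZMod (p ^ i)) ≠ 0 := by simpa using zmod_small_ne hm 1 (by omega) (by omega)
  have n2 : (2 : ZMod (p ^ i)) ≠ 0 := by simpa using zmod_small_ne hm 2 (by omega) (by omega)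
  have n3 : (3 : ZMod (p ^ i)) ≠ 0 := by simpa using zmod_small_ne hm 3 (by omega) (by omega)
  have n4 : (4 : ZMod (p ^ i)) ≠ 0 := by simpa using zmod_small_ne hm 4 (by omega) (by omega)
  have hc2 : Nat.Coprime 2 p := (Nat.coprime_primes Nat.prime_two hp).2 hp2.symm
  obtain ⟨e, e0, e1, e2, e3, he⟩ : ∃ e : ZMod (p ^ i), e ≠ 0 ∧ e ≠ 1 ∧ e ≠ 2 ∧ e ≠ -1 ∧
      (((p : ZMod (p ^ i)) = 0 ∧ e = 3) ∨ ((p : ZMod (p ^ i)) * e = 0 ∧ (p : ZMod (p ^ i)) ≠ 0)) := by
    by_cases h1 : i = 1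
    · refine ⟨3, n3, fun h => n2 (by linear_combination h), fun h => n1 (by linear_combination h),
        fun h => n4 (by linear_combination h), Or.inl ⟨?_, rfl⟩⟩
      subst h1
      rw [ZMod.natCast_eq_zero_iff, pow_one]
    · obtain ⟨j, rfl⟩ : ∃ j, i = j + 2 := ⟨i - 2, by omega⟩
      have h3 : 3 ≤ p := by have := hp.two_le; omega
      have hlt : 2 * p < p ^ (j + 2) := by
        have : p ^ 2 ≤ p ^ (j + 2) := Nat.pow_le_pow_right hp.pos (by omega)
        nlinarith
      have hp0 : (p : ZMod (p ^ (j + 2))) ≠ 0 := by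
        rw [Ne, ZMod.natCast_eq_zero_iff]
        intro h
        have := Nat.le_of_dvd hp.pos h
        omega
      have hp0' : (2 * p : ZMod (p ^ (j + 2))) ≠ 0 := by
        rw [show (2 * p : ZMod (p ^ (j + 2))) = ((2 * p : ℕ) : ZMod (p ^ (j + 2))) by push_cast; rfl,
          Ne, ZMod.natCast_eq_zero_iff]
        intro h
        have := Nat.le_of_dvd (by omega) h
        omega
      have hpe : (p : ZMod (p ^ (j + 2))) * ((p ^ (j + 1) : ℕ) : ZMod (p ^ (j + 2))) = 0 := by
        rw [← Nat.cast_mul, ZMod.natCast_eq_zero_iff, ← pow_succ']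
      refine ⟨((p ^ (j + 1) : ℕ) : ZMod (p ^ (j + 2))), ?_, fun h => hp0 ?_, fun h => hp0' ?_,
        fun h => hp0 ?_, Or.inr ⟨hpe, hp0⟩⟩
      · rw [Ne, ZMod.natCast_eq_zero_iff]
        intro h
        have := (Nat.pow_dvd_pow_iff_le_right hp.one_lt).1 h
        omega
      · rw [h] at hpe; linear_combination hpe
      · rw [h] at hpe; linear_combination hpe
      · rw [h] at hpe; linear_combination -hpe
  have hind : ∀ h : Perm (ZMod (p ^ i)), Group.IsSolvable (closure ({tl 1, h} : Set (Perm (ZMod (p ^ i))))) →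
      (h e + 3 * h 1 = h 0 + 3 * h 2 ∧ h 1 + h 1 = h 0 + h 2) ∨ (h e = h 0 + 1 → False) ∧ (h e = h 0 - 1 → False) := by
    intro h hs
    have hu : tl 1 ∈ closure ({tl 1, h} : Set (Perm (ZMod (p ^ i)))) := subset_closure (by simp)
    have hh : h ∈ closure ({tl 1, h} : Set (Perm (ZMod (p ^ i)))) := subset_closure (by simp)
    rcases he with ⟨hp0, rfl⟩ | ⟨hpe, hp0⟩
    · left
      have h1 := (ap_solvable hp2 hi _ hs hu hh (d := 1) (by simp [hp0])).2
      have h2 : ∀ j : ℕ, ∀ x, h (h⁻¹ (x + j) + 1) = h (h⁻¹ x + 1) + j := by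
        intro j x
        induction j with
        | zero => simp
        | succ j ih => push_cast; rw [← add_assoc, h1, ih, add_assoc]
      have h3 : ∀ y, h (y + 1) = h 1 + (h y - h 0) := by
        intro y
        have := h2 (h y - h 0).val (h 0)
        simpa using this
      have a1 := h3 1
      have a2 := h3 2
      rw [one_add_one_eq_two] at a1
      rw [show (2 : ZMod (p ^ i)) + 1 = 3 by norm_num] at a2
      exact ⟨by linear_combination a2 - 2 * a1, by linear_combination -a1⟩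
    · right
      have h1 := (ap_solvable hp2 hi _ hs hu hh hpe).1 0
      rw [zero_add] at h1
      exact ⟨fun h2 => hp0 (by rw [h2] at h1; linear_combination h1),
        fun h2 => hp0 (by rw [h2] at h1; linear_combination -h1)⟩
  have hodd : ∀ x, w (w x) = x → w x = x := fun x hx =>
    apply_eq_of_pow_coprime (a := 2) (b := p ^ k) (by simpa [pow_two] using hx) (by rw [hk]; rfl)
      (hc2.pow_right k)
  by_cases hfix : ∃ x, w x = x
  · obtain ⟨φ, hφ⟩ := hfix
    obtain ⟨γ, hγ⟩ : ∃ γ, w γ ≠ γ := by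
      by_contra hc
      push Not at hc
      exact hw (Equiv.ext hc)
    obtain ⟨ε, rfl⟩ := w.surjective γ
    have d1 : w ε ≠ ε := fun h => hγ (by rw [h, h])
    have d2 : w (w ε) ≠ ε := fun h => d1 (hodd _ h)
    have d3 : ε ≠ φ := fun h => d1 (by rw [h, hφ])
    have d4 : w ε ≠ φ := fun h => hγ (by rw [h, hφ])
    have d5 : w (w ε) ≠ φ := fun h => d4 (w.injective (by rw [h, hφ]))
    refine bothP_of_local ![ε, φ, w ε, w (w ε)] ![e, 0, 1, -1] ?_ ?_ (by simp; omega) fun σ hσ => ?_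
    · exact inj4 d3 d1.symm d2.symm d4.symm d5.symm hγ.symm
    · have m1 : (1 : ZMod (p ^ i)) ≠ -1 := fun h => n2 (by linear_combination h)
      have m2 : (0 : ZMod (p ^ i)) ≠ -1 := fun h => n1 (by linear_combination h)
      exact inj4 e0 e1 e3 n1.symm m2 m1
    · have s0 : σ ε = e := hσ 0
      have s1 : σ φ = 0 := hσ 1
      have s2 : σ (w ε) = 1 := hσ 2
      have s3 : σ (w (w ε)) = -1 := hσ 3
      have t0 : (σ * w * σ⁻¹) e = 1 := by rw [← s0]; simpa using s2
      have t1 : (σ * w * σ⁻¹) 0 = 0 := by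
        conv_lhs => rw [← s1]
        simpa [hφ] using s1
      have t2 : (σ * w * σ⁻¹) 1 = -1 := by
        conv_lhs => rw [← s2]
        simpa using s3
      generalize σ * w * σ⁻¹ = h at t0 t1 t2
      refine ⟨not_ppow_of_cycle (x := 0) (r := 2) (by simp [pow_two, t1, t2]) (by simpa [t1] using n1) hc2,
        fun hs => ?_⟩
      rcases hind h hs with ⟨a, b⟩ | ⟨a, -⟩
      · rw [t0, t1, t2] at a
        rw [t1, t2] at b
        exact n4 (by linear_combination a - 3 * b)
      · exact a (by rw [t0, t1, zero_add])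
  · push Not at hfix
    obtain ⟨η⟩ : Nonempty (ZMod (p ^ i)) := ⟨0⟩
    obtain ⟨γ, hγ⟩ : ∃ γ, γ ∉ ({η, w η, w (w η), w (w (w η))} : Finset (ZMod (p ^ i))) := by
      apply H3.exists_not_mem_of_card_lt
      refine lt_of_le_of_lt Finset.card_le_four ?_
      simp; omega
    simp only [Finset.mem_insert, Finset.mem_singleton, not_or] at hγ
    obtain ⟨g1, g2, g3, g4⟩ := hγ
    have d1 := hfix (w η)
    have d2 := hfix (w (w η))
    have d3 : w (w (w η)) ≠ w η := fun h => d1 (hodd _ h)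
    have d4 := hfix γ
    have d5 : w γ ≠ w η := fun h => g1 (w.injective h)
    have d6 : w γ ≠ w (w η) := fun h => g2 (w.injective h)
    have d7 : w γ ≠ w (w (w η)) := fun h => g3 (w.injective h)
    refine bothP_of_local ![w η, w (w η), w (w (w η)), γ, w γ] ![e, 0, 1, 2, -1] ?_ ?_ (by simp; omega)
      fun σ hσ => ?_
    · exact inj5 d1.symm d3.symm (Ne.symm g2) d5.symm d2.symm (Ne.symm g3) d6.symm (Ne.symm g4) d7.symm d4.symm
    · have m1 : (1 : ZMod (p ^ i)) ≠ -1 := fun h => n2 (by linear_combination h)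
      have m2 : (0 : ZMod (p ^ i)) ≠ -1 := fun h => n1 (by linear_combination h)
      have m3 : (2 : ZMod (p ^ i)) ≠ -1 := fun h => n3 (by linear_combination h)
      have m4 : (2 : ZMod (p ^ i)) ≠ 1 := fun h => n1 (by linear_combination h)
      exact inj5 e0 e1 e2 e3 n1.symm n2.symm m2 m4.symm m1 m3
    · have s0 : σ (w η) = e := hσ 0
      have s1 : σ (w (w η)) = 0 := hσ 1
      have s2 : σ (w (w (w η))) = 1 := hσ 2
      have s3 : σ γ = 2 := hσ 3
      have s4 : σ (w γ) = -1 := hσ 4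
      have t0 : (σ * w * σ⁻¹) e = 0 := by rw [← s0]; simpa using s1
      have t1 : (σ * w * σ⁻¹) 0 = 1 := by
        conv_lhs => rw [← s1]
        simpa using s2
      have t2 : (σ * w * σ⁻¹) 2 = -1 := by
        conv_lhs => rw [← s3]
        simpa using s4
      generalize σ * w * σ⁻¹ = h at t0 t1 t2
      refine ⟨not_ppow_of_cycle (x := 0) (r := 2) (by simp [pow_two, t1, t2, one_add_one_eq_two])
        (by simpa [t1, one_add_one_eq_two] using n2) hc2, fun hs => ?_⟩
      rcases hind h hs with ⟨a, b⟩ | ⟨-, a⟩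
      · rw [t0, t1, t2] at a
        rw [t1, t2] at b
        exact n4 (by linear_combination 2 * a - 3 * b)
      · exact a (by rw [t0, t1, sub_self])

end Cfsg.Agent.H4
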