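import Cfsg.Agent.H4.AP2

/-! Pairs of `p`-elements of symmetric groups: small cases and the reduction. -/

set_option autoImplicit false

namespace Cfsg.Agent.H4

open Equiv Subgroup

def wd2 {G : Type*} [Group G] (a b : G) : List Bool → G
  | [] => 1
  | t :: l => (if t then a else b) * wd2 a b l

theorem wd2_mem {G : Type*} [Group G] (a b : G) (l : List Bool) : wd2 a b l ∈ closure ({a, b} : Set G) := by
  induction l with
  | nil => exact one_mem _
  | cons t l ih =>
    refine mul_mem ?_ ih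
    cases t <;> exact subset_closure (by simp)

theorem not_solvable_of_words {G : Type*} [Group G] {a b : G} (ha : a ≠ 1) (l1 l2 l3 l4 : List Bool)
    (h1 : wd2 a b l1 * wd2 a b l2 = a * (wd2 a b l2 * wd2 a b l1))
    (h2 : wd2 a b l3 * wd2 a b l4 = b * (wd2 a b l4 * wd2 a b l3)) :
    ¬ Group.IsSolvable (closure ({a, b} : Set G)) := by
  intro hs
  set H := closure ({a, b} : Set G) with hH
  have hne : H ≠ ⊥ := fun e => ha (by
    have : a ∈ H := subset_closure (by simp)
    rwa [e, mem_bot] at this)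
  have : Nontrivial H := (nontrivial_iff_ne_bot H).2 hne
  have h3 := Group.IsSolvable.commutator_lt_top_of_nontrivial H
  apply h3.ne
  apply map_injective H.subtype_injective
  rw [map_subtype_commutator, ← MonoidHom.range_eq_map, range_subtype]
  refine le_antisymm (commutator_le_self H) ?_
  conv_lhs => rw [hH]
  rw [closure_le]
  rw [Set.insert_subset_iff, Set.singleton_subset_iff]
  constructor
  · have := commutator_mem_commutator (wd2_mem a b l1) (wd2_mem a b l2)
    rw [commutatorElement_def, h1] at this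
    simpa [mul_assoc] using this
  · have := commutator_mem_commutator (wd2_mem a b l3) (wd2_mem a b l4)
    rw [commutatorElement_def, h2] at this
    simpa [mul_assoc] using this

def q5 : Perm (Fin 5) := ⟨![1, 2, 3, 4, 0], ![4, 0, 1, 2, 3], by decide, by decide⟩
def q3 : Perm (Fin 5) := ⟨![1, 2, 0, 3, 4], ![2, 0, 1, 3, 4], by decide, by decide⟩
def q33 : Perm (Fin 6) := ⟨![1, 2, 0, 4, 5, 3], ![2, 0, 1, 5, 3, 4], by decide, by decide⟩
def q31 : Perm (Fin 6) := ⟨![1, 2, 0, 3, 4, 5], ![2, 0, 1, 3, 4, 5], by decide, by decide⟩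

theorem q5_eq : ∀ k : Fin 5, q5 k = k + 1 := by decide

theorem both_q5 : BothP 5 q5 q5 := by
  refine BothP.of_two (swap 2 4) (swap 1 2 * swap 3 4) (by decide +kernel) ⟨?_, ?_⟩ ⟨?_, ?_⟩
  · exact not_ppow_of_cycle (x := 0) (r := 3) (by decide +kernel) (by decide +kernel) (by decide +kernel)
  · exact not_solvable_of_words (by decide +kernel) [false, false] [false, true] [true, true] [true, false]
      (by decide +kernel) (by decide +kernel)
  · exact not_ppow_of_cycle (x := 0) (r := 3) (by decide +kernel) (by decide +kernel) (by decide +kernel)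
  · exact not_solvable_of_words (by decide +kernel) [false] [false, false, false, true] [true]
      [true, true, true, false] (by decide +kernel) (by decide +kernel)

theorem both_q3 : BothP 3 q3 q3 := by
  have key : GoodP 3 q3 ((swap 1 3 * swap 2 4) * q3 * (swap 1 3 * swap 2 4)⁻¹) :=
    ⟨not_ppow_of_cycle (x := 0) (r := 5) (by decide +kernel) (by decide +kernel) (by decide +kernel),
      not_solvable_of_words (by decide +kernel) [false, true, true, false] [false, true, false]
        [true, false, true, true] [true, false, true] (by decide +kernel) (by decide +kernel)⟩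
  refine BothP.of_two (swap 1 3 * swap 2 4) (swap 1 3 * swap 2 4 * swap 3 4) (by decide +kernel) key ?_
  convert key using 1
  decide +kernel

theorem both_q33 : BothP 3 q33 q33 := by
  have key : GoodP 3 q33 ((swap 2 3 * swap 4 5) * q33 * (swap 2 3 * swap 4 5)⁻¹) :=
    ⟨not_ppow_of_cycle (x := 0) (r := 5) (by decide +kernel) (by decide +kernel) (by decide +kernel),
      not_solvable_of_words (by decide +kernel) [false, true, true, false] [false, true, false]
        [true, false, true, true] [true, false, true] (by decide +kernel) (by decide +kernel)⟩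
  refine BothP.of_two (swap 2 3 * swap 4 5) (swap 2 3 * swap 4 5 * (swap 0 3 * swap 1 4 * swap 2 5))
    (by decide +kernel) key ?_
  convert key using 1
  decide +kernel

theorem both_q31 : BothP 3 q33 q31 := by
  have key : GoodP 3 q33 ((swap 1 3 * swap 1 2) * q31 * (swap 1 3 * swap 1 2)⁻¹) :=
    ⟨not_ppow_of_cycle (x := 1) (r := 5) (by decide +kernel) (by decide +kernel) (by decide +kernel),
      not_solvable_of_words (by decide +kernel) [false, true, false, true, true, false, true, false, false] [true]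
        [true, true, false, true, false, false, true, false, true] [false] (by decide +kernel) (by decide +kernel)⟩
  refine BothP.of_two (swap 1 3 * swap 1 2) (swap 1 3 * swap 1 2 * swap 4 5) (by decide +kernel) key ?_
  convert key using 1
  decide +kernel

section
variable {α : Type*} [Fintype α] [DecidableEq α]

/-- the cycle of `g` through `x` -/
noncomputable def orbZ (g : Perm α) (x : α) : Finset α := H3.orbFin (zpowers g) x

theorem card_orbZ (g : Perm α) (x : α) : (orbZ g x).card = Function.minimalPeriod g x := by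
  classical
  rw [orbZ, H3.card_orbFin, Nat.card_eq_fintype_card, ← MulAction.minimalPeriod_eq_card]
  rfl

theorem self_mem_orbZ (g : Perm α) (x : α) : x ∈ orbZ g x := H3.self_mem_orbFin _ _

theorem apply_mem_orbZ_iff (g : Perm α) (x y : α) : g y ∈ orbZ g x ↔ y ∈ orbZ g x :=
  H3.apply_mem_orbFin_iff (mem_zpowers g)

theorem orbZ_subset {g : Perm α} {X : Finset α} (hX : ∀ x, g x ∈ X ↔ x ∈ X) {x : α} (hx : x ∈ X) :
    orbZ g x ⊆ X := by
  intro y hy
  obtain ⟨k, ⟨j, rfl⟩, rfl⟩ := H3.mem_orbFin.1 hy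
  change (g ^ j) x ∈ X
  clear hy
  induction j using Int.induction_on with
  | zero => simpa using hx
  | succ j ih => rw [add_comm, zpow_one_add, Perm.mul_apply, hX]; exact ih
  | pred j ih =>
    rw [← hX, ← Perm.mul_apply, ← zpow_one_add]
    simpa using ih

theorem card_orbZ_pow {p k : ℕ} (hp : p.Prime) {g : Perm α} (hg : g ^ p ^ k = 1) (x : α) :
    ∃ j, (orbZ g x).card = p ^ j := by
  rw [card_orbZ]
  have : Function.IsPeriodicPt g (p ^ k) x := by
    have : (g ^ p ^ k) x = x := by rw [hg]; rfl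
    rw [Perm.coe_pow] at this; exact this
  obtain ⟨j, -, hj⟩ := (Nat.dvd_prime_pow hp).1 this.minimalPeriod_dvd
  exact ⟨j, hj⟩

theorem exists_inv_subset {p k : ℕ} (hp : p.Prime) {g : Perm α} (hg : g ^ p ^ k = 1) (T : ℕ) :
    ∀ X : Finset α, (∀ x, g x ∈ X ↔ x ∈ X) → T ≤ X.card → (∀ x ∈ X, (orbZ g x).card ∣ T) →
      ∃ Y : Finset α, Y ⊆ X ∧ (∀ x, g x ∈ Y ↔ x ∈ Y) ∧ Y.card = T ∧
        (0 < T → ∃ x ∈ Y, ∀ y ∈ X, (orbZ g y).card ≤ (orbZ g x).card) := by
  induction T using Nat.strong_induction_on with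
  | _ T ih =>
  intro X hX hT hd
  rcases Nat.eq_zero_or_pos T with rfl | h0
  · exact ⟨∅, Finset.empty_subset _, by simp, rfl, fun h => absurd h (lt_irrefl _)⟩
  obtain ⟨x, hx, hmax⟩ := X.exists_max_image (fun x => (orbZ g x).card) (Finset.card_pos.1 (by omega))
  have hsub := orbZ_subset hX hx
  have hle : (orbZ g x).card ≤ T := Nat.le_of_dvd h0 (hd x hx)
  have hpos : 0 < (orbZ g x).card := Finset.card_pos.2 ⟨x, self_mem_orbZ g x⟩
  obtain ⟨Y, hY1, hY2, hY3, -⟩ := ih (T - (orbZ g x).card) (by omega) (X \ orbZ g x)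
    (fun y => by simp only [Finset.mem_sdiff, hX, apply_mem_orbZ_iff])
    (by rw [Finset.card_sdiff_of_subset hsub]; omega) (fun y hy => by
      have hy' := (Finset.mem_sdiff.1 hy).1
      refine Nat.dvd_sub (hd y hy') ?_
      obtain ⟨a, ha⟩ := card_orbZ_pow hp hg y
      obtain ⟨b, hb⟩ := card_orbZ_pow hp hg x
      have := hmax y hy'
      simp only [ha, hb] at this ⊢
      exact pow_dvd_pow _ ((Nat.pow_le_pow_iff_right hp.one_lt).1 this))
  have hdis : Disjoint Y (orbZ g x) := Finset.disjoint_left.2 fun y hy => (Finset.mem_sdiff.1 (hY1 hy)).2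
  refine ⟨Y ∪ orbZ g x, Finset.union_subset (hY1.trans Finset.sdiff_subset) hsub,
    fun y => by simp only [Finset.mem_union, hY2, apply_mem_orbZ_iff],
    by rw [Finset.card_union_of_disjoint hdis]; omega,
    fun _ => ⟨x, Finset.mem_union_right _ (self_mem_orbZ g x), hmax⟩⟩

theorem exists_emb_cycle (g : Perm α) (x : α) {m : ℕ} [NeZero m] (hm : (orbZ g x).card = m) :
    ∃ f : ZMod m → α, Function.Injective f ∧ ∀ k, g (f k) = f (k + 1) := by
  rw [card_orbZ] at hm
  refine ⟨fun k => g^[k.val] x, fun a b hab => ?_, fun k => ?_⟩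
  · apply ZMod.val_injective
    exact (Function.iterate_eq_iterate_iff_of_lt_minimalPeriod (hm ▸ a.val_lt) (hm ▸ b.val_lt)).1 hab
  · dsimp only
    rw [← Function.iterate_succ_apply' g, ← Function.iterate_mod_minimalPeriod_eq, hm]
    congr 1
    rw [ZMod.val_add, ZMod.val_one_eq_one_mod, Nat.add_mod_mod]

theorem one_lt_card_orbZ {g : Perm α} {x : α} (h : g x ≠ x) : 1 < (orbZ g x).card :=
  Finset.one_lt_card.2 ⟨_, (apply_mem_orbZ_iff g x x).2 (self_mem_orbZ g x), _, self_mem_orbZ g x, h⟩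

theorem exists_moved {g : Perm α} (h : g ≠ 1) : ∃ x, g x ≠ x := by
  by_contra hc
  push Not at hc
  exact h (Equiv.ext hc)

omit [Fintype α] [DecidableEq α] in
theorem cube_facts {g : Perm α} (h3 : ∀ x, g (g (g x)) = x) {x : α} (hx : g x ≠ x) :
    x ≠ g x ∧ x ≠ g (g x) ∧ g x ≠ g (g x) :=
  ⟨hx.symm, fun e => hx (by conv_lhs => rw [e, h3]), fun e => hx (g.injective e).symm⟩

theorem emb_cases {g : Perm α} (h3 : ∀ x, g (g (g x)) = x) (hg : g ≠ 1) (hn : 5 ≤ Fintype.card α) :
    ((∃ f : Fin 5 → α, Function.Injective f ∧ ∀ k, g (f k) = f (q3 k)) ∨ 6 ≤ Fintype.card α ∧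
      ∃ f : Fin 6 → α, Function.Injective f ∧ ∀ k, g (f k) = f (q33 k)) ∧
    (6 ≤ Fintype.card α → (∃ f : Fin 6 → α, Function.Injective f ∧ ∀ k, g (f k) = f (q33 k)) ∨
      ∃ f : Fin 6 → α, Function.Injective f ∧ ∀ k, g (f k) = f (q31 k)) := by
  obtain ⟨x, hx⟩ := exists_moved hg
  obtain ⟨x1, x2, x3⟩ := cube_facts h3 hx
  by_cases h : ∃ y, g y ≠ y ∧ y ≠ x ∧ y ≠ g x ∧ y ≠ g (g x)
  · obtain ⟨y, hy, a1, a2, a3⟩ := h
    obtain ⟨y1, y2, y3⟩ := cube_facts h3 hy
    have b1 : g y ≠ x := fun e => a3 (by rw [← e, h3])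
    have b2 : g y ≠ g x := fun e => a1 (g.injective e)
    have b3 : g y ≠ g (g x) := fun e => a2 (g.injective e)
    have c1 : g (g y) ≠ x := fun e => a2 (by rw [← e, h3])
    have c2 : g (g y) ≠ g x := fun e => b1 (g.injective e)
    have c3 : g (g y) ≠ g (g x) := fun e => b2 (g.injective e)
    have hi := inj6 x1 x2 a1.symm b1.symm c1.symm x3 a2.symm b2.symm c2.symm a3.symm b3.symm c3.symm y1 y2 y3
    have key : ∃ f : Fin 6 → α, Function.Injective f ∧ ∀ k, g (f k) = f (q33 k) :=
      ⟨_, hi, fun k => by fin_cases k <;> simp [q33, h3]⟩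
    exact ⟨Or.inr ⟨by simpa using Fintype.card_le_of_injective _ hi, key⟩, fun _ => Or.inl key⟩
  · push Not at h
    have hfix : ∀ y, y ∉ ({x, g x, g (g x)} : Finset α) → g y = y := by
      intro y hy
      simp only [Finset.mem_insert, Finset.mem_singleton, not_or] at hy
      by_contra hc
      exact hy.2.2 (h y hc hy.1 hy.2.1)
    have hc : 3 + ({x, g x, g (g x)} : Finset α)ᶜ.card ≥ Fintype.card α := by
      rw [Finset.card_compl]
      have : ({x, g x, g (g x)} : Finset α).card ≤ 3 := Finset.card_le_three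
      omega
    constructor
    · obtain ⟨a, ha, b, hb, hab⟩ := Finset.one_lt_card.1 (by omega : 1 < ({x, g x, g (g x)} : Finset α)ᶜ.card)
      rw [Finset.mem_compl] at ha hb
      have fa := hfix a ha
      have fb := hfix b hb
      simp only [Finset.mem_insert, Finset.mem_singleton, not_or] at ha hb
      exact Or.inl ⟨_, inj5 x1 x2 (Ne.symm ha.1) (Ne.symm hb.1) x3 (Ne.symm ha.2.1) (Ne.symm hb.2.1)
        (Ne.symm ha.2.2) (Ne.symm hb.2.2) hab, fun k => by fin_cases k <;> simp [q3, h3, fa, fb]⟩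
    · intro h6
      obtain ⟨a, b, c, ha, hb, hc', hab, hac, hbc⟩ :=
        Finset.two_lt_card_iff.1 (by omega : 2 < ({x, g x, g (g x)} : Finset α)ᶜ.card)
      rw [Finset.mem_compl] at ha hb hc'
      have fa := hfix a ha
      have fb := hfix b hb
      have fc := hfix c hc'
      simp only [Finset.mem_insert, Finset.mem_singleton, not_or] at ha hb hc'
      exact Or.inr ⟨_, inj6 x1 x2 (Ne.symm ha.1) (Ne.symm hb.1) (Ne.symm hc'.1) x3 (Ne.symm ha.2.1)
        (Ne.symm hb.2.1) (Ne.symm hc'.2.1) (Ne.symm ha.2.2) (Ne.symm hb.2.2) (Ne.symm hc'.2.2) hab hac hbc,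
        fun k => by fin_cases k <;> simp [q31, h3, fa, fb, fc]⟩

theorem bothP_three {u w : Perm α} (hu3 : ∀ x, u (u (u x)) = x) (hw3 : ∀ x, w (w (w x)) = x)
    (hu : u ≠ 1) (hw : w ≠ 1) (hn : 5 ≤ Fintype.card α) : BothP 3 u w := by
  have hp := Nat.prime_three
  obtain ⟨u1, u2⟩ := emb_cases hu3 hu hn
  obtain ⟨w1, w2⟩ := emb_cases hw3 hw hn
  rcases u1 with ⟨f, f1, f2⟩ | ⟨h6, f, f1, f2⟩
  · rcases w1 with ⟨g, g1, g2⟩ | ⟨h6, g, g1, g2⟩
    · exact both_q3.of_emb hp f g f1 g1 f2 g2
    · rcases u2 h6 with ⟨f, f1, f2⟩ | ⟨f, f1, f2⟩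
      · exact both_q33.of_emb hp f g f1 g1 f2 g2
      · exact (both_q31.swap hp).of_emb hp f g f1 g1 f2 g2
  · rcases w2 h6 with ⟨g, g1, g2⟩ | ⟨g, g1, g2⟩
    · exact both_q33.of_emb hp f g f1 g1 f2 g2
    · exact both_q31.of_emb hp f g f1 g1 f2 g2

theorem bothP_aux {p a b : ℕ} (hp : p.Prime) (hp2 : p ≠ 2) {u w : Perm α} (hu : u ≠ 1) (hw : w ≠ 1)
    (hua : u ^ p ^ a = 1) (hwb : w ^ p ^ b = 1) (hn : 5 ≤ Fintype.card α) (x0 : α)
    (m1 : ∀ y, (orbZ u y).card ≤ (orbZ u x0).card) (m2 : ∀ y, (orbZ w y).card ≤ (orbZ u x0).card) :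
    BothP p u w := by
  have : Fact p.Prime := ⟨hp⟩
  obtain ⟨i, hi⟩ := card_orbZ_pow hp hua x0
  rw [hi] at m1 m2
  have : NeZero (p ^ i) := ⟨pow_ne_zero _ hp.ne_zero⟩
  have hdvd : ∀ {g : Perm α} {c : ℕ}, g ^ p ^ c = 1 → ∀ y, (orbZ g y).card ≤ p ^ i → (orbZ g y).card ∣ p ^ i := by
    intro g c hg y hy
    obtain ⟨j, hj⟩ := card_orbZ_pow hp hg y
    rw [hj] at hy ⊢
    exact pow_dvd_pow _ ((Nat.pow_le_pow_iff_right hp.one_lt).1 hy)
  obtain ⟨y0, hy0⟩ := exists_moved hw
  have hy1 := one_lt_card_orbZ hy0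
  obtain ⟨fu, fu1, fu2⟩ := exists_emb_cycle u x0 hi
  by_cases h7 : 7 ≤ p ^ i
  · obtain ⟨Y, -, hY2, hY3, hY4⟩ := exists_inv_subset hp hwb (p ^ i) Finset.univ (by simp)
      (by rw [← hi]; exact Finset.card_le_univ _) (fun y _ => hdvd hwb y (m2 y))
    obtain ⟨y, hy, hy'⟩ := hY4 (by omega)
    let e : ZMod (p ^ i) ≃ Y := Fintype.equivOfCardEq (by simp [hY3])
    let w0 : Perm (ZMod (p ^ i)) := e.symm.permCongr (w.subtypePerm hY2)
    have hw0 : ∀ k, w (e k) = e (w0 k) := fun k => by simp [w0]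
    have hinj : Function.Injective fun k => (e k : α) := Subtype.val_injective.comp e.injective
    refine (bothP_zmod (k := b) hp2 h7 w0 ?_ ?_).of_emb hp fu (fun k => (e k : α)) fu1 hinj fu2 hw0
    · intro h1
      have h2 := hw0 (e.symm ⟨y, hy⟩)
      rw [h1] at h2
      simp only [apply_symm_apply, Perm.one_apply] at h2
      have h3 : orbZ w y ⊆ {y} := orbZ_subset (fun x => by
        simp only [Finset.mem_singleton]
        exact ⟨fun h => w.injective (h.trans h2.symm), fun h => by rw [h, h2]⟩) (by simp)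
      have h4 := Finset.card_le_card h3
      have := hy' y0 (Finset.mem_univ _)
      simp at h4
      omega
    · have : ∀ n : ℕ, ∀ k, (w ^ n) (e k) = e ((w0 ^ n) k) := by
        intro n
        induction n with
        | zero => simp
        | succ n ih => intro k; rw [pow_succ', pow_succ', Perm.mul_apply, Perm.mul_apply, ih, hw0]
      ext k
      apply hinj
      have h1 := this (p ^ b) k
      rw [hwb] at h1
      exact h1.symm
  · have h3 : 3 ≤ p := by have := hp.two_le; omega
    have hi0 : i ≠ 0 := by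
      rintro rfl
      have := m2 y0
      simp at this; omega
    have hi1 : i = 1 := by
      by_contra hc
      have : p ^ 2 ≤ p ^ i := Nat.pow_le_pow_right hp.pos (by omega)
      nlinarith
    subst hi1
    rw [pow_one] at h7
    have hcases : p = 3 ∨ p = 5 := by
      interval_cases p
      · simp
      · exact absurd hp (by norm_num)
      · simp
      · exact absurd hp (by norm_num)
    rcases hcases with rfl | rfl
    · have key : ∀ {g : Perm α} {c : ℕ}, g ^ 3 ^ c = 1 → (∀ y, (orbZ g y).card ≤ 3 ^ 1) →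
          ∀ x, g (g (g x)) = x := by
        intro g c hg hm x
        have h1 := hdvd hg x (hm x)
        rw [card_orbZ, ← Function.isPeriodicPt_iff_minimalPeriod_dvd] at h1
        exact h1
      exact bothP_three (key hua m1) (key hwb m2) hu hw hn
    · have h5 : (orbZ w y0).card = 5 ^ 1 := by
        rcases (Nat.dvd_prime hp).1 (by simpa using hdvd hwb y0 (m2 y0)) with h | h <;> omega
      obtain ⟨fw, fw1, fw2⟩ := exists_emb_cycle w y0 h5
      exact both_q5.of_emb hp (β := Fin 5) fu fw fu1 fw1 (fun k => (fu2 k).trans (congrArg fu (q5_eq k).symm))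
        (fun k => (fw2 k).trans (congrArg fw (q5_eq k).symm))

theorem bothP_main {p a b : ℕ} (hp : p.Prime) (hp2 : p ≠ 2) {u w : Perm α} (hu : u ≠ 1) (hw : w ≠ 1)
    (hua : u ^ p ^ a = 1) (hwb : w ^ p ^ b = 1) (hn : 5 ≤ Fintype.card α) : BothP p u w := by
  have hne : (Finset.univ : Finset α).Nonempty := Finset.card_pos.1 (by simp; omega)
  obtain ⟨x, -, hx⟩ := Finset.univ.exists_max_image (fun x => (orbZ u x).card) hne
  obtain ⟨y, -, hy⟩ := Finset.univ.exists_max_image (fun x => (orbZ w x).card) hne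
  rcases le_total (orbZ w y).card (orbZ u x).card with h | h
  · exact bothP_aux hp hp2 hu hw hua hwb hn x (fun z => hx z (Finset.mem_univ _))
      (fun z => (hy z (Finset.mem_univ _)).trans h)
  · exact (bothP_aux hp hp2 hw hu hwb hua hn y (fun z => hy z (Finset.mem_univ _))
      (fun z => (hx z (Finset.mem_univ _)).trans h)).swap hp

end

end Cfsg.Agent.H4
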