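import Cfsg.Agent.H1.CA4
import Cfsg.Agent.L0.PA.A

/-! Twisted conjugates of bad subgroups, adapted automorphisms, Thompson's hypothesis. -/

set_option autoImplicit false

namespace Cfsg.Agent.H4.CG

open Subgroup Cfsg.Agent.H2 Cfsg.Agent.H1.CA Cfsg.Agent.L0.PA
open scoped Pointwise

variable {G : Type*} [Group G] [Finite G] {r : ℕ} {φ : MulAut G} {Y : Subgroup G}

omit [Finite G] in
theorem bad_ne_bot (hb : Bad Y) : Y ≠ ⊥ := by
  rintro rfl
  obtain ⟨-, g, -, -, h⟩ := hb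
  exact h (cent_iff.2 fun x hx => by rw [mem_bot.1 hx, mul_one, one_mul])

omit [Finite G] in
theorem im_norm (ψ : MulAut G) (X : Subgroup G) : normalizer (im ψ X : Set G) = im ψ (normalizer (X : Set G)) :=
  (map_normalizer_eq_of_bijective _ ψ.bijective).symm

omit [Finite G] in
theorem im_pow {ψ : MulAut G} {X : Subgroup G} (h : im ψ X = X) (k : ℕ) : im (ψ ^ k) X = X := by
  induction k with
  | zero => exact im_one X
  | succ k ih => rw [pow_succ, im_mul, h, ih]

theorem hyp_conj (h : Hyp r φ) (ψ : MulAut G) : Hyp r (ψ * φ * ψ⁻¹) where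
  pr := h.pr
  r2 := h.r2
  pow := by rw [conj_pow, h.pow, mul_one, mul_inv_cancel]
  ndvd := h.ndvd
  uniq a b ha hb a2 b2 a1 b1 := ψ⁻¹.injective (h.uniq _ _ (ψ.injective (by simpa using ha))
    (ψ.injective (by simpa using hb)) (by rw [← map_pow, a2, map_one]) (by rw [← map_pow, b2, map_one])
    (by simpa using a1) (by simpa using b1))
  npc X h1 h2 h3 := by
    have := Nat.fact_prime_two
    have e : im ψ (im ψ⁻¹ X) = X := by rw [← im_mul, mul_inv_cancel, im_one]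
    have := (h.npc (im ψ⁻¹ X) (pg_im h1 _) (fun k => h2 (by rw [← e, k]; exact map_bot _)) (by
      conv_rhs => rw [← h3]
      rw [← im_mul, ← im_mul, ← mul_assoc, inv_mul_cancel_left])).map ψ.toMonoidHom
    rwa [← e, im_norm]

theorem not_twist (h : Hyp r φ) (hb : Bad Y) {j : ℕ} (hj : ¬ r ∣ j) (g : G) : cj g (im (φ ^ j) Y) ≠ Y := fun e => by
  have := Nat.fact_prime_two
  let _ : MulAction G (Subgroup G) :=
    { smul := cj
      one_smul := fun X => (congrArg (im · X) (map_one MulAut.conj)).trans (im_one X)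
      mul_smul := fun a b X => (congrArg (im · X) (map_mul MulAut.conj a b)).trans (im_mul _ _ X) }
  have e1 : ∀ k : G, im (φ ^ j) (cj k Y) = cj ((φ ^ j) k * g⁻¹) Y := fun k => by
    conv_rhs => rw [← e]
    simp only [cj, ← im_mul]
    congr 1
    ext x; simp [mul_assoc]
  let f : MulAction.orbit G Y → MulAction.orbit G Y := fun X => ⟨im (φ ^ j) X, by
    obtain ⟨_, k, rfl⟩ := X
    exact ⟨_, (e1 k).symm⟩⟩
  have e2 : ∀ (n : ℕ) X, (f^[n] X).1 = im ((φ ^ j) ^ n) X.1 := fun n => by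
    induction n with
    | zero => exact fun X => (im_one _).symm
    | succ n ih => exact fun X => by rw [Function.iterate_succ_apply, ih, pow_succ, im_mul]
  obtain ⟨⟨_, k, rfl⟩, hk⟩ := fixpt h.pr f (fun X => Subtype.ext (by
    rw [e2, ← pow_mul, mul_comm, pow_mul, h.pow, one_pow, im_one])) fun k => h.ndvd (k.trans (by
      rw [Nat.card_coe_set_eq, ← MulAction.index_stabilizer]; exact index_dvd_card _))
  replace hk : im (φ ^ j) (cj k Y) = cj k Y := congrArg Subtype.val hk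
  obtain ⟨m, -, hm⟩ := Nat.exists_mul_mod_eq_one_of_coprime ((h.pr.coprime_iff_not_dvd).2 hj).symm h.pr.one_lt
  have e3 := im_pow hk m
  rw [← pow_mul, pow_eq_pow_mod _ h.pow, hm, pow_one] at e3
  have e4 := h.npc _ (pg_im hb.1 _) (fun k => bad_ne_bot hb ((map_eq_bot_iff_of_injective _ (MulAut.conj _).injective).1 k)) e3
  rw [im_norm] at e4
  obtain ⟨h1, x, h2, h3, h4⟩ := hb
  exact h4 (cent_iff.2 fun y hy => (NPC.of_map _ (MulAut.conj k).injective e4).commute h1 le_normalizer h2 h2 h3 hy)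

theorem adapt (h : Hyp r φ) (T : Sylow 2 G) : ∃ φ', Hyp r φ' ∧ im φ' (T : Subgroup G) = T := by
  have := Nat.fact_prime_two
  obtain ⟨Q, hQ⟩ := fixpt h.pr (fun Q : Sylow 2 G => φ • Q) (fun Q => by rw [smul_iterate, h.pow]; exact one_smul _ _)
    fun e => h.ndvd ((e.trans T.card_dvd_index).trans (index_dvd_card _))
  obtain ⟨g, rfl⟩ := MulAction.exists_smul_eq G Q T
  refine ⟨_, hyp_conj h (MulAut.conj g), ?_⟩
  change im _ (cj g Q) = cj g Q
  rw [← im_mul, inv_mul_cancel_right, im_mul, show im φ (Q : Subgroup G) = Q from congrArg Sylow.toSubgroup hQ]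

theorem thyp (h : Hyp r φ) (hb : ∃ Y : Subgroup G, Bad Y) : ∀ P : Sylow 2 G, THyp 2 (P : Subgroup G) := fun P => by
  have := Nat.fact_prime_two
  obtain ⟨ψ, h1, h2⟩ := adapt h P
  obtain ⟨Y, hY⟩ := hb
  have h3 : (P : Subgroup G) ≠ ⊥ := fun e => by
    obtain ⟨Q, hQ⟩ := hY.1.exists_le_sylow
    obtain ⟨g, rfl⟩ := MulAction.exists_smul_eq G P Q
    exact bad_ne_bot hY (le_bot_iff.1 (hQ.trans (show cj g (P : Subgroup G) ≤ ⊥ by rw [e]; exact (Subgroup.map_bot _).le)))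
  have h4 : ∀ x ∈ (P : Subgroup G), ψ x ∈ (P : Subgroup G) := fun x hx => h2 ▸ (⟨x, hx, rfl⟩ : ψ x ∈ im ψ P)
  exact ⟨h1.npc _ (P.2.to_le (Z1_le _)) (Z1_ne_bot P.2 h3) (im_eq (inv_Z1 h4)),
    h1.npc _ (P.2.to_le (JJ_le _)) (JJ_ne_bot P.2 h3) (im_eq (inv_JJ h4))⟩

end Cfsg.Agent.H4.CG
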