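import Cfsg.Agent.H4.Cyc2

/-! Commutators in special linear groups: general tools, scalars and large fields. -/

set_option autoImplicit false

namespace Cfsg.Agent.H4

open Module Polynomial

universe u v

variable {F : Type u} [Field F]
variable {V : Type*} [AddCommGroup V] [Module F V]
variable {W : Type*} [AddCommGroup W] [Module F W]
variable {U : Type*} [AddCommGroup U] [Module F U]

theorem sim_prodMap_comm (f : End F V) (g : End F W) :
    Sim (f.prodMap g : End F (V × W)) (g.prodMap f : End F (W × V)) :=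
  ⟨LinearEquiv.prodComm F V W, fun _ => rfl⟩

theorem sim_prodMap_assoc (f : End F V) (g : End F W) (h : End F U) :
    Sim (LinearMap.prodMap (f.prodMap g : End F (V × W)) h : End F ((V × W) × U))
      (f.prodMap (g.prodMap h : End F (W × U)) : End F (V × W × U)) :=
  ⟨LinearEquiv.prodAssoc F V W U, fun _ => rfl⟩

theorem sim_prodMap_subsingleton [Subsingleton W] (f : End F V) (g : End F W) :
    Sim (f.prodMap g : End F (V × W)) f := by
  let := uniqueOfSubsingleton (0 : W)
  exact ⟨LinearEquiv.prodUnique, fun _ => rfl⟩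

theorem sim_prodMap_fromBlocks {m n : Type*} [Fintype m] [Fintype n] [DecidableEq m]
    [DecidableEq n] (A : Matrix m m F) (B : Matrix n n F) :
    Sim (LinearMap.prodMap (Matrix.toLin' A) (Matrix.toLin' B) : End F ((m → F) × (n → F)))
      (Matrix.toLin' (Matrix.fromBlocks A 0 0 B)) :=
  Sim.symm ⟨LinearEquiv.sumArrowLequivProdArrow m n F F, fun v => by
    ext i <;> simp [Matrix.fromBlocks_mulVec] <;> rfl⟩

theorem comm_toLin' {n : Type*} [Fintype n] [DecidableEq n] {g : Matrix n n F} (a b : Matrix n n F)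
    {δ ε : F} (h : a.det = ε ∧ b.det = δ ∧ a * b = g * b * a) : Comm (Matrix.toLin' g) δ ε :=
  ⟨Matrix.toLin' a, Matrix.toLin' b, by rw [LinearMap.det_toLin', h.1],
    by rw [LinearMap.det_toLin', h.2.1], by
      simp only [Module.End.mul_eq_comp, ← Matrix.toLin'_mul, h.2.2]⟩

theorem Comm.move_left {g : End F V} {δ ε : F} (h : Comm g δ ε) : Comm g (δ * ε) ε := by
  obtain ⟨a, b, h1, h2, h3⟩ := h
  exact ⟨a, b * a, h1, by rw [map_mul, h1, h2], by rw [← mul_assoc, h3, ← mul_assoc]⟩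

theorem Comm.move_right {g : End F V} {δ ε : F} (h : Comm g δ ε) : Comm g δ (ε * δ) := by
  obtain ⟨a, b, h1, h2, h3⟩ := h
  exact ⟨a * b, b, by rw [map_mul, h1, h2], h2, by rw [← mul_assoc, ← h3]⟩

theorem comm_one : Comm (1 : End F V) 1 1 := ⟨1, 1, map_one _, map_one _, by simp⟩

theorem det_prodMap' [Module.Finite F V] [Module.Finite F W] (f : End F V) (g : End F W) :
    LinearMap.det (f.prodMap g : End F (V × W)) = LinearMap.det f * LinearMap.det g := by
  rw [← tri_zero, det_tri]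

theorem HasType.det_eq {f : End F V} {s : Multiset (F[X] × ℕ)} (h : HasType f s) :
    LinearMap.det f = (s.map fun y => LinearMap.det (mulX (y.1 ^ y.2))).prod := by
  obtain ⟨h1, k, x, rfl, h3⟩ := h
  have := h1.finite
  rw [h3.det_eq, blk, det_piEnd, Multiset.map_map]
  rfl

theorem HasType.exists_split {f : End F V} {s : Multiset (F[X] × ℕ)} (h : HasType f s)
    {y : F[X] × ℕ} (hy : y ∈ s) : (y.1 ^ y.2).Monic ∧ 0 < (y.1 ^ y.2).natDegree ∧
      ∃ (k : ℕ) (A : Matrix (Fin k) (Fin k) F), Sim f ((mulX (y.1 ^ y.2)).prodMap (Matrix.toLin' A) :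
        End F (AdjoinRoot (y.1 ^ y.2) × (Fin k → F))) := by
  obtain ⟨h1, h2, h3⟩ := h.good y hy
  obtain ⟨t, rfl⟩ := Multiset.exists_cons_of_mem hy
  obtain ⟨k, A, -, hA⟩ := h.exists_sim_cons
  exact ⟨h1.pow _, by rw [natDegree_pow]; exact Nat.mul_pos h3 h2.natDegree_pos, k, A, hA⟩

theorem exists_split_cyc [Module.Finite F V] (f : End F V) (hV : 0 < finrank F V) :
    ∃ φ : F[X], φ.Monic ∧ 0 < φ.natDegree ∧ ∃ (k : ℕ) (A : Matrix (Fin k) (Fin k) F),
      Sim f ((mulX φ).prodMap (Matrix.toLin' A) : End F (AdjoinRoot φ × (Fin k → F))) := by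
  obtain ⟨s, hs⟩ := exists_hasType f
  obtain ⟨y, hy⟩ := Multiset.exists_mem_of_ne_zero (hs.ne_zero hV)
  exact ⟨_, hs.exists_split hy⟩

theorem exists_split_cyc' [Module.Finite F V] (f : End F V) (hd : LinearMap.det f ≠ 1) :
    ∃ φ : F[X], LinearMap.det (mulX φ) ≠ 1 ∧ φ.Monic ∧ 0 < φ.natDegree ∧
      ∃ (k : ℕ) (A : Matrix (Fin k) (Fin k) F),
      Sim f ((mulX φ).prodMap (Matrix.toLin' A) : End F (AdjoinRoot φ × (Fin k → F))) := by
  obtain ⟨s, hs⟩ := exists_hasType f
  obtain ⟨y, hy, h⟩ : ∃ y ∈ s, LinearMap.det (mulX (y.1 ^ y.2)) ≠ 1 := by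
    by_contra h
    push Not at h
    refine hd (hs.det_eq.trans (Multiset.prod_eq_one fun x hx => ?_))
    obtain ⟨y, hy, rfl⟩ := Multiset.mem_map.1 hx
    exact h y hy
  exact ⟨_, h, hs.exists_split hy⟩

theorem IsCyc.sim_two [Module.Finite F V] {f : End F V} {a : V} (h : IsCyc f a)
    (hV : finrank F V = 2) :
    ∃ τ : F, Sim f (Matrix.toLin' !![0, -LinearMap.det f; 1, τ]) := by
  refine ⟨LinearMap.trace F V f, h.sim (w := ![1, 0]) (isCyc_iff.2 fun S h1 h2 => ?_) ?_⟩
  · have h3 := h2 _ h1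
    rw [eq_top_iff]
    intro v _
    have : v = v 0 • ![1, 0] + v 1 • Matrix.toLin' !![0, -LinearMap.det f; 1,
        LinearMap.trace F V f] ![1, 0] := by
      ext i; fin_cases i <;> simp
    rw [this]
    exact S.add_mem (S.smul_mem _ h1) (S.smul_mem _ h3)
  · rw [charpoly_of_finrank_two hV, Matrix.charpoly_toLin', Matrix.charpoly_fin_two]
    simp [Matrix.det_fin_two, Matrix.trace_fin_two]

theorem sim_one_dim (f : End F V) (hV : finrank F V = 1) :
    Sim f (Matrix.toLin' !![LinearMap.det f]) := by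
  obtain ⟨c, rfl, -⟩ := LinearMap.existsUnique_eq_smul_id_of_finrank_eq_one hV f
  have := Module.finite_of_finrank_eq_succ hV
  refine ⟨LinearEquiv.ofFinrankEq _ _ (by simpa using hV), fun v => ?_⟩
  ext i
  fin_cases i
  simp [hV, Matrix.mulVec, dotProduct]

theorem exists_commute_det_end [Finite F] [Module.Finite F V] (hV : 0 < finrank F V) {f : End F V}
    {a : F[X]} (ha : Squarefree a) (hf : aeval f a = 0) (μ : F) :
    ∃ c : End F V, c * f = f * c ∧ LinearMap.det c = μ := by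
  obtain ⟨s, hs⟩ := exists_hasType f
  obtain ⟨y, hy⟩ := Multiset.exists_mem_of_ne_zero (hs.ne_zero hV)
  have := hs.exists_commute_det hy μ
  rwa [hs.snd_eq_one ha hf y hy, pow_one] at this

/-- Scalars of determinant one are commutators. -/
theorem comm_scalar [Finite F] [Module.Finite F V] (hV : 0 < finrank F V) {ζ : F}
    (hζ : ζ ^ finrank F V = 1) : Comm (ζ • (1 : End F V)) 1 1 := by
  obtain ⟨p, hp⟩ := CharP.exists F
  have := Fintype.ofFinite F
  have hpp : Fact p.Prime := ⟨(CharP.char_is_prime F p)⟩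
  obtain ⟨e, m, hm, hn⟩ := Nat.exists_eq_pow_mul_and_not_dvd hV.ne' p hpp.out.ne_one
  have hm0 : 0 < m := Nat.pos_of_ne_zero (by rintro rfl; exact hm (dvd_zero _))
  set c : F := (-1) ^ (finrank F V + 1)
  have hc : c ^ p ^ e = c := by
    rw [← pow_mul, mul_comm, pow_mul, neg_one_pow_char_pow]
  have hc0 : c ≠ 0 := pow_ne_zero _ (neg_ne_zero.2 one_ne_zero)
  have hχ : (X ^ finrank F V - C c : F[X]) = (X ^ m - C c) ^ p ^ e := by
    rw [sub_pow_char_pow, ← pow_mul, ← map_pow, hc, mul_comm, ← hn]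
  obtain ⟨b, v, b1, b2⟩ := exists_cyc_end (V := V) (monic_X_pow_sub_C c hV.ne') (by simp)
  have hζ0 : ζ ≠ 0 := by rintro rfl; simp [hV.ne'] at hζ
  have b3 : IsCyc (ζ • b) v := isCyc_iff.2 fun S h1 h2 => isCyc_iff.1 b2 S h1 fun w hw =>
    (S.smul_mem_iff hζ0).1 (h2 w hw)
  have b4 : (ζ • b).charpoly = X ^ finrank F V - C c :=
    b3.charpoly_eq (monic_X_pow_sub_C c hV.ne') (by simp) (by
      have := LinearMap.aeval_self_charpoly b
      rw [b1] at this
      simp only [map_sub, map_pow, aeval_X, aeval_C, _root_.smul_pow, hζ, one_smul] at this ⊢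
      exact LinearMap.congr_fun this v)
  have b5 : LinearMap.det b = 1 := by
    rw [det_eq_charpoly, b1, coeff_sub, coeff_X_pow, if_neg hV.ne, coeff_C_zero, zero_sub,
      ← neg_one_mul c, ← mul_assoc, ← pow_succ, ← pow_add, ← two_mul, pow_mul]
    simp
  rw [← b5]
  nth_rw 2 [b5]
  refine comm_of_sim_of_commute (b2.sim (by simpa using b3) (by simpa [b1] using b4.symm))
    (fun μ => ?_) 1
  have hσ := monic_X_pow_sub_C c hm0.ne'
  have := finite_adjoinRoot hσ.ne_zero
  obtain ⟨ν, rfl⟩ := (bijective_iterateFrobenius F p e).2 μ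
  obtain ⟨c', h1, h2⟩ := exists_commute_det_end (f := mulX (X ^ m - C c))
    (by rw [finrank_adjoinRoot, natDegree_X_pow_sub_C]; exact hm0)
    (squarefree_X_pow_sub_C p ((hpp.out.coprime_iff_not_dvd.2 hm).symm) hc0)
    ((aeval_mulX_eq_zero_iff _ _).2 dvd_rfl) ν
  obtain ⟨r, rfl⟩ := (isCyc_mulX _).exists_eq_aeval (c := c') fun x => LinearMap.congr_fun h1 x
  refine ⟨aeval b r, ?_, ?_⟩
  · simpa using congrArg (aeval b) (mul_comm r X)
  · rw [det_aeval_of_charpoly_eq_pow (f := mulX (X ^ m - C c)) (j := p ^ e)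
      (by rw [b1, charpoly_mulX hσ, hχ]), h2, iterateFrobenius_def]

/-- The case of fields with at least four elements. -/
theorem comm_of_four [Finite F] [Module.Finite F V] (hF : Four F) (hV : 2 ≤ finrank F V)
    {g : End F V} (hd : LinearMap.det g = 1) : Comm g 1 1 := by
  by_cases hg : ∀ c : F, g ≠ c • 1
  · obtain ⟨l, l0, l1, l2⟩ := hF 0 1 (-1)
    have l3 : l⁻¹ ≠ 1 := fun h => l1 (inv_eq_one.1 h)
    have l4 : l ≠ l⁻¹ := fun h => by
      have : l * l = 1 := by nth_rw 2 [h]; exact mul_inv_cancel₀ l0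
      rcases mul_self_eq_one_iff.1 this with h | h
      exacts [l1 h, l2 h]
    obtain ⟨n, hn⟩ : ∃ n, finrank F V = n + 2 := ⟨_, (Nat.sub_add_cancel hV).symm⟩
    obtain ⟨W, a1, a2, a3, a4⟩ := exists_reg_two hF hn hd hg l1 l3
    have h1 : LinearMap.det W = 1 := by
      rw [det_eq_charpoly, a1, hn, coeff_zero_eq_eval_zero]
      simp [l0, pow_add, ← mul_pow]
    have := comm_of_reg (σ := (X - C l) * (X - C l⁻¹)) ?_ ?_ ?_ a1 a2 a3 a4 1
    · rwa [h1] at this
    · exact (squarefree_mul_iff.2 ⟨(isCoprime_X_sub_C_of_isUnit_sub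
        (sub_ne_zero.2 l4).isUnit).isRelPrime, (irreducible_X_sub_C _).squarefree,
        (irreducible_X_sub_C _).squarefree⟩)
    · simp [sub_eq_zero, l1.symm, l3.symm]
    · rw [(monic_X_sub_C _).natDegree_mul (monic_X_sub_C _)]; simp
  · push Not at hg
    obtain ⟨c, rfl⟩ := hg
    exact comm_scalar (by omega) (by simpa using hd)

end Cfsg.Agent.H4
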