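import Cfsg.Agent.H4.SS
import Cfsg.Agent.H4.Ore1

/-! Covering numbers of linear groups, part 1: dual pole placement, cyclicity of block triangular
endomorphisms, simple eigenvalues and Krylov volumes. -/

set_option autoImplicit false

namespace Cfsg.Agent.H4

open Module Polynomial

universe u

variable {F : Type u} [Field F]
variable {V : Type*} {W : Type*} [AddCommGroup V] [Module F V] [AddCommGroup W] [Module F W]

/-- The endomorphism is cyclic. -/
def Cyc (f : End F V) : Prop := ∃ v, IsCyc f v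

theorem Cyc.of_sim {f : End F V} {g : End F W} (hf : Cyc f) (h : Sim f g) : Cyc g :=
  h.exists_isCyc hf

theorem aeval_dualMap (f : End F V) (p : F[X]) :
    aeval (f.dualMap : End F (Dual F V)) p = (aeval f p).dualMap := by
  induction p using Polynomial.induction_on with
  | C a => ext φ v; simp
  | add p q hp hq => rw [map_add, map_add, hp, hq]; ext φ v; simp
  | monomial n a h =>
    rw [pow_succ, ← mul_assoc, map_mul, h, aeval_X, mul_comm (C a * X ^ n) X,
      map_mul (aeval f) X, aeval_X]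
    rfl

theorem IsCyc.of_forall {f g : End F V} {v : V} (h : IsCyc f v)
    (hfg : ∀ S : Submodule F V, v ∈ S → (∀ w ∈ S, g w ∈ S) → ∀ w ∈ S, f w ∈ S) : IsCyc g v :=
  isCyc_iff.2 fun S h1 h2 => isCyc_iff.1 h S h1 (hfg S h1 h2)

theorem IsCyc.add_smulRight {f : End F V} {v : V} (h : IsCyc f v) (κ : V →ₗ[F] F) :
    IsCyc (f + κ.smulRight v) v :=
  h.of_forall fun S h1 h2 w hw => by
    have := S.sub_mem (h2 w hw) (S.smul_mem (κ w) h1)
    simpa using this

theorem cyc_of_finrank_le_one [Module.Finite F V] (h : finrank F V ≤ 1) (f : End F V) : Cyc f := by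
  obtain ⟨v, hv⟩ := finrank_le_one_iff.1 h
  refine ⟨v, isCyc_iff.2 fun S h1 _ => eq_top_iff.2 fun w _ => ?_⟩
  obtain ⟨c, rfl⟩ := hv w
  exact S.smul_mem c h1

variable [Module.Finite F V] [Module.Finite F W]

theorem charpoly_dualMap (f : End F V) :
    LinearMap.charpoly (f.dualMap : End F (Dual F V)) = f.charpoly := by
  classical
  let b := Module.finBasis F V
  rw [← LinearMap.charpoly_toMatrix _ b.dualBasis, ← LinearMap.charpoly_toMatrix f b,
    ← Matrix.charpoly_transpose, LinearMap.dualMap_def, LinearMap.toMatrix_transpose,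
    Matrix.transpose_transpose]

theorem nul_dualMap (f : End F V) (p : F[X]) :
    nul (f.dualMap : End F (Dual F V)) p = nul f p := by
  have h1 := LinearMap.finrank_range_add_finrank_ker (aeval f p)
  have h2 := LinearMap.finrank_range_add_finrank_ker (aeval f p).dualMap
  rw [LinearMap.finrank_range_dualMap_eq_finrank_range, Subspace.dual_finrank_eq] at h2
  rw [nul, nul, aeval_dualMap]
  omega

theorem Cyc.nul_lt {f : End F V} (h : Cyc f) {φ : F[X]} (hφ : Irreducible φ) :
    nul f φ < 2 * φ.natDegree := by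
  obtain ⟨v, hv⟩ := h
  have := hv.nul_le hφ
  have := hφ.natDegree_pos
  omega

theorem pole_placement_dual {T : End F V} {f : V →ₗ[F] F}
    (h : ∀ S : Submodule F V, (∀ w ∈ S, f w = 0) → (∀ w ∈ S, T w ∈ S) → S = ⊥) {χ : F[X]}
    (hχ : χ.Monic) (hd : χ.natDegree = finrank F V) (hV : 0 < finrank F V) :
    ∃ y : V, (T + f.smulRight y).charpoly = χ ∧ Cyc (T + f.smulRight y) := by
  have h1 : IsCyc (T.dualMap : End F (Dual F V)) f := isCyc_iff.2 fun S h1 h2 => by
    have h3 := h S.dualCoannihilator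
      (fun w hw => (Submodule.mem_dualCoannihilator _).1 hw f h1)
      fun w hw => (Submodule.mem_dualCoannihilator _).2 fun φ hφ =>
        (Submodule.mem_dualCoannihilator _).1 hw _ (h2 φ hφ)
    rw [← Subspace.dualCoannihilator_dualAnnihilator_eq (W := S), h3, Submodule.dualAnnihilator_bot]
  obtain ⟨κ, a1, a2⟩ := pole_placement h1 hχ (by rw [hd, Subspace.dual_finrank_eq])
    (by rwa [Subspace.dual_finrank_eq])
  obtain ⟨y, rfl⟩ := (Module.evalEquiv F V).surjective κ
  have e : (T.dualMap : End F (Dual F V)) + (Module.evalEquiv F V y).smulRight f =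
      (T + f.smulRight y).dualMap := by
    ext φ v; simp [mul_comm]
  rw [e] at a1 a2
  refine ⟨y, by rw [← a1, charpoly_dualMap], exists_isCyc_of_nul fun φ _ hφ => ?_⟩
  rw [← nul_dualMap]
  exact Cyc.nul_lt ⟨_, a2⟩ hφ

theorem eq_zero_of_not_dvd {f : End F V} {φ : F[X]} (hφ : Irreducible φ) (h : ¬ φ ∣ f.charpoly)
    {v : V} (hv : aeval f φ v = 0) : v = 0 := by
  obtain ⟨a, b, hab⟩ := hφ.coprime_iff_not_dvd.2 h
  have := congrArg (fun p => aeval f p v) hab
  simpa [hv, LinearMap.aeval_self_charpoly] using this.symm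

theorem isRoot_of_eigen {f : End F V} {ν : F} {v : V} (hv : v ≠ 0) (h : f v = ν • v) :
    f.charpoly.eval ν = 0 := by
  by_contra h1
  exact hv (eq_zero_of_not_dvd (f := f) (irreducible_X_sub_C ν) (by rwa [dvd_iff_isRoot])
    (by simp [h]))

theorem exists_eigen {f : End F V} {ν : F} (h : f.charpoly.eval ν = 0) :
    ∃ v, v ≠ 0 ∧ f v = ν • v := by
  obtain ⟨v, hv⟩ := ((Module.End.hasEigenvalue_iff_isRoot_charpoly f ν).2 h).exists_hasEigenvector
  exact ⟨v, hv.2, hv.apply_eq_smul⟩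

theorem exists_left_eigen {f : End F V} {ν : F} (h : f.charpoly.eval ν = 0) :
    ∃ ψ : V →ₗ[F] F, ψ ≠ 0 ∧ ∀ v, ψ (f v) = ν * ψ v := by
  obtain ⟨ψ, h1, h2⟩ := exists_eigen (f := (f.dualMap : End F (Dual F V))) (ν := ν)
    (by rwa [charpoly_dualMap])
  exact ⟨ψ, h1, fun v => LinearMap.congr_fun h2 v⟩

theorem Cyc.eigen_span {f : End F V} (h : Cyc f) {ν : F} {v w : V} (hv : v ≠ 0)
    (h1 : f v = ν • v) (h2 : f w = ν • w) : ∃ c : F, c • v = w := by
  have h3 := h.nul_lt (irreducible_X_sub_C ν)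
  rw [natDegree_X_sub_C, nul] at h3
  have m1 : v ∈ LinearMap.ker (aeval f (X - C ν)) := by simp [h1]
  have m2 : w ∈ LinearMap.ker (aeval f (X - C ν)) := by simp [h2]
  have hv' : (⟨v, m1⟩ : LinearMap.ker (aeval f (X - C ν))) ≠ 0 :=
    fun h => hv (congrArg Subtype.val h)
  have := nontrivial_of_ne _ _ hv'
  obtain ⟨c, hc⟩ := (finrank_eq_one_iff_of_nonzero' (K := F) _ hv').1
    (le_antisymm (by omega) Module.finrank_pos) ⟨w, m2⟩
  exact ⟨c, congrArg Subtype.val hc⟩

theorem cyc_tri {A : End F V} {Z : W →ₗ[F] V} {B : End F W} (hA : Cyc A) (hB : Cyc B)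
    (h : ∀ φ : F[X], φ.Monic → Irreducible φ → φ ∣ A.charpoly → φ ∣ B.charpoly →
      ∃ ν, φ = X - C ν ∧ ∀ u v, A u + Z v = ν • u → B v = ν • v → v = 0) : Cyc (tri A Z B) := by
  refine exists_isCyc_of_nul fun φ h1 h2 => ?_
  have i1 : ∀ u, aeval (tri A Z B) φ (u, 0) = (aeval A φ u, 0) := fun u =>
    (intertwine_aeval (f := A) (g := tri A Z B) (LinearMap.inl F V W) (fun v => by simp) φ u).symm
  have i2 : ∀ v, (aeval (tri A Z B) φ v).2 = aeval B φ v.2 := fun v =>
    intertwine_aeval (f := tri A Z B) (g := B) (LinearMap.snd F V W) (fun v => rfl) φ v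
  have k1 : (∀ v, aeval (tri A Z B) φ v = 0 → v.2 = 0) → nul (tri A Z B) φ < 2 * φ.natDegree := by
    intro H
    refine lt_of_le_of_lt ?_ (hA.nul_lt h2)
    refine LinearMap.finrank_le_finrank_of_injective (f := LinearMap.codRestrict _
      (LinearMap.fst F V W ∘ₗ Submodule.subtype _) fun v => ?_) fun v w hvw => ?_
    · have h3 : aeval (tri A Z B) φ v = 0 := v.2
      have h4 := i1 v.1.1
      rw [← H _ h3, h3] at h4
      exact (congrArg Prod.fst h4).symm
    · exact Subtype.ext (Prod.ext (congrArg Subtype.val hvw) ((H _ v.2).trans (H _ w.2).symm))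
  by_cases c1 : φ ∣ A.charpoly
  · by_cases c2 : φ ∣ B.charpoly
    · obtain ⟨ν, rfl, hν⟩ := h φ h1 h2 c1 c2
      refine k1 fun v hv => hν v.1 v.2 ?_ ?_
      · simpa [sub_eq_zero] using congrArg Prod.fst hv
      · simpa [sub_eq_zero] using congrArg Prod.snd hv
    · exact k1 fun v hv => eq_zero_of_not_dvd h2 c2 (by rw [← i2, hv]; rfl)
  · refine lt_of_le_of_lt ?_ (hB.nul_lt h2)
    refine LinearMap.finrank_le_finrank_of_injective (f := LinearMap.codRestrict _
      (LinearMap.snd F V W ∘ₗ Submodule.subtype _) fun v => ?_)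
      ((injective_iff_map_eq_zero _).2 fun v hv => ?_)
    · have h3 : aeval (tri A Z B) φ v = 0 := v.2
      change aeval B φ v.1.2 = 0
      rw [← i2, h3]; rfl
    · have h3 : aeval (tri A Z B) φ v = 0 := v.2
      have h4 : v.1.2 = 0 := congrArg Subtype.val hv
      have h5 := i1 v.1.1
      rw [← h4, h3] at h5
      exact Subtype.ext (Prod.ext (eq_zero_of_not_dvd h2 c1 (congrArg Prod.fst h5).symm) h4)

theorem cyc_tri_of_coprime {A : End F V} (Z : W →ₗ[F] V) {B : End F W} (hA : Cyc A) (hB : Cyc B)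
    (h : IsCoprime A.charpoly B.charpoly) : Cyc (tri A Z B) :=
  cyc_tri hA hB fun _ _ h2 h3 h4 => absurd (h.isUnit_of_dvd' h3 h4) h2.not_isUnit

omit [Module.Finite F V] [Module.Finite F W] in
theorem isCoprime_X_sub_C {g : F[X]} {ω : F} (h : g.eval ω ≠ 0) : IsCoprime (X - C ω) g :=
  (irreducible_X_sub_C ω).coprime_iff_not_dvd.2 (by rwa [dvd_iff_isRoot])

theorem cyc_tri_upper {μ : F} (Z : W →ₗ[F] F) {B : End F W} (hB : Cyc B)
    (h : B.charpoly.eval μ ≠ 0) : Cyc (tri (μ • (1 : End F F)) Z B) :=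
  cyc_tri_of_coprime Z (cyc_of_finrank_le_one (by simp) _) hB
    (by rw [charpoly_smul_one]; exact isCoprime_X_sub_C h)

theorem cyc_tri_lower {μ : F} (Z : F →ₗ[F] W) {B : End F W} (hB : Cyc B)
    (h : B.charpoly.eval μ ≠ 0) : Cyc (tri B Z (μ • (1 : End F F))) :=
  cyc_tri_of_coprime Z hB (cyc_of_finrank_le_one (by simp) _)
    (by rw [charpoly_smul_one]; exact (isCoprime_X_sub_C h).symm)

theorem IsCyc.inv {A A' : End F V} {v : V} (h : IsCyc A v) (h1 : A * A' = 1) : IsCyc A' v :=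
  h.of_forall fun S _ h2 w hw => by
    have hinj : Function.Injective A' :=
      Function.LeftInverse.injective (g := A) fun v => LinearMap.congr_fun h1 v
    have h3 : Function.Injective (A'.restrict h2) := fun a b hab =>
      Subtype.ext (hinj (congrArg Subtype.val hab))
    obtain ⟨u, hu⟩ := (LinearMap.injective_iff_surjective.1 h3) ⟨w, hw⟩
    have h4 : A' u = w := congrArg Subtype.val hu
    rw [← h4, ← Module.End.mul_apply, h1]
    exact u.2

theorem Cyc.inv {A A' : End F V} (h : Cyc A) (h1 : A * A' = 1) : Cyc A' :=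
  ⟨_, h.choose_spec.inv h1⟩

theorem Cyc.sim {A : End F V} {B : End F W} (hA : Cyc A) (hB : Cyc B)
    (h : A.charpoly = B.charpoly) : Sim A B := hA.choose_spec.sim hB.choose_spec h

/-- A semisimple simple eigenvalue: an eigenline with an invariant complement. -/
def Spl (T : End F V) (ω : F) : Prop :=
  ∃ (e : V) (f : V →ₗ[F] F), f e = 1 ∧ T e = ω • e ∧ ∀ v, f (T v) = ω * f v

omit [Module.Finite F V] [Module.Finite F W] in
theorem Spl.of_sim {T : End F V} {T' : End F W} {ω : F} (h : Spl T ω) (hs : Sim T T') :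
    Spl T' ω := by
  obtain ⟨e, f, h1, h2, h3⟩ := h
  obtain ⟨g, hg⟩ := hs
  refine ⟨g e, f ∘ₗ g.symm.toLinearMap, by simpa, by rw [← hg, h2, map_smul], fun v => ?_⟩
  obtain ⟨v, rfl⟩ := g.surjective v
  simp [← hg, h3]

omit [Module.Finite F V] in
theorem Spl.inv {T T' : End F V} {ω : F} (h : Spl T ω) (h1 : T * T' = 1) (h2 : T' * T = 1) :
    Spl T' ω⁻¹ := by
  obtain ⟨e, f, a1, a2, a3⟩ := h
  have a4 : ∀ v, f v = ω * f (T' v) := fun v => by
    rw [← a3, ← Module.End.mul_apply, h1]; rfl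
  have h0 : ω ≠ 0 := by rintro rfl; simpa [a1] using a4 e
  refine ⟨e, f, a1, ?_, fun v => by rw [a4 v, inv_mul_cancel_left₀ h0]⟩
  have := LinearMap.congr_fun h2 e
  rw [Module.End.mul_apply, a2, map_smul] at this
  rw [eq_inv_smul_iff₀ h0, this]; rfl

theorem Spl.exists_commute {T : End F V} {ω : F} (h : Spl T ω) (μ : F) :
    ∃ c : End F V, c * T = T * c ∧ LinearMap.det c = μ := by
  obtain ⟨e, f, a1, a2, a3⟩ := h
  refine ⟨1 + ((μ - 1) • f).smulRight e, LinearMap.ext fun v => ?_, ?_⟩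
  · simp [a2, a3, smul_smul, mul_comm, mul_left_comm]
  · rw [det_one_add_smulRight']; simp [a1]

theorem spl_of_charpoly {T : End F V} {ω : F} {g : F[X]} (h : T.charpoly = (X - C ω) * g)
    (hg : g.eval ω ≠ 0) : Spl T ω := by
  obtain ⟨e, he, h1⟩ := exists_eigen (f := T) (ν := ω) (by simp [h])
  obtain ⟨l, hl⟩ := Module.Projective.exists_dual_eq_one F he
  have h2 : aeval T g e = g.eval ω • e :=
    Module.End.aeval_apply_of_hasEigenvector ⟨by simpa using h1, he⟩
  refine ⟨e, (g.eval ω)⁻¹ • l ∘ₗ aeval T g, by simp [h2, hl, hg], h1, fun v => ?_⟩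
  have h3 := LinearMap.congr_fun (LinearMap.aeval_self_charpoly T) v
  rw [h, mul_comm, map_mul] at h3
  simp [sub_eq_zero] at h3
  simp [h3, mul_left_comm]

theorem Spl.exists_charpoly {T : End F V} {ω : F} (h : Spl T ω) (hc : Cyc T) :
    ∃ g : F[X], g.Monic ∧ T.charpoly = (X - C ω) * g ∧ g.eval ω ≠ 0 := by
  obtain ⟨e, f, a1, a2, a3⟩ := h
  have hT : ∀ v ∈ LinearMap.ker f, T v ∈ LinearMap.ker f := fun v hv => by
    rw [LinearMap.mem_ker] at hv ⊢; rw [a3, hv, mul_zero]
  have s1 : Sim (tri (ω • (1 : End F F)) 0 (T.restrict hT)) T :=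
    sim_tri_upper a1 a2 fun v => by simp
  refine ⟨_, (T.restrict hT).charpoly_monic,
    by rw [← s1.charpoly_eq, charpoly_tri, charpoly_smul_one], fun h => ?_⟩
  obtain ⟨v, hv, h1⟩ := exists_eigen h
  obtain ⟨c, hc⟩ := hc.eigen_span (v := v) (fun h => hv (Subtype.ext h))
    (congrArg Subtype.val h1) a2
  rw [← hc, map_smul, LinearMap.mem_ker.1 v.2, smul_zero] at a1
  exact zero_ne_one a1

/-- Cyclic with a simple eigenvalue. -/
def Gd (T : End F V) : Prop := Cyc T ∧ ∃ ω, Spl T ω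

omit [Module.Finite F V] [Module.Finite F W] in
theorem Gd.of_sim {T : End F V} {T' : End F W} (h : Gd T) (hs : Sim T T') : Gd T' :=
  ⟨h.1.of_sim hs, h.2.imp fun _ h => h.of_sim hs⟩

theorem Gd.ssim {T T' : End F V} (h : Gd T) (hs : Sim T T') : SSim T T' :=
  hs.ssim fun μ _ => h.2.choose_spec.exists_commute μ

theorem gd_of_charpoly {T : End F V} (hc : Cyc T) {ω : F} {g : F[X]}
    (h : T.charpoly = (X - C ω) * g) (hg : g.eval ω ≠ 0) : Gd T := ⟨hc, ω, spl_of_charpoly h hg⟩

section vol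

variable {n : ℕ}

omit [Module.Finite F V] in
theorem det_krylov (B v : Basis (Fin n) F V) {T : End F V}
    (h0 : ∀ i j : Fin n, (i : ℕ) + 1 < j → v.repr (T (v i)) j = 0)
    (h1 : ∀ i j : Fin n, (i : ℕ) + 1 = j → v.repr (T (v i)) j = 1) {a : V}
    (ha : ∀ i : Fin n, (i : ℕ) = 0 → v i = a) :
    B.det (fun i => (T ^ (i : ℕ)) a) = B.det v := by
  have key : ∀ k : ℕ, ∀ j : Fin n, k ≤ j → v.repr ((T ^ k) a) j = if k = j then 1 else 0 := by
    intro k
    induction k with
    | zero =>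
      intro j _
      rw [← ha ⟨0, j.pos⟩ rfl]
      simp [Finsupp.single_apply, Fin.ext_iff]
    | succ k ih =>
      intro j hj
      rw [pow_succ', Module.End.mul_apply, ← v.sum_repr ((T ^ k) a), map_sum, map_sum,
        Finsupp.finsetSum_apply, Finset.sum_eq_single ⟨k, by omega⟩]
      · rw [map_smul, map_smul, ih _ le_rfl, if_pos rfl, one_smul]
        split_ifs with h
        exacts [h1 _ _ h, h0 _ _ (by simp only; omega)]
      · intro i _ hi
        have hi' : (i : ℕ) ≠ k := fun h => hi (Fin.ext h)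
        rw [map_smul, map_smul, Finsupp.smul_apply]
        rcases hi'.lt_or_gt with h | h
        · rw [h0 _ _ (by omega), smul_zero]
        · rw [ih _ h.le, if_neg h.ne, zero_smul]
      · simp
  have h2 : v.det (fun i => (T ^ (i : ℕ)) a) = 1 := by
    rw [Basis.det_apply, Matrix.det_of_isUpperTriangular]
    · exact Finset.prod_eq_one fun i _ => by rw [Basis.toMatrix_apply, key _ _ le_rfl, if_pos rfl]
    · intro i j hij
      have : (j : ℕ) < i := hij
      rw [Basis.toMatrix_apply, key _ _ this.le, if_neg this.ne]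
  conv_lhs => rw [AlternatingMap.eq_smul_basis_det v B.det]
  simp [h2]

theorem IsCyc.span_krylov {T : End F V} {a : V} (h : IsCyc T a) (hn : finrank F V = n) :
    ⊤ ≤ Submodule.span F (Set.range fun i : Fin n => (T ^ (i : ℕ)) a) := by
  intro w _
  obtain ⟨p, rfl⟩ := h w
  rw [← aeval_modByMonic_eq_self_of_root (LinearMap.aeval_self_charpoly T)]
  rcases Nat.eq_zero_or_pos n with rfl | h0
  · have := Module.finrank_zero_iff.1 hn
    rw [Subsingleton.elim (aeval T _ a) 0]
    exact zero_mem _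
  rw [aeval_eq_sum_range' (n := n) (by
    have := natDegree_modByMonic_lt p T.charpoly_monic (fun h => by
      have := T.charpoly_natDegree
      rw [h, natDegree_one] at this; omega)
    rwa [T.charpoly_natDegree, hn] at this), LinearMap.sum_apply]
  exact Submodule.sum_mem _ fun i hi => Submodule.smul_mem _ _
    (Submodule.subset_span ⟨⟨i, Finset.mem_range.1 hi⟩, rfl⟩)

theorem IsCyc.exists_krylov {T : End F V} {a : V} (h : IsCyc T a) (hn : finrank F V = n) :
    ∃ v : Basis (Fin n) F V, ∀ i, v i = (T ^ (i : ℕ)) a :=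
  ⟨basisOfTopLeSpanOfCardEqFinrank _ (h.span_krylov hn) (by simp [hn]), fun i => by simp⟩

theorem IsCyc.vol_ne_zero (B : Basis (Fin n) F V) {T : End F V} {a : V} (h : IsCyc T a) :
    B.det (fun i => (T ^ (i : ℕ)) a) ≠ 0 := by
  obtain ⟨v, hv⟩ := h.exists_krylov (n := n) (by simpa using finrank_eq_card_basis B)
  rw [← funext hv]
  exact (B.isUnit_det v).ne_zero

theorem IsCyc.ssim (B : Basis (Fin n) F V) {T T' : End F V} {a a' : V} (h : IsCyc T a)
    (h' : IsCyc T' a') (hc : T.charpoly = T'.charpoly)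
    (hv : B.det (fun i => (T ^ (i : ℕ)) a) = B.det (fun i => (T' ^ (i : ℕ)) a')) : SSim T T' := by
  obtain ⟨e, h1, h2⟩ := h.exists_intertwine h' hc
  refine ⟨e, ?_, LinearMap.ext h2⟩
  have h3 := B.det_comp (e : V →ₗ[F] V) fun i => (T ^ (i : ℕ)) a
  have h4 : ((e : V →ₗ[F] V) ∘ fun i : Fin n => (T ^ (i : ℕ)) a) =
      fun i : Fin n => (T' ^ (i : ℕ)) a' :=
    funext fun i => by simpa using h1 (X ^ (i : ℕ))
  rw [h4, ← hv] at h3
  exact (mul_eq_right₀ (h.vol_ne_zero B)).1 h3.symm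

end vol

end Cfsg.Agent.H4
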