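import Cfsg.Agent.H4.CV1

/-! Covering numbers of linear groups, part 2: a non-scalar endomorphism is a product of elements
of two prescribed cyclic classes, one of which has a simple eigenvalue. -/

set_option autoImplicit false

namespace Cfsg.Agent.H4

open Module Polynomial

universe u

variable {F : Type u} [Field F]
variable {V : Type*} [AddCommGroup V] [Module F V]

/-- Krylov subspaces. -/
def Kr (N : End F V) (b : V) (i : ℕ) : Submodule F V :=
  Submodule.span F ((fun j => (N ^ j) b) '' Set.Iio i)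

theorem mem_Kr (N : End F V) (b : V) {i j : ℕ} (h : j < i) : (N ^ j) b ∈ Kr N b i :=
  Submodule.subset_span ⟨j, h, rfl⟩

theorem Kr_zero (N : End F V) (b : V) : Kr N b 0 = ⊥ := by
  simp [Kr, Set.Iio]

theorem Kr_succ (N : End F V) (b : V) (i : ℕ) :
    Kr N b (i + 1) = Kr N b i ⊔ Submodule.span F {(N ^ i) b} := by
  have : Set.Iio (i + 1) = insert i (Set.Iio i) := by
    ext j
    simp only [Set.mem_Iio, Set.mem_insert_iff]
    omega
  rw [Kr, Kr, ← Submodule.span_union, Set.union_singleton, this, Set.image_insert_eq]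

theorem mem_Kr_succ {N : End F V} {b : V} {i : ℕ} {v : V} (h : v ∈ Kr N b (i + 1)) :
    ∃ p ∈ Kr N b i, ∃ c : F, v = p + c • (N ^ i) b := by
  rw [Kr_succ, Submodule.mem_sup] at h
  obtain ⟨p, hp, q, hq, rfl⟩ := h
  obtain ⟨c, rfl⟩ := Submodule.mem_span_singleton.1 hq
  exact ⟨p, hp, c, rfl⟩

theorem Kr_le_succ (N : End F V) (b : V) (i : ℕ) : Kr N b i ≤ Kr N b (i + 1) := by
  rw [Kr_succ]; exact le_sup_left

theorem apply_mem_Kr {N : End F V} {b : V} {i : ℕ} {v : V} (h : v ∈ Kr N b i) :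
    N v ∈ Kr N b (i + 1) := by
  refine (Submodule.span_le (p := (Kr N b (i + 1)).comap N)).2 ?_ h
  rintro _ ⟨j, hj, rfl⟩
  have := mem_Kr N b (Nat.succ_lt_succ hj)
  rwa [pow_succ'] at this

theorem Kr_agree {N N' : End F V} {b : V} {i : ℕ} (h : ∀ v ∈ Kr N b i, N' v = N v) :
    ∀ j ≤ i, (N' ^ j) b = (N ^ j) b := by
  intro j hj
  induction j with
  | zero => simp
  | succ j ih =>
    rw [pow_succ', pow_succ', Module.End.mul_apply, Module.End.mul_apply, ih (by omega),
      h _ (mem_Kr N b hj)]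

theorem Kr_congr {N N' : End F V} {b : V} {i : ℕ} (h : ∀ j < i, (N' ^ j) b = (N ^ j) b) :
    Kr N' b i = Kr N b i :=
  by rw [Kr, Kr, Set.image_congr (s := Set.Iio i) (f := fun j => (N' ^ j) b)
    (g := fun j => (N ^ j) b) h]

theorem Kr_le {N : End F V} {b : V} {S : Submodule F V} (h1 : b ∈ S) (h2 : ∀ w ∈ S, N w ∈ S)
    (i : ℕ) : Kr N b i ≤ S := by
  rw [Kr, Submodule.span_le]
  rintro _ ⟨j, -, rfl⟩
  exact Module.End.pow_apply_mem_of_forall_mem j h2 b h1

variable [Module.Finite F V]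

theorem finrank_sup_span {P : Submodule F V} {u : V} (h : u ∉ P) :
    finrank F (P ⊔ Submodule.span F {u} : Submodule F V) = finrank F P + 1 := by
  have h0 : u ≠ 0 := fun h0 => h (h0 ▸ P.zero_mem)
  have := Submodule.finrank_sup_add_finrank_inf_eq P (Submodule.span F {u})
  rw [((Submodule.disjoint_span_singleton' h0).2 h).eq_bot, finrank_span_singleton h0] at this
  simpa using this

theorem finrank_sup_span_le (P : Submodule F V) (u : V) :
    finrank F (P ⊔ Submodule.span F {u} : Submodule F V) ≤ finrank F P + 1 := by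
  by_cases h : u ∈ P
  · rw [sup_eq_left.2 ((Submodule.span_singleton_le_iff_mem _ _).2 h)]; omega
  · exact (finrank_sup_span h).le

theorem finrank_Kr_le (N : End F V) (b : V) (i : ℕ) : finrank F (Kr N b i) ≤ i := by
  induction i with
  | zero => rw [Kr_zero]; simp
  | succ i ih => rw [Kr_succ]; exact (finrank_sup_span_le _ _).trans (by omega)

theorem not_mem_Kr {N : End F V} {b : V} {i : ℕ} (h : finrank F (Kr N b (i + 1)) = i + 1) :
    (N ^ i) b ∉ Kr N b i := fun h1 => by
  rw [Kr_succ, sup_eq_left.2 ((Submodule.span_singleton_le_iff_mem _ _).2 h1)] at h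
  have := finrank_Kr_le N b i
  omega

/-- The state of the inductive construction. -/
structure LSt (M : End F V) (b : V) (ω : F) (i : ℕ) (W : End F V) : Prop where
  rk : finrank F (Kr (M * W) b (i + 1)) = i + 1
  eig : W b = ω • b
  hes : ∀ v ∈ Kr (M * W) b i, M v ∈ Kr (M * W) b (i + 1)
  obs : ∀ S : Submodule F V, b ∈ S → S ≤ Kr (M * W) b i → (∀ w ∈ S, W w ∈ S) →
    S ≤ Submodule.span F {b}

theorem LSt.base {M : End F V} {b : V} {ω : F} (hω : ω ≠ 0) (hb : b ≠ 0)
    (h : M b ∉ Submodule.span F {b}) : LSt M b ω 1 (ω • 1) := by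
  have h1 : Kr (M * ω • 1) b 1 = Submodule.span F {b} := by rw [Kr_succ, Kr_zero]; simp
  refine ⟨?_, rfl, fun v hv => ?_, fun S _ h2 _ => h1 ▸ h2⟩
  · rw [Kr_succ, finrank_sup_span, h1, finrank_span_singleton hb]
    rw [h1]
    simpa [Submodule.smul_mem_iff _ hω] using h
  · have := apply_mem_Kr hv
    rw [← Submodule.smul_mem_iff _ hω]
    simpa using this

theorem LSt.next {M : End F V} {b : V} {ω : F} {i : ℕ} {W W' : End F V} (h : LSt M b ω i W)
    (hi : 0 < i) (h1 : ∀ v ∈ Kr (M * W) b i, W' v = W v)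
    (h2 : M (W' (((M * W) ^ i) b)) ∉ Kr (M * W) b (i + 1))
    (h3 : M (((M * W) ^ i) b) ∈
      Kr (M * W) b (i + 1) ⊔ Submodule.span F {M (W' (((M * W) ^ i) b))})
    (h4 : ∀ S : Submodule F V, b ∈ S → S ≤ Kr (M * W) b (i + 1) → (∀ w ∈ S, W' w ∈ S) →
      S ≤ Submodule.span F {b}) :
    LSt M b ω (i + 1) W' ∧ ∀ j ≤ i, ((M * W') ^ j) b = ((M * W) ^ j) b := by
  have a1 := Kr_agree (N := M * W) (N' := M * W') (b := b) (i := i) fun v hv => by
    rw [Module.End.mul_apply, Module.End.mul_apply, h1 v hv]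
  have a2 : Kr (M * W') b (i + 1) = Kr (M * W) b (i + 1) := Kr_congr fun j hj => a1 j (by omega)
  have a3 : Kr (M * W') b (i + 1 + 1) =
      Kr (M * W) b (i + 1) ⊔ Submodule.span F {M (W' (((M * W) ^ i) b))} := by
    rw [Kr_succ, a2, pow_succ', Module.End.mul_apply, a1 i le_rfl]; rfl
  refine ⟨⟨by rw [a3, finrank_sup_span h2, h.rk], ?_, fun v hv => ?_, by rw [a2]; exact h4⟩, a1⟩
  · rw [h1 b (by simpa using mem_Kr (M * W) b hi), h.eig]
  · rw [a2] at hv
    obtain ⟨p, hp, c, rfl⟩ := mem_Kr_succ hv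
    rw [a3, map_add, map_smul]
    exact add_mem (Submodule.mem_sup_left (h.hes p hp)) (Submodule.smul_mem _ _ h3)

theorem LSt.step {M : End F V} (hM : LinearMap.det M ≠ 0) {b : V} (hb : b ≠ 0) {ω : F} {i : ℕ}
    {W : End F V} (h : LSt M b ω i W) (hi : 0 < i) (hn : i + 1 < finrank F V) :
    ∃ z : V, ∀ s : F, s ≠ 0 → ∃ W', LSt M b ω (i + 1) W' ∧
      (∀ j ≤ i, ((M * W') ^ j) b = ((M * W) ^ j) b) ∧
      ((M * W') ^ (i + 1)) b - s • z ∈ Kr (M * W) b (i + 1) := by
  obtain ⟨M', m1, m2, -⟩ := exists_inv_of_det hM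
  have m3 : ∀ v, M (M' v) = v := fun v => LinearMap.congr_fun m1 v
  set N := M * W with hN
  set u := (N ^ i) b with hu
  obtain ⟨f, f1, f2⟩ := exists_dual_one_zero (not_mem_Kr h.rk)
  rw [← hN, ← hu] at f1
  rw [← hN] at f2
  have hbP : b ∈ Kr N b i := by simpa using mem_Kr N b hi
  have fin : ∀ (y z : V) (s : F), (M y - s • z ∈ Kr N b (i + 1)) → M y ∉ Kr N b (i + 1) →
      M u ∈ Kr N b (i + 1) ⊔ Submodule.span F {M y} →
      (∀ W' : End F V, (∀ v ∈ Kr N b i, W' v = W v) → W' u = y → ∀ S : Submodule F V, b ∈ S →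
        S ≤ Kr N b (i + 1) → (∀ w ∈ S, W' w ∈ S) → S ≤ Submodule.span F {b}) →
      ∃ W', LSt M b ω (i + 1) W' ∧ (∀ j ≤ i, ((M * W') ^ j) b = (N ^ j) b) ∧
        ((M * W') ^ (i + 1)) b - s • z ∈ Kr N b (i + 1) := by
    intro y z s a1 a2 a3 a4
    have e1 : ∀ v ∈ Kr N b i, (W + f.smulRight (y - W u)) v = W v := fun v hv => by simp [f2 v hv]
    have e2 : (W + f.smulRight (y - W u)) u = y := by simp [f1]
    obtain ⟨b1, b2⟩ := h.next hi e1 (by rw [← hN, ← hu, e2]; exact a2)
      (by rw [← hN, ← hu, e2]; exact a3) (a4 _ e1 e2)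
    refine ⟨_, b1, b2, ?_⟩
    rw [pow_succ', Module.End.mul_apply, b2 i le_rfl, Module.End.mul_apply, ← hN, ← hu, e2]
    exact a1
  by_cases hc : M u ∈ Kr N b (i + 1)
  · obtain ⟨z, hz⟩ : ∃ z, z ∉ Kr N b (i + 1) := by
      by_contra hh
      push Not at hh
      have := h.rk
      rw [← hN, Submodule.eq_top_iff'.2 hh, finrank_top] at this
      omega
    refine ⟨z, fun s hs => fin (M' (s • z)) z s (by rw [m3]; simp)
      (by rwa [m3, Submodule.smul_mem_iff _ hs]) (Submodule.mem_sup_left hc) ?_⟩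
    intro W' e1 e2 S s1 s2 s3
    have hR : ∀ v ∈ Kr N b (i + 1), M v ∈ Kr N b (i + 1) := fun v hv => by
      obtain ⟨p, hp, c, rfl⟩ := mem_Kr_succ hv
      rw [map_add, map_smul]
      exact add_mem (h.hes p hp) (Submodule.smul_mem _ _ hc)
    have s4 : S ≤ Kr N b i := fun w hw => by
      obtain ⟨p, hp, c, rfl⟩ := mem_Kr_succ (s2 hw)
      have := hR _ (s2 (s3 _ hw))
      have h5 : M (W p) ∈ Kr N b (i + 1) := apply_mem_Kr hp
      rw [map_add, map_smul, e1 p hp, ← hu, e2, map_add, map_smul, m3,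
        Submodule.add_mem_iff_right _ h5, smul_smul] at this
      by_cases c0 : c = 0
      · simpa [c0] using hp
      · exact absurd ((Submodule.smul_mem_iff _ (mul_ne_zero c0 hs)).1 this) hz
    exact h.obs S s1 s4 fun w hw => e1 w (s4 hw) ▸ s3 w hw
  · refine ⟨M u, fun s hs => ?_⟩
    obtain ⟨l, hl⟩ := Module.Projective.exists_dual_eq_one F hb
    let g : End F V := s • 1 - W + l.smulRight ((1 - s + ω) • b)
    obtain ⟨y, y1, y2⟩ : ∃ y, M y ∈ Kr N b (i + 1) ∧ y ∉ (Kr N b i).map g := by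
      by_contra hh
      push Not at hh
      have h1 : (Kr N b (i + 1)).map M' ≤ (Kr N b i).map g := by
        rintro _ ⟨v, hv, rfl⟩
        exact hh _ (by rwa [m3])
      have h2 := Submodule.finrank_mono h1
      have h3 := Submodule.finrank_map_le g (Kr N b i)
      have h4 := finrank_Kr_le N b i
      rw [← (Submodule.equivMapOfInjective M' (Function.LeftInverse.injective m3) _).finrank_eq,
        h.rk] at h2
      omega
    have key : ∀ w ∈ Kr N b (i + 1), M w ∈ Kr N b (i + 1) → w ∈ Kr N b i := fun w hw hw' => by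
      obtain ⟨p, hp, c, rfl⟩ := mem_Kr_succ hw
      rw [map_add, map_smul, Submodule.add_mem_iff_right _ (h.hes p hp)] at hw'
      by_cases c0 : c = 0
      · simpa [c0] using hp
      · exact absurd ((Submodule.smul_mem_iff _ c0).1 hw') hc
    refine fin (s • u + y) (M u) s (by simpa using y1) ?_ ?_ ?_
    · rwa [map_add, map_smul, Submodule.add_mem_iff_left _ y1, Submodule.smul_mem_iff _ hs]
    · rw [← Submodule.smul_mem_iff _ hs, show s • M u = M (s • u + y) - M y by simp]
      exact sub_mem (Submodule.mem_sup_right (Submodule.subset_span rfl)) (Submodule.mem_sup_left y1)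
    · intro W' e1 e2 S s1 s2 s3
      have s4 := h.obs (S ⊓ Kr N b i) ⟨s1, hbP⟩ inf_le_right fun w hw => by
        have := s3 w hw.1
        rw [e1 w hw.2] at this
        exact ⟨this, key _ (s2 this) (apply_mem_Kr hw.2)⟩
      intro w hw
      obtain ⟨p, hp, c, rfl⟩ := mem_Kr_succ (s2 hw)
      by_cases c0 : c = 0
      · exact s4 ⟨hw, by simpa [c0] using hp⟩
      exfalso
      have s5 := S.sub_mem (s3 _ hw) (S.smul_mem s hw)
      rw [map_add, map_smul, e1 p hp, ← hu, e2,
        show W p + c • (s • u + y) - s • (p + c • u) = c • y + W p - s • p by module] at s5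
      obtain ⟨t, ht⟩ := Submodule.mem_span_singleton.1 (s4 ⟨s5, key _ (s2 s5) (by
        rw [map_sub, map_add, map_smul, map_smul]
        exact sub_mem (add_mem (Submodule.smul_mem _ _ y1) (apply_mem_Kr hp))
          (Submodule.smul_mem _ _ (h.hes p hp)))⟩)
      refine y2 ((Submodule.smul_mem_iff _ c0).1
        ⟨p + (t - l p * (1 - s + ω)) • b, add_mem hp (Submodule.smul_mem _ _ hbP), ?_⟩)
      simp only [g, LinearMap.add_apply, LinearMap.sub_apply, LinearMap.smul_apply,
        Module.End.one_apply, LinearMap.smulRight_apply, map_add, map_smul, h.eig, hl]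
      linear_combination (norm := module) ht

theorem LSt.exists {M : End F V} (hM : LinearMap.det M ≠ 0) {b : V} {ω : F} (hω : ω ≠ 0)
    (hb : b ≠ 0) (h : M b ∉ Submodule.span F {b}) (i : ℕ) (hn : i + 1 < finrank F V) :
    ∃ W, LSt M b ω (i + 1) W := by
  induction i with
  | zero => exact ⟨_, LSt.base hω hb h⟩
  | succ i ih =>
    obtain ⟨W, hW⟩ := ih (by omega)
    obtain ⟨z, hz⟩ := hW.step hM hb i.succ_pos hn
    obtain ⟨W', h1, -⟩ := hz 1 one_ne_zero
    exact ⟨W', h1⟩

theorem LSt.finish {M : End F V} (hM : LinearMap.det M ≠ 0) {b : V} (hb : b ≠ 0) {ω : F} {m : ℕ}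
    {W : End F V} (h : LSt M b ω (m + 1) W) (B0 : Basis (Fin (m + 2)) F V) {A B : End F V}
    (hB : Cyc B) (hB' : Spl B ω) (hB0 : LinearMap.det B ≠ 0)
    (hd : LinearMap.det A = LinearMap.det M * LinearMap.det B) :
    ∃ W', Sim B W' ∧ IsCyc (M * W') b ∧ (M * W').charpoly = A.charpoly ∧
      B0.det (fun i => ((M * W') ^ (i : ℕ)) b) = B0.det (fun i => ((M * W) ^ (i : ℕ)) b) := by
  have hn : finrank F V = m + 2 := by simpa using finrank_eq_card_basis B0
  obtain ⟨χ, c1, c2, c3⟩ := hB'.exists_charpoly hB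
  have c4 : χ.natDegree = m + 1 := by
    have := B.charpoly_natDegree
    rw [c2, (monic_X_sub_C ω).natDegree_mul c1, natDegree_X_sub_C] at this
    omega
  have hω : ω ≠ 0 := by
    rintro rfl
    exact hB0 (by rw [det_eq_charpoly, c2]; simp)
  set N := M * W with hN
  have htop : Kr N b (m + 2) = ⊤ := Submodule.eq_top_of_finrank_eq (h.rk.trans hn.symm)
  obtain ⟨f, f1, f2⟩ := exists_dual_one_zero (not_mem_Kr h.rk)
  rw [← hN] at f1 f2
  have hbP : b ∈ Kr N b (m + 1) := by simpa using mem_Kr N b m.succ_pos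
  have f3 : ∀ v, f v = 0 → v ∈ Kr N b (m + 1) := fun v hv => by
    obtain ⟨p, hp, c, rfl⟩ := mem_Kr_succ (htop ▸ Submodule.mem_top : v ∈ Kr N b (m + 1 + 1))
    rw [map_add, map_smul, f1, f2 p hp, zero_add, smul_eq_mul, mul_one] at hv
    simpa [hv] using hp
  obtain ⟨l, hl⟩ := Module.Projective.exists_dual_eq_one F hb
  have hK := finrank_ker_add_one hl
  obtain ⟨W0, hW0⟩ := exists_compress W hl
  obtain ⟨y, y1, y2⟩ := pole_placement_dual (T := W0) (f := f ∘ₗ (LinearMap.ker l).subtype)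
    (fun S s1 s2 => by
      have := h.obs (S.map (LinearMap.ker l).subtype ⊔ Submodule.span F {b})
        (Submodule.mem_sup_right (Submodule.subset_span rfl))
        (sup_le (by rintro _ ⟨v, hv, rfl⟩; exact f3 _ (s1 v hv))
          ((Submodule.span_singleton_le_iff_mem _ _).2 hbP)) fun w hw => by
          obtain ⟨_, ⟨v, hv, rfl⟩, q, hq, rfl⟩ := Submodule.mem_sup.1 hw
          obtain ⟨c, rfl⟩ := Submodule.mem_span_singleton.1 hq
          rw [map_add, map_smul, h.eig, Submodule.subtype_apply, eq_add_of_sub_eq (hW0 v).symm,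
            add_assoc, smul_smul, ← add_smul]
          exact Submodule.add_mem_sup ⟨_, s2 v hv, rfl⟩
            (Submodule.smul_mem _ _ (Submodule.subset_span rfl))
      rw [eq_bot_iff]
      intro v hv
      obtain ⟨c, hc⟩ := Submodule.mem_span_singleton.1
        (this (Submodule.mem_sup_left ⟨v, hv, rfl⟩))
      have h2 := congrArg l hc
      rw [map_smul, hl, Submodule.subtype_apply, LinearMap.mem_ker.1 v.2, smul_eq_mul,
        mul_one] at h2
      rw [h2, zero_smul] at hc
      exact Subtype.ext hc.symm) c1 (by omega) (by omega)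
  set W1 := W + f.smulRight (y : V) with hW1
  have w1 : W1 b = ω • b := by simp [hW1, f2 b hbP, h.eig]
  have w2 : ∀ κ : V →ₗ[F] F, κ b = 0 → Sim B (W1 + κ.smulRight b) := fun κ hκ => by
    have s1 : Sim (tri (ω • (1 : End F F)) ((l ∘ₗ W + κ) ∘ₗ (LinearMap.ker l).subtype)
        (W0 + (f ∘ₗ (LinearMap.ker l).subtype).smulRight y)) (W1 + κ.smulRight b) :=
      sim_tri_upper hl (by simp [w1, hκ]) fun v => by
        simp [hW1, hW0, add_smul]
        abel
    refine (hB.sim (cyc_tri_upper _ y2 (by rwa [y1])) ?_).trans s1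
    rw [charpoly_tri, charpoly_smul_one, y1, c2]
  have w3 : LinearMap.det W1 = LinearMap.det B := by simpa using (w2 0 rfl).det_eq.symm
  have a1 := Kr_agree (N := N) (N' := M * W1) (b := b) (i := m + 1) fun v hv => by
    simp [hN, hW1, f2 v hv]
  have a2 : IsCyc (M * W1) b := isCyc_iff.2 fun S s1 s2 => by
    have := Kr_le s1 s2 (m + 2)
    rwa [Kr_congr (N := N) fun j hj => a1 j (by omega), htop, top_le_iff] at this
  have a3 : IsCyc (M * W1) (M b) := by
    obtain ⟨N', n1, n2, -⟩ := exists_inv_of_det (e := M * W1) (by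
      rw [map_mul, w3]; exact mul_ne_zero hM hB0)
    refine IsCyc.inv (A := N') (isCyc_iff.2 fun S s1 s2 => isCyc_iff.1 (a2.inv n1) S ?_ s2) n2
    have := s2 _ (S.smul_mem ω s1)
    rwa [← map_smul, ← w1, ← Module.End.mul_apply M, ← Module.End.mul_apply, n2] at this
  obtain ⟨κ, k1, k2⟩ := pole_placement a3 A.charpoly_monic A.charpoly_natDegree (by omega)
  have e1 : M * (W1 + κ.smulRight b) = M * W1 + κ.smulRight (M b) :=
    LinearMap.ext fun v => by simp
  have k3 : κ b = 0 := by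
    have e2 : W1 + κ.smulRight b = W1 * (1 + κ.smulRight (ω⁻¹ • b)) :=
      LinearMap.ext fun v => by simp [w1, smul_smul, hω]
    have e3 : LinearMap.det (M * (W1 + κ.smulRight b)) = LinearMap.det A := by
      rw [e1, det_eq_charpoly, k1, ← det_eq_charpoly]
    rw [e2, map_mul, map_mul, det_one_add_smulRight', w3, hd, ← mul_assoc,
      mul_eq_left₀ (mul_ne_zero hM hB0)] at e3
    simpa [hω] using e3
  refine ⟨_, w2 κ k3, ?_, by rw [e1, k1], ?_⟩
  · rw [e1]
    refine isCyc_iff.2 fun S s1 s2 => isCyc_iff.1 k2 S ?_ s2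
    have := s2 b s1
    simpa [w1, k3, S.smul_mem_iff hω] using this
  · obtain ⟨v, hv⟩ := a2.exists_krylov hn
    have v1 : M b = ω⁻¹ • v 1 := by
      rw [hv]; simp [w1, smul_smul, hω]
    have v2 : ∀ i j : Fin (m + 2), (i : ℕ) + 1 ≤ j →
        v.repr ((M * W1 + κ.smulRight (M b)) (v i)) j = if (i : ℕ) + 1 = j then 1 else 0 := by
      intro i j hij
      have v3 : (M * W1) (v i) = v ⟨i + 1, by omega⟩ := by rw [hv, hv, pow_succ']; rfl
      have v4 : κ (v i) • v.repr (v 1) j = 0 := by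
        by_cases c : (i : ℕ) = 0
        · rw [hv, c]; simp [k3]
        · rw [v.repr_self, Finsupp.single_eq_of_ne, smul_zero]
          rintro rfl
          simp at hij
          exact c (by simp [hij])
      rw [LinearMap.add_apply, v3, LinearMap.smulRight_apply, v1, map_add, map_smul, map_smul,
        smul_comm, Finsupp.add_apply, Finsupp.smul_apply, Finsupp.smul_apply, v4]
      simp [Finsupp.single_apply, Fin.ext_iff]
    rw [e1, det_krylov B0 v (fun i j h => by rw [v2 i j h.le, if_neg h.ne])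
      (fun i j h => by rw [v2 i j h.le, if_pos h]) (fun i hi => by rw [hv, hi]; rfl)]
    exact congrArg _ (funext fun i => by rw [hv, a1 i (by omega)])

theorem Spl.ne_zero {B : End F V} {ω : F} (h : Spl B ω) (hB0 : LinearMap.det B ≠ 0) : ω ≠ 0 := by
  obtain ⟨e, f, a1, a2, -⟩ := h
  rintro rfl
  rw [zero_smul, map_eq_zero_iff _ (injective_of_det hB0)] at a2
  simp [a2] at a1

theorem lev_gl (hV : 2 ≤ finrank F V) {M A B : End F V} (hM : LinearMap.det M ≠ 0)
    (hM' : ∀ c : F, M ≠ c • 1) (hA : Cyc A) (hB : Gd B) (hB0 : LinearMap.det B ≠ 0)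
    (hd : LinearMap.det A = LinearMap.det M * LinearMap.det B) :
    ∃ W, SSim B W ∧ Sim A (M * W) := by
  obtain ⟨m, hm⟩ : ∃ m, finrank F V = m + 2 := ⟨finrank F V - 2, by omega⟩
  obtain ⟨b, hb, h1⟩ := exists_not_mem_span hM'
  obtain ⟨ω, hω⟩ := hB.2
  obtain ⟨W, hW⟩ := LSt.exists hM (hω.ne_zero hB0) hb h1 m (by omega)
  obtain ⟨W', a1, a2, a3, -⟩ := hW.finish hM hb (finBasisOfFinrankEq F V hm) hB.1 hω hB0 hd
  exact ⟨W', hB.ssim a1, hA.sim ⟨b, a2⟩ a3.symm⟩

theorem lev_sl (hV : 3 ≤ finrank F V) {M A B : End F V} (hM : LinearMap.det M ≠ 0)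
    (hM' : ∀ c : F, M ≠ c • 1) (hA : Cyc A) (hB : Gd B) (hB0 : LinearMap.det B ≠ 0)
    (hd : LinearMap.det A = LinearMap.det M * LinearMap.det B) :
    ∃ W, SSim B W ∧ SSim A (M * W) := by
  obtain ⟨m, hm⟩ : ∃ m, finrank F V = m + 3 := ⟨finrank F V - 3, by omega⟩
  obtain ⟨b, hb, h1⟩ := exists_not_mem_span hM'
  obtain ⟨ω, hω⟩ := hB.2
  obtain ⟨a, ha⟩ := hA
  let B0 := finBasisOfFinrankEq F V hm
  obtain ⟨W, hW⟩ := LSt.exists hM (hω.ne_zero hB0) hb h1 m (by omega)
  obtain ⟨z, hz⟩ := hW.step hM hb m.succ_pos (by omega)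
  let k : Fin (m + 3) → V := fun i => ((M * W) ^ (i : ℕ)) b
  have key : ∀ s : F, s ≠ 0 → ∃ W', Sim B W' ∧ IsCyc (M * W') b ∧ (M * W').charpoly = A.charpoly ∧
      B0.det (fun i => ((M * W') ^ (i : ℕ)) b) =
        s * B0.det (Function.update k (Fin.last _) z) := by
    intro s hs
    obtain ⟨W1, b1, b2, b3⟩ := hz s hs
    obtain ⟨W', a1, a2, a3, a4⟩ := b1.finish hM hb B0 hB.1 hω hB0 hd
    refine ⟨W', a1, a2, a3, a4.trans ?_⟩
    have e1 : (fun i : Fin (m + 3) => ((M * W1) ^ (i : ℕ)) b) = Function.update k (Fin.last _)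
        (s • z + (((M * W1) ^ (m + 1 + 1)) b - s • z)) := funext fun i => by
      by_cases hi : i = Fin.last _
      · subst hi; simp
      · rw [Function.update_of_ne hi]
        exact b2 i (by have := Fin.val_lt_last hi; omega)
    have e2 : ∀ w ∈ Kr (M * W) b (m + 1 + 1), B0.det (Function.update k (Fin.last _) w) = 0 := by
      intro w hw
      induction hw using Submodule.span_induction with
      | mem w hw =>
        obtain ⟨j, hj, rfl⟩ := hw
        have hj' : j < m + 2 := hj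
        have hne : (⟨j, by omega⟩ : Fin (m + 3)) ≠ Fin.last _ := fun h => by
          have := congrArg Fin.val h
          simp at this; omega
        exact B0.det.map_eq_zero_of_eq _ (by rw [Function.update_of_ne hne, Function.update_self])
          hne
      | zero => simp
      | add x y _ _ hx hy => rw [AlternatingMap.map_update_add, hx, hy, add_zero]
      | smul c x _ hx => rw [AlternatingMap.map_update_smul, hx, smul_zero]
    rw [e1, AlternatingMap.map_update_add, AlternatingMap.map_update_smul, e2 _ b3, add_zero,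
      smul_eq_mul]
  have d0 : B0.det (Function.update k (Fin.last _) z) ≠ 0 := by
    obtain ⟨W', -, a2, -, a4⟩ := key 1 one_ne_zero
    rw [one_mul] at a4
    exact a4 ▸ a2.vol_ne_zero B0
  obtain ⟨W', a1, a2, a3, a4⟩ := key _ (div_ne_zero (ha.vol_ne_zero B0) d0)
  exact ⟨W', hB.ssim a1, ha.ssim B0 a2 a3.symm (by rw [a4, div_mul_cancel₀ _ d0])⟩

end Cfsg.Agent.H4
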