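import Mathlib
import Cfsg.Agent.H4.CountSL

/-! Numerical bounds for the number of classes of `SL_n(q)` and `PSL_n(q)`. -/

set_option autoImplicit false
open Polynomial Module

namespace Cfsg.Agent.H4

universe u

theorem num_bound (q N : ℕ) (hq : 2 ≤ q) (a : ℕ → ℕ) (ha : ∀ m, 1 ≤ m → a m + 1 ≤ q ^ m)
    (h3 : a 3 + q ≤ q ^ 3) (hN : 3 ≤ N) :
    a N + ∑ e ∈ (N.gcd (q - 1)).divisors, (e ^ 2 - 1) * a (N / e) ≤
      (q - 1) * (q ^ (N - 1) + 3 * q ^ (N - 2)) := by
  obtain ⟨r, rfl⟩ : ∃ r, q = r + 1 := ⟨q - 1, by omega⟩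
  rw [Nat.add_sub_cancel]
  have hr : 1 ≤ r := by omega
  have hg : N.gcd r ≤ r := Nat.gcd_le_right _ hr
  have hgN : N.gcd r ∣ N := Nat.gcd_dvd_left _ _
  have h1 := ha 1 le_rfl
  have h2 := ha 2 (by omega)
  by_cases hg1 : N.gcd r = 1
  · have h4 := ha N (by omega)
    obtain ⟨k, rfl⟩ : ∃ k, N = k + 2 := ⟨N - 2, by omega⟩
    rw [hg1, Nat.add_sub_cancel, show k + 2 - 1 = k + 1 by omega]
    simp only [Nat.divisors_one, Finset.sum_singleton, one_pow, tsub_self, zero_mul, add_zero]
    rw [pow_succ, pow_succ] at h4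
    rw [pow_succ]
    generalize (r + 1) ^ k = t at h4 ⊢
    nlinarith [Nat.mul_le_mul_left t hr]
  rcases (by omega : N = 3 ∨ N = 4 ∨ N = 5 ∨ 6 ≤ N) with rfl | rfl | rfl | h6
  · have : Nat.gcd 3 r = 3 := ((Nat.dvd_prime Nat.prime_three).1 hgN).resolve_left hg1
    rw [this] at hg ⊢
    rw [show Nat.divisors 3 = {1, 3} by decide]
    norm_num
    nlinarith [Nat.mul_le_mul_left r hg]
  · have h4 := ha 4 (by omega)
    have : Nat.gcd 4 r = 2 ∨ Nat.gcd 4 r = 4 := by
      have := Nat.le_of_dvd (by omega) hgN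
      interval_cases Nat.gcd 4 r <;> omega
    rcases this with this | this
    · rw [this] at hg ⊢
      rw [show Nat.divisors 2 = {1, 2} by decide]
      norm_num
      nlinarith [Nat.mul_le_mul_left r hg, Nat.mul_le_mul_left (r * r) hg]
    · rw [this] at hg ⊢
      rw [show Nat.divisors 4 = {1, 2, 4} by decide]
      norm_num
      nlinarith [Nat.mul_le_mul_left r hg, Nat.mul_le_mul_left (r * r) hg]
  · have h5 := ha 5 (by omega)
    have : Nat.gcd 5 r = 5 := ((Nat.dvd_prime Nat.prime_five).1 hgN).resolve_left hg1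
    rw [this] at hg ⊢
    rw [show Nat.divisors 5 = {1, 5} by decide]
    norm_num
    nlinarith [Nat.mul_le_mul_left r hg, Nat.mul_le_mul_left (r * r) hg,
      Nat.mul_le_mul_left (r * r * r) hg]
  · have hr2 : 2 ≤ r := by
      have := Nat.gcd_pos_of_pos_right N hr
      omega
    obtain ⟨k, rfl⟩ : ∃ k, N = k + 4 := ⟨N - 4, by omega⟩
    have hsum : ∑ e ∈ ((k + 4).gcd r).divisors, (e ^ 2 - 1) * a ((k + 4) / e) ≤
        ∑ e ∈ ((k + 4).gcd r).divisors,
          ((if e = 2 then 3 * (r + 1) ^ (k + 1) else 0) + r ^ 2 * (r + 1) ^ k) := by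
      refine Finset.sum_le_sum fun e he => ?_
      have he1 : e ∣ k + 4 := (Nat.dvd_of_mem_divisors he).trans hgN
      have he2 : e ≤ r := (Nat.divisor_le he).trans hg
      have he3 : 0 < e := Nat.pos_of_mem_divisors he
      have he4 := ha ((k + 4) / e) (Nat.div_pos (Nat.le_of_dvd (by omega) he1) he3)
      rcases (by omega : e = 1 ∨ e = 2 ∨ 3 ≤ e) with rfl | rfl | h
      · simp
      · have : (r + 1) ^ ((k + 4) / 2) ≤ (r + 1) ^ (k + 1) :=
          Nat.pow_le_pow_right (by omega) (by omega)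
        norm_num
        omega
      · have h5 : (k + 4) / e ≤ (k + 4) / 3 := Nat.div_le_div_left h (by omega)
        have : (r + 1) ^ ((k + 4) / e) ≤ (r + 1) ^ k :=
          Nat.pow_le_pow_right (by omega) (by omega)
        refine le_add_left (Nat.mul_le_mul ?_ (by omega))
        exact (Nat.sub_le _ _).trans (Nat.pow_le_pow_left he2 2)
    have hcard : ((k + 4).gcd r).divisors.card ≤ r :=
      (Nat.card_divisors_le_self _).trans hg
    rw [Finset.sum_add_distrib, Finset.sum_const, smul_eq_mul, Finset.sum_ite_eq'] at hsum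
    have h7 : (if 2 ∈ ((k + 4).gcd r).divisors then 3 * (r + 1) ^ (k + 1) else 0) ≤
        3 * (r + 1) ^ (k + 1) := by split_ifs <;> omega
    have h8 := Nat.mul_le_mul_right (r ^ 2 * (r + 1) ^ k) hcard
    have h4 := ha (k + 4) (by omega)
    rw [show k + 4 - 1 = k + 3 by omega, show k + 4 - 2 = k + 2 by omega]
    refine (Nat.add_le_add (Nat.le_of_succ_le h4) (hsum.trans (Nat.add_le_add h7 h8))).trans ?_
    simp only [pow_add]
    generalize (r + 1) ^ k = t
    have : (r + 1) ^ 4 + (3 * (r + 1) + r * r ^ 2) ≤ r * ((r + 1) ^ 3 + 3 * (r + 1) ^ 2) := by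
      nlinarith [Nat.mul_le_mul_left r hr2, Nat.mul_le_mul_left (r * r) hr2]
    nlinarith [Nat.mul_le_mul_left t this]

variable {F : Type u} [Field F] [Fintype F]

theorem card_units_eq : Nat.card Fˣ = Fintype.card F - 1 := by
  rw [Nat.card_units, Nat.card_eq_fintype_card]

theorem sig_one_le (M : ℕ) : sig F M 1 ≤ Fintype.card F - 1 := by
  have h1 := sig_le (F := F) M 1
  have h2 := UU_ncard_lt (F := F) M 1 le_rfl
  simp at h1 h2
  omega

theorem sig_two_le (M : ℕ) : sig F M 2 ≤ (Fintype.card F - 1) * (Fintype.card F + 4) ∧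
    2 * sig F M 2 ≤ (Fintype.card F - 1) * (5 * Fintype.card F) := by
  have h1 := sig_le (F := F) M 2
  have h2 := UU_ncard_lt (F := F) M 1 le_rfl
  have h3 := UU_ncard_lt (F := F) M 2 (by omega)
  rw [card_units_eq] at h1
  have hq : 1 < Fintype.card F := Fintype.one_lt_card
  obtain ⟨r, hr⟩ : ∃ r, Fintype.card F = r + 1 := ⟨Fintype.card F - 1, by omega⟩
  rw [hr] at h1 h2 h3 hq ⊢
  rw [Nat.add_sub_cancel] at h1 ⊢
  have hg : Nat.gcd 2 r ≤ r := Nat.gcd_le_right _ (by omega)
  rcases (Nat.dvd_prime Nat.prime_two).1 (Nat.gcd_dvd_left 2 r) with h | h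
  · rw [h] at h1
    norm_num at h1
    constructor <;> nlinarith
  · rw [h] at h1 hg
    rw [show Nat.divisors 2 = {1, 2} by decide] at h1
    norm_num at h1
    constructor <;> nlinarith

theorem sig_le_of_three {M N : ℕ} (hM : 3 ≤ M) (hN : 3 ≤ N) : sig F M N ≤
    (Fintype.card F - 1) * (Fintype.card F ^ (N - 1) + 3 * Fintype.card F ^ (N - 2)) := by
  have h1 := sig_le (F := F) M N
  rw [card_units_eq] at h1
  exact h1.trans (num_bound _ N Fintype.one_lt_card (fun m => (UU F M m).ncard)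
    (UU_ncard_lt M) (UU_three_le hM) hN)

theorem two_mul_sig_le {M N : ℕ} (hM : N ≤ M) (hN : 1 ≤ N) : 2 * sig F M N ≤
    (Fintype.card F - 1) * (5 * Fintype.card F ^ (N - 1)) := by
  rcases (by omega : N = 1 ∨ N = 2 ∨ 3 ≤ N) with rfl | rfl | h
  · have := sig_one_le (F := F) M
    simp
    omega
  · simpa using (sig_two_le (F := F) M).2
  · have h1 := sig_le_of_three (F := F) (h.trans hM) h
    obtain ⟨k, rfl⟩ : ∃ k, N = k + 2 := ⟨N - 2, by omega⟩
    rw [Nat.add_sub_cancel] at h1
    rw [show k + 2 - 1 = k + 1 by omega, pow_succ] at h1 ⊢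
    have hq : 2 ≤ Fintype.card F := Fintype.one_lt_card
    refine (Nat.mul_le_mul_left 2 h1).trans ?_
    rw [mul_left_comm]
    refine Nat.mul_le_mul_left _ ?_
    nlinarith [Nat.mul_le_mul_left (Fintype.card F ^ k) hq]

theorem card_mul_card_classes_SL_le (n : ℕ) :
    (Fintype.card F - 1) * Nat.card (ConjClasses (Matrix.SpecialLinearGroup (Fin n) F)) ≤
      sig F n n := by
  have h := card_mul_card_fixed_le (F := F) (n := Fin n) 1 1 (by simp)
  rw [card_units_eq, orderOf_one, Nat.div_one, Fintype.card_fin] at h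
  refine le_trans (le_of_eq ?_) h
  congr 1
  refine Nat.card_congr (Equiv.subtypeUnivEquiv fun c => ?_).symm
  obtain ⟨g, rfl⟩ := ConjClasses.mk_surjective c
  exact ⟨g, rfl, by rw [one_mul]⟩

theorem card_sub_one_pos : 0 < Fintype.card F - 1 := by
  have : 1 < Fintype.card F := Fintype.one_lt_card
  omega

theorem classes_SL_lt (n : ℕ) (hn : 2 ≤ n) : Fintype.card F ^ (n - 1) <
    Nat.card (ConjClasses (Matrix.SpecialLinearGroup (Fin n) F)) := by
  obtain ⟨p, hp⟩ := CharP.exists F
  have : Fact p.Prime := ⟨CharP.char_is_prime F p⟩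
  obtain ⟨k, rfl⟩ : ∃ k, n = k + 1 := ⟨n - 1, by omega⟩
  rw [Nat.add_sub_cancel, ← card_pregular_classes_SL p k]
  obtain ⟨u, h1, h2⟩ := exists_SL_unipotent (F := F) (n := Fin (k + 1)) (d := 2) (by omega)
    (by simpa using hn)
  have h3 := GL_orderOf_eq_clog p (Matrix.SpecialLinearGroup.toGL u) h1 h2
  rw [orderOf_injective _ Matrix.SpecialLinearGroup.toGL_injective] at h3
  refine Finite.card_subtype_lt (x := ConjClasses.mk u) ?_
  rintro ⟨g, hg, hc⟩
  obtain ⟨c, hc'⟩ := ConjClasses.mk_eq_mk_iff_isConj.1 hg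
  rw [hc'.orderOf_eq, h3] at hc
  have h4 : 0 < Nat.clog p 2 := Nat.clog_pos (Fact.out : p.Prime).one_lt (by omega)
  exact (Fact.out : p.Prime).one_lt.ne'
    (Nat.Coprime.eq_one_of_dvd hc.symm (dvd_pow_self p h4.ne'))

theorem classes_SL_le (n : ℕ) (hn : 2 ≤ n) :
    2 * Nat.card (ConjClasses (Matrix.SpecialLinearGroup (Fin n) F)) ≤
      5 * Fintype.card F ^ (n - 1) := by
  refine Nat.le_of_mul_le_mul_left ?_ (card_sub_one_pos (F := F))
  rw [mul_left_comm]
  exact (Nat.mul_le_mul_left 2 (card_mul_card_classes_SL_le n)).trans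
    (two_mul_sig_le le_rfl (by omega))

theorem classes_SL_le' (n : ℕ) (hn : 3 ≤ n) :
    Nat.card (ConjClasses (Matrix.SpecialLinearGroup (Fin n) F)) ≤
      Fintype.card F ^ (n - 1) + 3 * Fintype.card F ^ (n - 2) :=
  Nat.le_of_mul_le_mul_left ((card_mul_card_classes_SL_le n).trans (sig_le_of_three hn hn))
    (card_sub_one_pos (F := F))

theorem classes_PSL (n : ℕ) (hn : 2 ≤ n) :
    Fintype.card F ^ (n - 1) ≤ Nat.gcd n (Fintype.card F - 1) *
      Nat.card (ConjClasses (Matrix.ProjectiveSpecialLinearGroup (Fin n) F)) ∧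
    Nat.gcd n (Fintype.card F - 1) *
      Nat.card (ConjClasses (Matrix.ProjectiveSpecialLinearGroup (Fin n) F)) ≤
      Fintype.card F ^ (n - 1) + 5 * Fintype.card F ^ (n - 2) := by
  classical
  have : Nonempty (Fin n) := ⟨⟨0, by omega⟩⟩
  have hZ := card_center_SL (F := F) (n := Fin n)
  rw [Fintype.card_fin] at hZ
  have := Fintype.ofFinite (Subgroup.center (Matrix.SpecialLinearGroup (Fin n) F))
  have h := card_center_mul_card_classes (G := Matrix.SpecialLinearGroup (Fin n) F)
  rw [hZ, ← Finset.add_sum_erase _ _ (Finset.mem_univ 1)] at h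
  have h1 : Nat.card {c : ConjClasses (Matrix.SpecialLinearGroup (Fin n) F) //
      ∃ g, ConjClasses.mk g = c ∧
        IsConj g ((1 : Subgroup.center (Matrix.SpecialLinearGroup (Fin n) F)) * g)} =
      Nat.card (ConjClasses (Matrix.SpecialLinearGroup (Fin n) F)) := by
    refine Nat.card_congr (Equiv.subtypeUnivEquiv fun c => ?_)
    obtain ⟨g, rfl⟩ := ConjClasses.mk_surjective c
    exact ⟨g, rfl, by rw [OneMemClass.coe_one, one_mul]⟩
  rw [h1] at h
  rw [h]
  refine ⟨(classes_SL_lt n hn).le.trans (Nat.le_add_right _ _), ?_⟩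
  have key : ∀ z ∈ Finset.univ.erase (1 : Subgroup.center (Matrix.SpecialLinearGroup (Fin n) F)),
      ∃ o, 2 ≤ o ∧ o ≤ n ∧ (Fintype.card F - 1) *
        Nat.card {c : ConjClasses (Matrix.SpecialLinearGroup (Fin n) F) //
          ∃ g, ConjClasses.mk g = c ∧ IsConj g (z * g)} ≤ sig F n (n / o) := by
    intro z hz
    obtain ⟨r, hr1, hr2⟩ := Matrix.SpecialLinearGroup.mem_center_iff.1 z.2
    rw [Fintype.card_fin] at hr1
    have hr0 : r ≠ 0 := by
      rintro rfl
      rw [zero_pow (by omega)] at hr1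
      exact zero_ne_one hr1
    have h2 := card_mul_card_fixed_le (Units.mk0 r hr0) z.1 (by
      rw [← hr2]; simp [Matrix.smul_one_eq_diagonal])
    rw [card_units_eq, Fintype.card_fin] at h2
    refine ⟨_, ?_, ?_, h2⟩
    · have h3 := orderOf_pos (Units.mk0 r hr0)
      have h4 : orderOf (Units.mk0 r hr0) ≠ 1 := by
        rw [Ne, orderOf_eq_one_iff, ← Units.val_eq_one, Units.val_mk0]
        rintro rfl
        apply (Finset.mem_erase.1 hz).1
        apply Subtype.ext
        apply Subtype.ext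
        rw [← hr2]
        simp
      omega
    · exact orderOf_le_of_pow_eq_one (by omega) (Units.ext (by simpa using hr1))
  have hcard : (Finset.univ.erase
      (1 : Subgroup.center (Matrix.SpecialLinearGroup (Fin n) F))).card =
      n.gcd (Fintype.card F - 1) - 1 := by
    rw [Finset.card_erase_of_mem (Finset.mem_univ _), Finset.card_univ, ← hZ,
      Nat.card_eq_fintype_card]
  have hd1 : n.gcd (Fintype.card F - 1) ≤ n := Nat.gcd_le_left _ (by omega)
  have hd2 : n.gcd (Fintype.card F - 1) ≤ Fintype.card F - 1 :=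
    Nat.gcd_le_right _ card_sub_one_pos
  rcases eq_or_lt_of_le hn with rfl | hn3
  · have h2 := Finset.sum_le_card_nsmul _ _ 1 fun z hz => by
      obtain ⟨o, ho1, ho2, ho3⟩ := key z hz
      obtain rfl : o = 2 := le_antisymm ho2 ho1
      have := ho3.trans (sig_one_le (F := F) 2)
      exact Nat.le_of_mul_le_mul_left (this.trans_eq (mul_one _).symm) card_sub_one_pos
    rw [hcard, smul_eq_mul, mul_one] at h2
    have h3 := Nat.le_of_mul_le_mul_left
      ((card_mul_card_classes_SL_le 2).trans (sig_two_le (F := F) 2).1) card_sub_one_pos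
    rw [show 2 - 1 = 1 from rfl, Nat.sub_self, pow_one, pow_zero]
    omega
  · have h2 := Finset.sum_le_card_nsmul _
      (fun z : Subgroup.center (Matrix.SpecialLinearGroup (Fin n) F) =>
        2 * Nat.card {c : ConjClasses (Matrix.SpecialLinearGroup (Fin n) F) //
          ∃ g, ConjClasses.mk g = c ∧ IsConj g (z * g)})
      (5 * Fintype.card F ^ (n / 2 - 1)) fun z hz => by
      obtain ⟨o, ho1, ho2, ho3⟩ := key z hz
      have h4 := (Nat.mul_le_mul_left 2 ho3).trans
        (two_mul_sig_le (Nat.div_le_self _ _) (Nat.div_pos ho2 (by omega)))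
      rw [mul_left_comm] at h4
      refine (Nat.le_of_mul_le_mul_left h4 card_sub_one_pos).trans (Nat.mul_le_mul_left _
        (Nat.pow_le_pow_right Fintype.card_pos (Nat.sub_le_sub_right
          (Nat.div_le_div_left ho1 (by omega)) 1)))
    rw [hcard, smul_eq_mul, ← Finset.mul_sum] at h2
    have h3 := classes_SL_le' (F := F) n hn3
    have h4 : (n.gcd (Fintype.card F - 1) - 1) * (5 * Fintype.card F ^ (n / 2 - 1)) ≤
        4 * Fintype.card F ^ (n - 2) := by
      have hq : 2 ≤ Fintype.card F := Fintype.one_lt_card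
      generalize n.gcd (Fintype.card F - 1) = d at hd1 hd2
      generalize Fintype.card F = q at hd2 hq
      rcases le_or_gt n 5 with h5 | h5
      · have h6 : (d - 1) * 5 ≤ 4 * q := by omega
        have h7 : q * q ^ (n / 2 - 1) ≤ q ^ (n - 2) := by
          rw [← pow_succ']
          exact Nat.pow_le_pow_right (by omega) (by omega)
        nlinarith [Nat.mul_le_mul_right (q ^ (n / 2 - 1)) h6]
      · have h6 : (d - 1) * 5 ≤ 4 * (q * q) := by
          have : d - 1 ≤ q := by omega
          nlinarith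
        have h7 : q * q * q ^ (n / 2 - 1) ≤ q ^ (n - 2) := by
          rw [mul_assoc, ← pow_succ', ← pow_succ']
          exact Nat.pow_le_pow_right (by omega) (by omega)
        nlinarith [Nat.mul_le_mul_right (q ^ (n / 2 - 1)) h6]
    omega

end Cfsg.Agent.H4
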