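import Cfsg.Agent.H4.LU2

/-! Regular unipotent endomorphisms. -/

set_option autoImplicit false

namespace Cfsg.Agent.H4

open Module Polynomial

universe u v

variable {F : Type u} [Field F]
variable {V : Type v} [AddCommGroup V] [Module F V] [Module.Finite F V]

theorem charpoly_eq_iff_isNilpotent (f : End F V) :
    f.charpoly = (X - C 1) ^ finrank F V ↔ IsNilpotent (f - 1) := by
  constructor
  · intro h
    refine ⟨finrank F V, ?_⟩
    have := f.aeval_self_charpoly
    rw [h] at this
    simpa using this
  · intro h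
    have h1 := LinearMap.charpoly_sub_smul (f - 1) (-1)
    rw [h.charpoly_eq_X_pow_finrank] at h1
    simpa [sub_eq_add_neg] using h1

theorem isNilpotent_inv_sub_one {R : Type*} [Ring R] {a b : R} (h : a * b = 1) (h' : b * a = 1)
    (ha : IsNilpotent (a - 1)) : IsNilpotent (b - 1) := by
  have h1 : b - 1 = -b * (a - 1) := by rw [mul_sub, neg_mul, h', mul_one]; abel
  rw [h1]
  refine Commute.isNilpotent_mul_left ?_ ha
  exact (Commute.sub_right (h'.trans h.symm) (Commute.one_right b)).neg_left

theorem Reg.inv {a b : End F V} (h : a * b = 1) (ha : Reg a) : Reg b :=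
  reg_of_injOn ha LinearMap.id (fun v hv => by
    have := LinearMap.congr_fun h v
    rwa [Module.End.mul_apply, hv] at this) fun _ _ h => h

theorem sim_of_reg_unip {W : Type*} [AddCommGroup W] [Module F W] [Module.Finite F W]
    {f : End F V} {g : End F W} (h : finrank F V = finrank F W) (hf : IsNilpotent (f - 1))
    (hg : IsNilpotent (g - 1)) (hf' : Reg f) (hg' : Reg g) : Sim f g :=
  sim_of_reg (σ := 1) squarefree_one (k := finrank F V)
    (by rw [one_mul, charpoly_eq_iff_isNilpotent]; exact hf)
    (by rw [one_mul, h, charpoly_eq_iff_isNilpotent]; exact hg) hf' hg'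

theorem isUnit_of_charpoly {f : End F V} (h : f.charpoly.coeff 0 ≠ 0) : IsUnit f := by
  rw [LinearMap.isUnit_iff_isUnit_det, det_eq_charpoly, isUnit_iff_ne_zero]
  exact mul_ne_zero (pow_ne_zero _ (neg_ne_zero.2 one_ne_zero)) h

theorem exists_GL_toLin' {n : Type*} [Fintype n] [DecidableEq n] {f : End F (n → F)}
    (h : IsUnit f) : ∃ A : GL n F, Matrix.toLin' (A : Matrix n n F) = f := by
  have h1 : IsUnit (LinearMap.toMatrix' f) := by
    rwa [Matrix.isUnit_iff_isUnit_det, LinearMap.det_toMatrix', ← LinearMap.isUnit_iff_isUnit_det]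
  exact ⟨h1.unit, by simp⟩

end Cfsg.Agent.H4
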