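import Cfsg.Agent.H4.Pole
import Cfsg.Agent.H4.RegU

/-! A criterion for cyclicity, and small dimensional consequences. -/

set_option autoImplicit false

namespace Cfsg.Agent.H4

open Module Polynomial

universe u v

variable {F : Type u} [Field F]
variable {V : Type v} [AddCommGroup V] [Module F V] [Module.Finite F V]

theorem charpoly_of_finrank_two (h : finrank F V = 2) (f : End F V) :
    f.charpoly = X ^ 2 - C (LinearMap.trace F V f) * X + C (LinearMap.det f) := by
  let b := Module.finBasisOfFinrankEq F V h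
  rw [← LinearMap.charpoly_toMatrix f b, Matrix.charpoly_fin_two, LinearMap.det_toMatrix,
    ← LinearMap.trace_eq_matrix_trace]

theorem IsCyc.nul_le {f : End F V} {v : V} (h : IsCyc f v) {φ : F[X]} (hφ : Irreducible φ) :
    nul f φ ≤ φ.natDegree := by
  rw [h.sim_mulX.nul_eq]
  by_cases h1 : φ ∣ f.charpoly
  · rw [nul_mulX_of_dvd f.charpoly_monic.ne_zero h1]
  · rw [nul_mulX_of_coprime f.charpoly_monic.ne_zero (hφ.coprime_iff_not_dvd.2 h1).symm]
    exact Nat.zero_le _

omit [Module.Finite F V] in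
theorem HasType.distinct_of_nul {f : End F V} {s : Multiset (F[X] × ℕ)} (h : HasType f s)
    (hn : ∀ φ : F[X], φ.Monic → Irreducible φ → nul f φ < 2 * φ.natDegree) :
    ∀ y s', s = y ::ₘ s' → ∀ z ∈ s', z.1 ≠ y.1 := by
  classical
  rintro y s' rfl z hz hzy
  obtain ⟨s'', rfl⟩ := Multiset.exists_cons_of_mem hz
  have hy := h.good y (Multiset.mem_cons_self _ _)
  have hz' := h.good z (Multiset.mem_cons_of_mem hz)
  have h2 := h.nul_pow hy.1 hy.2.1 1
  have h3 := hn _ hy.1 hy.2.1
  rw [pow_one] at h2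
  simp only [h2, Multiset.map_cons, Multiset.sum_cons, hzy, if_true] at h3
  have h4 := lt_of_mul_lt_mul_right h3 (Nat.zero_le _)
  have := hy.2.2
  have := hz'.2.2
  omega

omit [Module.Finite F V] in
theorem HasType.nul_lt_of_distinct {f : End F V} {s : Multiset (F[X] × ℕ)} (h : HasType f s)
    (hs : ∀ y s', s = y ::ₘ s' → ∀ z ∈ s', z.1 ≠ y.1) {φ : F[X]} (hφ : φ.Monic)
    (hφ' : Irreducible φ) : nul f φ < 2 * φ.natDegree := by
  classical
  have h2 := h.nul_pow hφ hφ' 1
  rw [pow_one] at h2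
  rw [h2]
  refine Nat.mul_lt_mul_of_pos_right ?_ hφ'.natDegree_pos
  by_cases h1 : ∃ y ∈ s, y.1 = φ
  · obtain ⟨y, hy, rfl⟩ := h1
    obtain ⟨s', rfl⟩ := Multiset.exists_cons_of_mem hy
    rw [Multiset.map_cons, Multiset.sum_cons, Multiset.sum_eq_zero]
    · simp only [if_true]; omega
    · intro x hx
      obtain ⟨z, hz, rfl⟩ := Multiset.mem_map.1 hx
      rw [if_neg (hs y s' rfl z hz)]
  · rw [Multiset.sum_eq_zero]
    · omega
    · intro x hx
      obtain ⟨z, hz, rfl⟩ := Multiset.mem_map.1 hx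
      rw [if_neg fun h' => h1 ⟨z, hz, h'⟩]

theorem exists_isCyc_of_nul {f : End F V}
    (hn : ∀ φ : F[X], φ.Monic → Irreducible φ → nul f φ < 2 * φ.natDegree) : ∃ v, IsCyc f v := by
  obtain ⟨W, v, a1, a2⟩ := exists_cyc_end (V := V) f.charpoly_monic f.charpoly_natDegree
  obtain ⟨s, hs⟩ := exists_hasType f
  obtain ⟨t, ht⟩ := exists_hasType W
  obtain rfl := hs.good.eq_of_distinct ht.good (hs.distinct_of_nul hn)
    (ht.distinct_of_nul fun φ _ hφ => by
      have := a2.nul_le hφ
      have := hφ.natDegree_pos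
      omega) (by rw [← hs.charpoly_eq, ← ht.charpoly_eq, a1])
  exact (ht.sim hs).exists_isCyc ⟨v, a2⟩

theorem HasType.exists_isCyc {f : End F V} {s : Multiset (F[X] × ℕ)} (h : HasType f s)
    (hs : ∀ y s', s = y ::ₘ s' → ∀ z ∈ s', z.1 ≠ y.1) : ∃ v, IsCyc f v :=
  exists_isCyc_of_nul fun _ hφ hφ' => h.nul_lt_of_distinct hs hφ hφ'

/-- In dimension three, an endomorphism is cyclic or a rank one perturbation of a scalar. -/
theorem exists_isCyc_or_three (hV : finrank F V = 3) (f : End F V) :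
    (∃ v, IsCyc f v) ∨ ∃ (l : F) (a : V) (φ : V →ₗ[F] F), ∀ v, f v = l • v + φ v • a := by
  by_cases hn : ∀ φ : F[X], φ.Monic → Irreducible φ → nul f φ < 2 * φ.natDegree
  · exact Or.inl (exists_isCyc_of_nul hn)
  push Not at hn
  obtain ⟨φ, h1, h2, h3⟩ := hn
  have h4 : nul f φ ≤ 3 := (Submodule.finrank_le _).trans hV.le
  have h5 := h2.natDegree_pos
  have h6 : φ.natDegree = 1 := by omega
  have h7 := LinearMap.finrank_range_add_finrank_ker (aeval f φ)
  obtain ⟨⟨a, ha⟩, h8⟩ := (finrank_le_one_iff (K := F) (V := LinearMap.range (aeval f φ))).1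
    (by unfold nul at h3; omega)
  have h9 : ∀ v, ∃ c : F, aeval f φ v = c • a := fun v => by
    obtain ⟨c, hc⟩ := h8 ⟨_, v, rfl⟩
    exact ⟨c, (congrArg Subtype.val hc).symm⟩
  have h10 : ∀ v, aeval f φ v = f v + φ.coeff 0 • v := fun v => by
    conv_lhs => rw [h1.eq_X_add_C h6]
    simp
  right
  by_cases h0 : a = 0
  · refine ⟨-φ.coeff 0, 0, 0, fun v => ?_⟩
    obtain ⟨c, hc⟩ := h9 v
    rw [h10, h0, smul_zero] at hc
    linear_combination (norm := module) hc
  · obtain ⟨l, hl⟩ := Module.Projective.exists_dual_eq_one F h0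
    refine ⟨-φ.coeff 0, a, l ∘ₗ aeval f φ, fun v => ?_⟩
    obtain ⟨c, hc⟩ := h9 v
    rw [LinearMap.comp_apply, hc, map_smul, hl, smul_eq_mul, mul_one]
    rw [h10] at hc
    linear_combination (norm := module) hc

/-- The factorisation used for `PSL(3, 3)`. -/
theorem exists_three_sq (hV : finrank F V = 3) (h2 : (2 : F) ≠ 0)
    (hF : ∀ l : F, l ≠ 0 → l ^ 2 = 1) {g : End F V}
    (hd : LinearMap.det g = 1) (hg : ∀ c : F, g ≠ c • 1) :
    ∃ W : End F V, W.charpoly = (X ^ 2 - C 0 * X + C 1) * (X - C 1) ∧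
      (g * W).charpoly = (X ^ 2 - C 0 * X + C 1) * (X - C 1) := by
  have hm : (X ^ 2 - C 0 * X + C 1 : F[X]).Monic := by monicity!
  have hn : (X ^ 2 - C 0 * X + C 1 : F[X]).natDegree = 2 := by compute_degree!
  rcases exists_isCyc_or_three hV g with ⟨v, hv⟩ | ⟨l, a, φ, h⟩
  · obtain ⟨W, a1, a2, -⟩ := pp_main (σ := X ^ 2 - C 0 * X + C 1) (r := 2) (k := 0) two_pos
      (by simpa [one_add_one_eq_two] using h2) (by simp) (pBase_two 0 one_ne_zero) hV hv
      (by rw [hd]; exact one_ne_zero) (hm.mul (monic_X_sub_C 1))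
      (by rw [hm.natDegree_mul (monic_X_sub_C 1), hn, natDegree_X_sub_C, hV]) (by simp [hd])
    exact ⟨W, by simpa using a1, a2⟩
  · have ha : a ≠ 0 := by
      rintro rfl
      exact hg l (LinearMap.ext fun v => by simpa using h v)
    obtain ⟨f, hf⟩ := Module.Projective.exists_dual_eq_one F ha
    have hV' := finrank_ker_add_one hf
    have hV2 : finrank F (LinearMap.ker f) = 2 := by omega
    have s0 : Sim (tri ((l + φ a) • (1 : End F F)) (φ ∘ₗ (LinearMap.ker f).subtype)
        (l • (1 : End F (LinearMap.ker f)))) g :=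
      sim_tri_upper hf (by rw [h, add_smul]) fun v => by simp [h]
    have d0 := s0.det_eq
    rw [det_tri, det_smul_one, LinearMap.det_smul, hV2, map_one, mul_one, hd] at d0
    have d1 : l ^ 2 = 1 := hF l (by rintro rfl; simp at d0)
    rw [d1, mul_one] at d0
    have d2 : g a = a := by rw [h, ← add_smul, d0, one_smul]
    obtain ⟨W', v, a1, a2⟩ := exists_cyc_end (V := LinearMap.ker f) hm (by omega)
    obtain ⟨W, b1, b2⟩ := exists_end_split hf a ((LinearMap.ker f).subtype ∘ₗ W')
    have s1 : Sim (tri ((1 : F) • (1 : End F F)) 0 W') W :=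
      sim_tri_upper hf (by simp [b1]) fun v => by simp [b2]
    have s2 : Sim (tri ((1 : F) • (1 : End F F)) (φ ∘ₗ (LinearMap.ker f).subtype ∘ₗ W') (l • W'))
        (g * W) :=
      sim_tri_upper hf (by simp [b1, d2]) fun v => by simp [b2, h]
    have e1 := charpoly_of_finrank_two hV2 W'
    have e2 : LinearMap.trace F _ W' = 0 := by
      have := congrArg (fun p : F[X] => p.coeff 1) (a1.symm.trans e1)
      simpa [coeff_X, coeff_one, coeff_X_pow] using this.symm
    have e3 : LinearMap.det W' = 1 := by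
      have := congrArg (fun p : F[X] => p.coeff 0) (a1.symm.trans e1)
      simpa using this.symm
    refine ⟨W, by rw [← s1.charpoly_eq, charpoly_tri, charpoly_smul_one, a1, mul_comm], ?_⟩
    rw [← s2.charpoly_eq, charpoly_tri, charpoly_smul_one, charpoly_of_finrank_two hV2, map_smul,
      e2, LinearMap.det_smul, hV2, d1, e3, mul_comm, smul_zero, mul_one]

end Cfsg.Agent.H4
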