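import Cfsg.Agent.H4.LSpec2
import Cfsg.Agent.H5.GLCard

/-! Orders of linear groups, their `r`-parts, and large-prime Sylow subgroups. -/

set_option autoImplicit false

namespace Cfsg.Agent.H4

open Module Polynomial

theorem sylow_equiv_of_injective {G H : Type*} [Group G] [Group H] [Finite G] {r : ℕ}
    [Fact r.Prime] (Ψ : H →* G) (hΨ : Function.Injective Ψ)
    (hc : Nat.card H = r ^ (Nat.card G).factorization r) (P : Sylow r G) :
    Nonempty (P ≃* H) :=
  ⟨(P.equiv (Sylow.ofCard Ψ.range (by
    rw [← Nat.card_congr (MonoidHom.ofInjective hΨ).toEquiv, hc]))).trans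
      (MonoidHom.ofInjective hΨ).symm⟩

section rep

variable {F V H ι : Type*} [Field F] [AddCommGroup V] [Module F V] [Group H] [Fintype ι]
  [DecidableEq ι]

/-- The matrix form of a representation. -/
noncomputable def repGL (b : Basis ι F V) (ρ : Representation F H V) : H →* GL ι F :=
  ((LinearMap.toMatrixAlgEquiv b).toMonoidHom.comp ρ).toHomUnits

theorem repGL_val (b : Basis ι F V) (ρ : Representation F H V) (h : H) :
    (repGL b ρ h : Matrix ι ι F) = LinearMap.toMatrix b b (ρ h) := rfl

theorem repGL_injective (b : Basis ι F V) {ρ : Representation F H V} (h : Function.Injective ρ) :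
    Function.Injective (repGL b ρ) := fun _ _ hxy =>
  h ((LinearMap.toMatrix b b).injective (congrArg Units.val hxy))

/-- The matrix form of a representation of determinant one. -/
noncomputable def repSL (b : Basis ι F V) (ρ : Representation F H V)
    (hd : ∀ h, LinearMap.det (ρ h) = 1) : H →* Matrix.SpecialLinearGroup ι F :=
  MonoidHom.mk' (fun h => ⟨LinearMap.toMatrix b b (ρ h), by rw [LinearMap.det_toMatrix, hd]⟩)
    fun x y => Subtype.ext (by
      change LinearMap.toMatrix b b (ρ (x * y)) =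
        LinearMap.toMatrix b b (ρ x) * LinearMap.toMatrix b b (ρ y)
      rw [map_mul, LinearMap.toMatrix_mul])

theorem repSL_val (b : Basis ι F V) (ρ : Representation F H V)
    (hd : ∀ h, LinearMap.det (ρ h) = 1) (h : H) :
    (repSL b ρ hd h : Matrix ι ι F) = LinearMap.toMatrix b b (ρ h) := rfl

theorem repSL_injective (b : Basis ι F V) {ρ : Representation F H V}
    (hd : ∀ h, LinearMap.det (ρ h) = 1) (h : Function.Injective ρ) :
    Function.Injective (repSL b ρ hd) := fun _ _ hxy =>
  h ((LinearMap.toMatrix b b).injective (congrArg Subtype.val hxy))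

end rep

section card

variable {F : Type*} [Field F] [Fintype F]

theorem card_SL_mul {ι : Type*} [Fintype ι] [DecidableEq ι] [Nonempty ι] :
    Nat.card (Matrix.SpecialLinearGroup ι F) * (Fintype.card F - 1) = Nat.card (GL ι F) := by
  have h1 : (Matrix.GeneralLinearGroup.det : GL ι F →* Fˣ).ker =
      (Matrix.SpecialLinearGroup.toGL : Matrix.SpecialLinearGroup ι F →* GL ι F).range := by
    ext g
    constructor
    · intro h
      exact ⟨⟨g, congrArg Units.val h⟩, Units.ext rfl⟩
    · rintro ⟨g, rfl⟩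
      exact Units.ext g.2
  rw [← Subgroup.card_mul_index (Matrix.GeneralLinearGroup.det : GL ι F →* Fˣ).ker,
    Subgroup.index_ker, MonoidHom.range_eq_top.2 Matrix.GeneralLinearGroup.det_surjective,
    Subgroup.card_top, Nat.card_units, Nat.card_eq_fintype_card (α := F), h1,
    Nat.card_congr (MonoidHom.ofInjective Matrix.SpecialLinearGroup.toGL_injective).toEquiv]

theorem factorization_card_GL {r : ℕ} (hr : r.Prime) (hq : ¬ r ∣ Fintype.card F) (n : ℕ) :
    (Nat.card (GL (Fin n) F)).factorization r =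
      ∑ i ∈ Finset.range n, (Fintype.card F ^ (i + 1) - 1).factorization r := by
  have h1 : ∀ i ∈ Finset.range n, Fintype.card F ^ (i + 1) - 1 ≠ 0 := fun i _ =>
    (Nat.sub_pos_of_lt (Nat.one_lt_pow (by omega) Fintype.one_lt_card)).ne'
  rw [H5.card_GL_prod, Nat.factorization_mul (by positivity) (Finset.prod_ne_zero_iff.2 h1),
    Nat.factorization_prod h1, Finsupp.add_apply, Finsupp.finset_sum_apply,
    Nat.factorization_eq_zero_of_not_dvd, zero_add]
  intro h
  obtain ⟨i, -, hi⟩ := (hr.prime.dvd_finset_prod_iff _).1 h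
  exact hq (hr.dvd_of_dvd_pow hi)

end card

theorem factorization_pow_mul_sub_one {q r d k : ℕ} (hq : 1 < q) (hr : r.Prime) (hd : 0 < d)
    (hrq : ¬ r ∣ q) (h : r ∣ q ^ d - 1) (hk : ¬ r ∣ k) :
    (q ^ (d * k) - 1).factorization r = (q ^ d - 1).factorization r := by
  have hk0 : 0 < k := Nat.pos_of_ne_zero (by rintro rfl; exact hk (dvd_zero _))
  have h1 : 0 < q ^ d := by positivity
  have hd0 : q ^ d - 1 ≠ 0 := (Nat.sub_pos_of_lt (Nat.one_lt_pow hd.ne' hq)).ne'
  have h2 : ¬ r ∣ geo (q ^ d) k := fun h' =>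
    hk ((((geo_modEq h1 k).of_dvd h).dvd_iff dvd_rfl).1 h')
  rw [pow_mul, ← geo_mul h1, Nat.factorization_mul (a := geo (q ^ d) k) (fun h0 => h2 (h0 ▸ dvd_zero _)) hd0,
    Finsupp.add_apply, Nat.factorization_eq_zero_of_not_dvd h2, zero_add]

theorem padicValNat_cyclotomic {q r : ℕ} (hq : 1 < q) (hr : r.Prime) (hrq : ¬ r ∣ q) :
    padicValNat r ((cyclotomic (orderOf (q : ZMod r)) ℤ).eval (q : ℤ)).natAbs =
      (q ^ orderOf (q : ZMod r) - 1).factorization r := by
  have hd := orderOf_cast_pos hr hrq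
  set d := orderOf (q : ZMod r) with hdd
  have hcast : ∀ e, (((q ^ e - 1 : ℕ)) : ℤ) = (q : ℤ) ^ e - 1 := fun e => by
    rw [Nat.cast_sub (Nat.one_le_pow _ _ (by omega))]; simp
  have h1 := congrArg (fun f => (f.eval (q : ℤ)).natAbs) (prod_cyclotomic_eq_X_pow_sub_one hd ℤ)
  simp only [eval_sub, eval_pow, eval_X, eval_one] at h1
  rw [← hcast, Int.natAbs_natCast, ← Nat.cons_self_properDivisors hd.ne', Finset.prod_cons,
    eval_mul, Int.natAbs_mul] at h1
  have hd0 : q ^ d - 1 ≠ 0 := (Nat.sub_pos_of_lt (Nat.one_lt_pow hd.ne' hq)).ne'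
  have h2 : ¬ r ∣ (eval (q : ℤ) (∏ i ∈ d.properDivisors, cyclotomic i ℤ)).natAbs := by
    rw [← Int.natCast_dvd, eval_prod]
    intro h
    obtain ⟨e, he, h3⟩ := ((Nat.prime_iff_prime_int.1 hr).dvd_finset_prod_iff _).1 h
    have h4 := h3.trans (eval_dvd (x := (q : ℤ)) (cyclotomic.dvd_X_pow_sub_one e ℤ))
    simp only [eval_sub, eval_pow, eval_X, eval_one] at h4
    rw [← hcast, Int.natCast_dvd_natCast, ← orderOf_cast_dvd_iff (by omega)] at h4
    have h5 := Nat.mem_properDivisors.1 he
    exact absurd (Nat.le_of_dvd (Nat.pos_of_mem_properDivisors he) h4) (by omega)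
  rw [← h1] at hd0 ⊢
  rw [Nat.factorization_mul (left_ne_zero_of_mul hd0) (right_ne_zero_of_mul hd0),
    Finsupp.add_apply, Nat.factorization_eq_zero_of_not_dvd h2, add_zero, Nat.factorization_def _ hr]

theorem factorization_card_GL_large {F : Type*} [Field F] [Fintype F] {r n : ℕ} (hr : r.Prime)
    (hq : ¬ r ∣ Fintype.card F) (hrn : n < r) :
    (Nat.card (GL (Fin n) F)).factorization r = n / orderOf ((Fintype.card F : ℕ) : ZMod r) *
      (Fintype.card F ^ orderOf ((Fintype.card F : ℕ) : ZMod r) - 1).factorization r := by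
  have hd := orderOf_cast_pos hr hq
  rw [factorization_card_GL hr hq, ← Nat.card_multiples, Finset.card_filter, Finset.sum_mul]
  refine Finset.sum_congr rfl fun i hi => ?_
  split_ifs with h
  · obtain ⟨k, hk⟩ := h
    rw [hk, one_mul, factorization_pow_mul_sub_one Fintype.one_lt_card hr hd hq
      ((orderOf_cast_dvd_iff Fintype.card_pos _ _).1 dvd_rfl)]
    intro h'
    have h1 := Nat.le_of_dvd (by omega) (hk ▸ h'.mul_left _ : r ∣ i + 1)
    have := Finset.mem_range.1 hi
    omega
  · rw [zero_mul, Nat.factorization_eq_zero_of_not_dvd]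
    rwa [← orderOf_cast_dvd_iff Fintype.card_pos]

/-- A cyclic group of order dividing `|E| - 1` embeds in the finite field `E`. -/
theorem exists_zmod_hom {E : Type*} [Field E] [Finite E] {m : ℕ} (hm : m ∣ Nat.card E - 1) :
    ∃ ι : Multiplicative (ZMod m) →* Eˣ, Function.Injective ι := by
  obtain ⟨g, hg⟩ := IsCyclic.exists_ofOrder_eq_natCard (α := Eˣ)
  rw [Nat.card_units] at hg
  obtain ⟨a, ha⟩ := H5.exists_orderOf_eq_of_dvd g (hg ▸ hm)
  subst ha
  rw [← Nat.card_zpowers]
  exact ⟨(Subgroup.zpowers a).subtype.comp (zmodCyclicMulEquiv inferInstance).toMonoidHom,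
    Subtype.val_injective.comp (MulEquiv.injective _)⟩

/-- A block-diagonal faithful representation of a power of a cyclic group. -/
theorem exists_torus_rep {F : Type*} [Field F] [Fintype F] {d m a n : ℕ} (hd : 0 < d)
    (hm : m ∣ Fintype.card F ^ d - 1) (hn : a * d ≤ n) :
    ∃ Ψ : (Fin a → Multiplicative (ZMod m)) →* GL (Fin n) F, Function.Injective Ψ := by
  obtain ⟨p, hp⟩ := CharP.exists F
  have := Fact.mk (CharP.char_is_prime F p)
  have : NeZero d := ⟨hd.ne'⟩
  let E := FiniteField.Extension F p d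
  obtain ⟨ι, hι⟩ := exists_zmod_hom (E := E) (m := m) (by
    rwa [FiniteField.natCard_extension, Nat.card_eq_fintype_card])
  let ρ : Representation F (Fin a → Multiplicative (ZMod m)) ((Fin a → E) × (Fin (n - a * d) → F)) :=
    { toFun := fun x => (LinearMap.mul F (Fin a → E) fun i => (ι (x i) : E)).prodMap LinearMap.id
      map_one' := by ext <;> simp
      map_mul' := fun x y => by ext <;> simp [mul_assoc] }
  have hρ : Function.Injective ρ := by
    intro x y hxy
    ext1 i
    apply hι
    have := congrFun (congrArg Prod.fst (LinearMap.congr_fun hxy (1, 0))) i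
    exact Units.ext (by simpa [ρ] using this)
  have hfin : finrank F ((Fin a → E) × (Fin (n - a * d) → F)) = n := by
    simp [Module.finrank_pi_fintype, E, FiniteField.finrank_extension, hn]
  exact ⟨repGL (Module.finBasisOfFinrankEq F _ hfin) ρ, repGL_injective _ hρ⟩

end Cfsg.Agent.H4
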