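import Cfsg.Agent.H4.Cyc2

/-! Groups generated by an automorphism and a transvection: the calculus of transvections. -/

set_option autoImplicit false

namespace Cfsg.Agent.H4

open Module Polynomial

universe u v

variable {F : Type u} [Field F]
variable {V : Type v} [AddCommGroup V] [Module F V]

/-- A submonoid of endomorphisms that is a group. -/
def Grp (S : Submonoid (End F V)) : Prop := ∀ f ∈ S, ∃ f' ∈ S, f * f' = 1 ∧ f' * f = 1

theorem Grp.mem_of_mul {S : Submonoid (End F V)} (hS : Grp S) {f f' : End F V} (hf : f ∈ S)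
    (h : f * f' = 1) : f' ∈ S := by
  obtain ⟨g, h1, -, h2⟩ := hS f hf
  rwa [← one_mul f', ← h2, mul_assoc, h, mul_one]

theorem Grp.zpow_mem {S : Submonoid (End F V)} (hS : Grp S) {g : (End F V)ˣ} (hg : g.val ∈ S)
    (k : ℤ) : (g ^ k).val ∈ S := by
  obtain ⟨m, rfl | rfl⟩ := k.eq_nat_or_neg
  · rw [zpow_natCast, Units.val_pow_eq_pow_val]; exact S.pow_mem hg m
  · rw [zpow_neg, zpow_natCast]
    refine hS.mem_of_mul (S.pow_mem hg m) ?_
    rw [← Units.val_pow_eq_pow_val, Units.mul_inv]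

/-- The transvection with centre `a` and axis `ψ` lies in `S`. -/
def Tv (S : Submonoid (End F V)) (a : V) (ψ : V →ₗ[F] F) : Prop :=
  ψ a = 0 ∧ 1 + ψ.smulRight a ∈ S

variable {S : Submonoid (End F V)} {a b : V} {ψ χ : V →ₗ[F] F}

theorem Tv.add (h : Tv S a ψ) (h' : Tv S a χ) : Tv S a (ψ + χ) := by
  refine ⟨by simp [h.1, h'.1], ?_⟩
  convert S.mul_mem h.2 h'.2 using 1
  ext v
  simp [h.1, add_smul]
  abel

theorem Tv.add_left (h : Tv S a ψ) (h' : Tv S b ψ) : Tv S (a + b) ψ := by
  refine ⟨by simp [h.1, h'.1], ?_⟩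
  convert S.mul_mem h.2 h'.2 using 1
  ext v
  simp [h'.1]
  abel

theorem Tv.neg (hS : Grp S) (h : Tv S a ψ) : Tv S a (-ψ) := by
  refine ⟨by simp [h.1], hS.mem_of_mul h.2 ?_⟩
  ext v
  simp [h.1]

theorem tv_smul (c : F) : Tv S (c • a) ψ ↔ Tv S a (c • ψ) := by
  have : ψ.smulRight (c • a) = (c • ψ).smulRight a := by
    ext v; simp [smul_smul, mul_comm]
  simp [Tv, this]

theorem Tv.neg_left (hS : Grp S) (h : Tv S a ψ) : Tv S (-a) ψ := by
  rw [← neg_one_smul F a, tv_smul]
  convert h.neg hS using 1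
  ext v; simp

theorem tv_zero (a : V) : Tv S a 0 := ⟨rfl, by simp⟩

theorem Tv.nsmul (h : Tv S a ψ) (k : ℕ) : Tv S a ((k : F) • ψ) := by
  induction k with
  | zero => simpa using tv_zero a
  | succ k ih => rw [Nat.cast_succ, add_smul, one_smul]; exact ih.add h

theorem Tv.conj (hS : Grp S) (h : Tv S a ψ) {g g' : End F V} (hg : g ∈ S) (h1 : g * g' = 1)
    (h2 : g' * g = 1) : Tv S (g a) (ψ ∘ₗ g') := by
  have h3 : ∀ v, g' (g v) = v := fun v => LinearMap.congr_fun h2 v
  have h4 : ∀ v, g (g' v) = v := fun v => LinearMap.congr_fun h1 v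
  refine ⟨by simp [h3, h.1], ?_⟩
  convert S.mul_mem (S.mul_mem hg h.2) (hS.mem_of_mul hg h1) using 1
  ext v
  simp [h4]

theorem Tv.comm (hS : Grp S) (h : Tv S a ψ) (h' : Tv S b χ) (h0 : χ a = 0) :
    Tv S a (ψ b • χ) := by
  have h1 := h.conj hS h'.2 (g' := 1 - χ.smulRight b) (by ext v; simp [h'.1])
    (by ext v; simp [h'.1])
  have h2 : (1 + χ.smulRight b : End F V) a = a := by simp [h0]
  rw [h2] at h1
  convert h.add (h1.neg hS) using 1
  ext v
  simp [mul_comm]

/-- The vectors all of whose transvections lie in `S`. -/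
def full (hS : Grp S) : Submodule F V where
  carrier := {a | ∀ ψ : V →ₗ[F] F, ψ a = 0 → Tv S a ψ}
  zero_mem' ψ _ := ⟨map_zero _, by
    convert S.one_mem using 1
    ext v; simp⟩
  smul_mem' c a ha ψ h := (tv_smul c).2 (ha _ (by simpa using h))
  add_mem' {a b} ha hb ψ h := by
    by_cases hab : b ∈ Submodule.span F {a}
    · obtain ⟨c, rfl⟩ := Submodule.mem_span_singleton.1 hab
      rw [show a + c • a = (1 + c) • a by module] at h ⊢
      exact (tv_smul _).2 (ha _ (by simpa using h))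
    · obtain ⟨f, h1, h2⟩ := exists_dual_one_zero hab
      have h3 := h2 a (Submodule.mem_span_singleton_self a)
      have h4 : (1 + f.smulRight a : End F V) b = a + b := by simp [h1, add_comm]
      have := (hb (ψ ∘ₗ (1 + f.smulRight a : End F V)) (by rw [LinearMap.comp_apply, h4, h])).conj
        hS (ha f h3).2 (g' := 1 - f.smulRight a) (by ext v; simp [h3]) (by ext v; simp [h3])
      rw [h4] at this
      convert this using 1
      ext v
      simp [h3]

theorem full_map (hS : Grp S) {g : End F V} (hg : g ∈ S) (ha : a ∈ full hS) : g a ∈ full hS := by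
  intro ψ h
  obtain ⟨g', -, h1, h2⟩ := hS g hg
  have := (ha (ψ ∘ₗ g) h).conj hS hg h1 h2
  rwa [LinearMap.comp_assoc, ← Module.End.mul_eq_comp, h1, Module.End.one_eq_id,
    LinearMap.comp_id] at this

theorem full_eq_top (hS : Grp S) {g : End F V} (hg : g ∈ S) (ha : a ∈ full hS) (hc : IsCyc g a) :
    full hS = ⊤ :=
  isCyc_iff.1 hc _ ha fun _ hw => full_map hS hg hw

section calculus

variable {g : (End F V)ˣ} {φ : V →ₗ[F] F}

/-- The values of the axis along the orbit of the centre. -/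
def mseq (g : (End F V)ˣ) (a : V) (φ : V →ₗ[F] F) (k : ℤ) : F := φ ((g ^ k).val a)

/-- The multiple `c` of the `i`-th translate of the axis occurs. -/
def Occ (S : Submonoid (End F V)) (g : (End F V)ˣ) (a : V) (φ : V →ₗ[F] F) (i : ℤ) (c : F) : Prop :=
  Tv S a (c • φ ∘ₗ (g ^ i).val)

theorem zpow_apply (g : (End F V)ˣ) (i j : ℤ) (v : V) :
    (g ^ i).val ((g ^ j).val v) = (g ^ (i + j)).val v := by
  rw [zpow_add, Units.val_mul, Module.End.mul_apply]

theorem Tv.conj_zpow (hS : Grp S) (h : Tv S a ψ) (hg : g.val ∈ S) (j : ℤ) :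
    Tv S ((g ^ j).val a) (ψ ∘ₗ (g ^ (-j)).val) :=
  h.conj hS (hS.zpow_mem hg j) (by rw [← Units.val_mul, ← zpow_add]; simp)
    (by rw [← Units.val_mul, ← zpow_add]; simp)

theorem Occ.rule (hS : Grp S) (hg : g.val ∈ S) {i i' e k : ℤ} {c c' : F} (h : Occ S g a φ i c)
    (h' : Occ S g a φ i' c') (he : mseq g a φ e = 0) (hk : k = i + i' - e) :
    Occ S g a φ e (c * c' * mseq g a φ k) := by
  have h1 := Tv.conj_zpow hS h' hg (i' - e)
  have h2 : (c' • φ ∘ₗ (g ^ i').val) ∘ₗ (g ^ (-(i' - e))).val = c' • φ ∘ₗ (g ^ e).val := by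
    ext v; simp [zpow_apply, -zpow_neg]
  rw [h2] at h1
  have := Tv.comm hS h h1 (by simpa [mseq] using Or.inr he)
  unfold Occ
  convert this using 1
  rw [smul_smul]
  congr 1
  simp only [LinearMap.smul_apply, LinearMap.comp_apply, zpow_apply, smul_eq_mul, mseq, hk,
    add_sub_assoc]
  ring

theorem occ_zero : Occ S g a φ 0 1 ↔ Tv S a φ := by
  simp [Occ, Module.End.one_eq_id]

/-- The multipliers of the set of occurring coefficients. -/
def occRing (hS : Grp S) (g : (End F V)ˣ) (a : V) (φ : V →ₗ[F] F) : Subring F where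
  carrier := {x | ∀ c, Occ S g a φ 0 c → Occ S g a φ 0 (x * c)}
  mul_mem' hx hy c hc := by rw [mul_assoc]; exact hx _ (hy _ hc)
  one_mem' c hc := by rwa [one_mul]
  add_mem' hx hy c hc := by
    unfold Occ
    rw [add_mul, add_smul]
    exact Tv.add (hx c hc) (hy c hc)
  zero_mem' c _ := by simpa [Occ] using tv_zero a
  neg_mem' hx c hc := by
    unfold Occ
    convert Tv.neg hS (hx c hc) using 1
    ext v; simp

/-- A chain of length `N` for `g - 1` seen by `φ`. -/
structure WCh (g : (End F V)ˣ) (a : V) (φ : V →ₗ[F] F) (N : ℕ) (θ : F) : Prop where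
  kill : φ ∘ₗ (g.val - 1) ^ (N + 1) = 0
  low : ∀ j < N, φ (((g.val - 1) ^ j) a) = 0
  top : φ (((g.val - 1) ^ N) a) = θ

variable {N : ℕ} {θ : F}

theorem WCh.aux (h : WCh g a φ N θ) (i : ℕ) : ∀ j, φ ((g.val ^ i) (((g.val - 1) ^ j) a)) =
    if i + j < N then 0 else if i + j = N then θ else φ ((g.val ^ i) (((g.val - 1) ^ j) a)) := by
  induction i with
  | zero =>
    intro j
    split_ifs with h1 h2
    · simpa using h.low j (by omega)
    · obtain rfl : j = N := by omega
      simpa using h.top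
    · rfl
  | succ i ih =>
    intro j
    have e : (g.val ^ (i + 1)) (((g.val - 1) ^ j) a) = (g.val ^ i) (((g.val - 1) ^ j) a) +
        (g.val ^ i) (((g.val - 1) ^ (j + 1)) a) := by
      rw [pow_succ, pow_succ', Module.End.mul_apply, Module.End.mul_apply, ← map_add]
      simp
    split_ifs with h1 h2
    · rw [e, map_add, ih j, ih (j + 1), if_pos (by omega), if_pos (by omega), add_zero]
    · rw [e, map_add, ih j, ih (j + 1), if_pos (by omega), if_neg (by omega), if_pos (by omega),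
        zero_add]
    · rfl

theorem WCh.m_low (h : WCh g a φ N θ) {k : ℤ} (h0 : 0 ≤ k) (h1 : k < N) : mseq g a φ k = 0 := by
  obtain ⟨i, rfl⟩ := Int.eq_ofNat_of_zero_le h0
  have := h.aux i 0
  rw [if_pos (by omega)] at this
  simpa [mseq] using this

theorem WCh.m_top (h : WCh g a φ N θ) : mseq g a φ N = θ := by
  have := h.aux N 0
  rw [if_neg (by omega), if_pos (by omega)] at this
  simpa [mseq] using this

theorem mseq_rel {P n : ℕ} (h : φ ∘ₗ (g.val ^ P - 1) ^ n = 0) (k : ℤ) :
    ∑ i ∈ Finset.range (n + 1), (-1) ^ (i + n) * (n.choose i : F) * mseq g a φ (k + i * P) = 0 := by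
  have h1 := LinearMap.congr_fun h ((g ^ k).val a)
  have h2 := congrArg (aeval g.val) (sub_pow (X ^ P : F[X]) 1 n)
  rw [map_pow, map_sub, map_pow, aeval_X, map_one] at h2
  rw [h2, map_sum, LinearMap.comp_apply, LinearMap.sum_apply, map_sum] at h1
  refine (Finset.sum_congr rfl fun i _ => ?_).trans h1
  rw [show (-1) ^ (i + n) * (X ^ P) ^ i * 1 ^ (n - i) * (n.choose i : F[X]) =
    ((-1) ^ (i + n) * (n.choose i : F)) • X ^ (i * P) by
      rw [smul_eq_C_mul, mul_comm i P, pow_mul]; simp; ring, map_smul, map_pow, aeval_X,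
    LinearMap.smul_apply, map_smul, smul_eq_mul, mseq, add_comm k, ← zpow_apply,
    ← Units.val_pow_eq_pow_val, ← zpow_natCast g, Nat.cast_mul]

theorem WCh.m_neg (h : WCh g a φ N θ) : mseq g a φ (-1) = (-1) ^ N * θ := by
  have := mseq_rel (a := a) (g := g) (φ := φ) (P := 1) (n := N + 1)
    (by rw [pow_one]; exact h.kill) (-1)
  rw [Finset.sum_range_succ, Finset.sum_range_succ', Finset.sum_eq_zero fun i hi => by
    rw [h.m_low (by omega) (by have := Finset.mem_range.1 hi; omega), mul_zero],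
    show (-1 : ℤ) + (N + 1 : ℕ) * (1 : ℕ) = N by omega, h.m_top] at this
  simp only [zero_add, Nat.choose_zero_right, Nat.choose_self, Nat.cast_one, mul_one, Nat.cast_zero,
    add_zero, ← two_mul, pow_mul, neg_one_sq, one_pow, one_mul] at this
  have h1 : (-1 : F) ^ N * (-1) ^ N = 1 := by rw [← mul_pow]; simp
  linear_combination -(-1) ^ N * this - mseq g a φ (-1) * h1

theorem WCh.m_jump (h : WCh g a φ N θ) (p : ℕ) [Fact p.Prime] [CharP F p] [Nontrivial V] {e n : ℕ}
    (hn : N + 1 = p ^ e * n) : mseq g a φ (-1 - (p ^ e : ℕ)) = n * mseq g a φ (-1) := by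
  have : CharP (End F V) p := charP_of_injective_algebraMap (algebraMap F _).injective p
  obtain ⟨n, rfl⟩ : ∃ m, n = m + 1 := Nat.exists_eq_succ_of_ne_zero (by rintro rfl; simp at hn)
  have hP : 0 < p ^ e := pow_pos (Fact.out : p.Prime).pos e
  have := mseq_rel (a := a) (P := p ^ e) (n := n + 1) (by
    have := sub_pow_char_pow_of_commute p e (Commute.one_right g.val)
    rw [one_pow] at this
    rw [← this, ← pow_mul, ← hn]; exact h.kill) (-1 - (p ^ e : ℕ))
  generalize p ^ e = P at *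
  rw [Finset.sum_range_succ', Finset.sum_range_succ', Finset.sum_eq_zero fun i hi => by
    have := Finset.mem_range.1 hi
    rw [h.m_low (by push_cast; nlinarith) (by push_cast; zify at hn; nlinarith), mul_zero],
    show (-1 : ℤ) - P + (0 + 1 : ℕ) * P = -1 by push_cast; ring] at this
  simp only [zero_add, Nat.choose_zero_right, Nat.choose_one_right, Nat.cast_one, mul_one,
    Nat.cast_zero, zero_mul, add_zero] at this
  have h1 : (-1 : F) ^ n * (-1) ^ n = 1 := by rw [← mul_pow]; simp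
  linear_combination -(-1) ^ n * this +
    (((n + 1 : ℕ) : F) * mseq g a φ (-1) - mseq g a φ (-1 - P)) * h1

theorem inv_mem_subring [Finite F] {A : Subring F} {x : F} (hx : x ∈ A) : x⁻¹ ∈ A := by
  have := Fintype.ofFinite F
  by_cases h0 : x = 0
  · rw [h0, inv_zero]; exact A.zero_mem
  have h1 : 1 < Fintype.card F := Fintype.one_lt_card
  have : x⁻¹ = x ^ (Fintype.card F - 2) := by
    refine (eq_inv_of_mul_eq_one_left ?_).symm
    rw [← pow_succ, show Fintype.card F - 2 + 1 = Fintype.card F - 1 by omega]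
    exact FiniteField.pow_card_sub_one_eq_one x h0
  rw [this]; exact A.pow_mem hx _

theorem mem_subring_of_pow [Finite F] (p : ℕ) [Fact p.Prime] [CharP F p] {A : Subring F} {x : F}
    {e : ℕ} (hx : x ^ p ^ e ∈ A) : x ∈ A := by
  let f : A → A := fun y => ⟨y ^ p ^ e, A.pow_mem y.2 _⟩
  have hi := (iterateFrobenius F p e).injective
  have : Function.Injective f := fun y z h => Subtype.ext (hi (congrArg Subtype.val h))
  obtain ⟨y, hy⟩ := Finite.surjective_of_injective this ⟨_, hx⟩
  rw [← hi (congrArg Subtype.val hy)]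
  exact y.2

theorem WCh.step (hS : Grp S) (hg : g.val ∈ S) (h : WCh g a φ N θ) (ht : Tv S a φ) {i : ℤ} {c : F}
    (hc : Occ S g a φ i c) (hi : 0 ≤ i) (j : ℕ) (hj : i + j < N) :
    Occ S g a φ (i + j) (c * mseq g a φ (-1) ^ j) := by
  induction j with
  | zero => simpa using hc
  | succ j ih =>
    have := (ih (by omega)).rule hS hg (occ_zero.2 ht) (h.m_low (k := i + (j + 1 : ℕ)) (by omega) hj)
      (k := -1) (by omega)
    rwa [mul_one, mul_assoc, ← pow_succ] at this

theorem WCh.wrap (hS : Grp S) (hg : g.val ∈ S) (h : WCh g a φ N θ) (ht : Tv S a φ) (hN : 2 ≤ N)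
    {c : F} (hc : Occ S g a φ (N - 1) c) : Occ S g a φ 0 (c * mseq g a φ (-1) * θ) := by
  have h1 := h.step hS hg ht (occ_zero.2 ht) le_rfl 1 (by omega)
  have := hc.rule hS hg h1 (h.m_low (k := 0) le_rfl (by omega)) (k := N) (by omega)
  simpa [h.m_top] using this

theorem WCh.pow_mem (hS : Grp S) (hg : g.val ∈ S) (h : WCh g a φ N θ) (ht : Tv S a φ) (hN : 2 ≤ N) :
    θ ^ (N + 1) ∈ occRing hS g a φ := by
  have h1 : mseq g a φ (-1) ^ N * θ ∈ occRing hS g a φ := fun c hc => by
    obtain ⟨M, rfl⟩ : ∃ M, N = M + 1 := ⟨N - 1, by omega⟩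
    have := h.wrap hS hg ht hN (c := c * mseq g a φ (-1) ^ M) (by
      simpa using h.step hS hg ht hc le_rfl M (by omega))
    convert this using 1
    ring
  rw [h.m_neg, mul_pow, mul_assoc, ← pow_succ, ← pow_mul] at h1
  rcases neg_one_pow_eq_or F (N * N) with h2 | h2 <;> rw [h2] at h1
  · simpa using h1
  · simpa using h1

theorem WCh.self_mem [Finite F] [Nontrivial V] (hS : Grp S) (hg : g.val ∈ S) (h : WCh g a φ N θ)
    (ht : Tv S a φ) (hN : 3 ≤ N) : θ ∈ occRing hS g a φ := by
  obtain ⟨p, hp⟩ := CharP.exists F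
  have := Fintype.ofFinite F
  have hpp : Fact p.Prime := ⟨(CharP.char_is_prime F p)⟩
  obtain ⟨e, n, hn, hN'⟩ := Nat.exists_eq_pow_mul_and_not_dvd N.succ_ne_zero p hpp.out.ne_one
  have h0 := h.pow_mem hS hg ht (by omega)
  by_cases hθ : θ = 0
  · rw [hθ]; exact Subring.zero_mem _
  refine mem_subring_of_pow p (e := e) ?_
  by_cases h1 : n = 1
  · rw [h1, mul_one] at hN'
    rwa [← hN']
  have hj := h.m_jump p hN'
  have h2 : p ^ e + 2 ≤ N := by
    have hn0 : n ≠ 0 := by rintro rfl; simp at hn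
    have h3 : p ^ e * 2 ≤ p ^ e * n := Nat.mul_le_mul_left _ (by omega)
    by_contra h4
    have h5 : p ^ e = 2 := by omega
    have h6 : n = 2 := by rw [h5] at hN'; omega
    have h7 : p ∣ p ^ e := dvd_pow_self p (by rintro rfl; simp at h5)
    exact hn (by rwa [h6, ← h5])
  have hn0 : (n : F) ≠ 0 := fun h => hn ((CharP.cast_eq_zero_iff F p n).1 h)
  generalize p ^ e = P at *
  obtain ⟨M, rfl⟩ : ∃ M, N = P + 2 + M := ⟨N - (P + 2), by omega⟩
  have h3 : n * mseq g a φ (-1) ^ (M + 2) * θ ∈ occRing hS g a φ := fun c hc => by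
    have a1 := hc.rule hS hg (occ_zero.2 ht) (h.m_low (k := 1 + P) (by omega) (by omega))
      (k := -1 - P) (by omega)
    have a2 := h.step hS hg ht a1 (by omega) M (by omega)
    have a3 := h.wrap hS hg ht (by omega) (by convert a2 using 1; omega)
    convert a3 using 1
    rw [hj]; ring
  have h4 : θ ^ (M + 3) ∈ occRing hS g a φ := by
    have := Subring.mul_mem _ (inv_mem_subring (natCast_mem (occRing hS g a φ) n)) h3
    rw [mul_assoc, inv_mul_cancel_left₀ hn0, h.m_neg, mul_pow, mul_assoc, ← pow_succ,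
      ← pow_mul] at this
    rcases neg_one_pow_eq_or F ((P + 2 + M) * (M + 2)) with h2 | h2 <;> rw [h2] at this
    · simpa using this
    · simpa using this
  have := Subring.mul_mem _ h0 (inv_mem_subring h4)
  rwa [show P + 2 + M + 1 = P + (M + 3) by ring, pow_add, mul_inv_cancel_right₀ (pow_ne_zero _ hθ)]
    at this

theorem occ_of_occRing (hS : Grp S) (ht : Tv S a φ) (h : occRing hS g a φ = ⊤) (c : F) :
    Occ S g a φ 0 c := by
  have : c ∈ occRing hS g a φ := h ▸ Subring.mem_top c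
  simpa using this 1 (occ_zero.2 ht)

theorem WCh.occ_all (hS : Grp S) (hg : g.val ∈ S) (h : WCh g a φ N θ) (hθ : θ ≠ 0)
    (h0 : ∀ c, Occ S g a φ 0 c) {j : ℕ} (hj : j < N) (c : F) : Occ S g a φ j c := by
  have h1 : mseq g a φ (-1) ^ j ≠ 0 := by
    rw [h.m_neg]; exact pow_ne_zero _ (mul_ne_zero (pow_ne_zero _ (neg_ne_zero.2 one_ne_zero)) hθ)
  have := h.step hS hg (occ_zero.1 (h0 1)) (h0 (c / mseq g a φ (-1) ^ j)) le_rfl j (by omega)
  rwa [zero_add, div_mul_cancel₀ _ h1] at this

end calculus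

end Cfsg.Agent.H4
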