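import Cfsg.Agent.H4.GenT
import Cfsg.Agent.H6.St2

/-! Generation of `SL` by a regular unipotent element and a transvection. -/

set_option autoImplicit false

namespace Cfsg.Agent.H4

open Module Polynomial

universe u v

variable {F : Type u} [Field F]
variable {V : Type v} [AddCommGroup V] [Module F V]

/-- A Jordan chain for `g - 1` with its corner functional; the dimension is `n + 1`. -/
structure Ch (g : (End F V)ˣ) (e : V) (φ : V →ₗ[F] F) (n : ℕ) : Prop where
  nil : (g.val - 1) ^ (n + 1) = 0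
  low : ∀ j < n, φ (((g.val - 1) ^ j) e) = 0
  top : φ (((g.val - 1) ^ n) e) = 1
  dim : finrank F V = n + 1

variable {S : Submonoid (End F V)} {g : (End F V)ˣ} {e : V} {φ : V →ₗ[F] F} {n : ℕ}

theorem Ch.wch (h : Ch g e φ n) (θ : F) : WCh g e (θ • φ) n θ :=
  ⟨by rw [h.nil]; ext; simp, fun j hj => by simp [h.low j hj], by simp [h.top]⟩

theorem Ch.val (h : Ch g e φ n) (j : ℕ) : φ (((g.val - 1) ^ j) e) = if j = n then 1 else 0 := by
  split_ifs with h1
  · rw [h1, h.top]
  · rcases Nat.lt_or_gt_of_ne h1 with h2 | h2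
    · exact h.low j h2
    · rw [pow_eq_zero_of_le h2 h.nil]; simp

theorem Ch.val₂ (h : Ch g e φ n) (i j : ℕ) :
    φ (((g.val - 1) ^ i) (((g.val - 1) ^ j) e)) = if i + j = n then 1 else 0 := by
  rw [← Module.End.mul_apply, ← pow_add, h.val]

theorem Ch.exists_basis (h : Ch g e φ n) :
    ∃ b : Basis (Fin (n + 1)) F V, ∀ i, b i = ((g.val - 1) ^ i.val) e := by
  have : LinearIndependent F fun i : Fin (n + 1) => ((g.val - 1) ^ i.val) e :=
    LinearIndependent.of_pairwise_dual_eq_zero_one _ (fun i => φ ∘ₗ (g.val - 1) ^ (n - i.val))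
      (fun i j hij => by
        have := Fin.val_ne_of_ne hij
        simp only [LinearMap.comp_apply, h.val₂]
        rw [if_neg (by omega)])
      fun i => by rw [LinearMap.comp_apply, h.val₂, if_pos (by omega)]
  exact ⟨basisOfLinearIndependentOfCardEqFinrank this (by simp [h.dim]), fun i => by simp⟩

theorem Ch.finite (h : Ch g e φ n) : Module.Finite F V := Module.finite_of_finrank_eq_succ h.dim

theorem Ch.nontrivial (h : Ch g e φ n) : Nontrivial V :=
  Module.nontrivial_of_finrank_eq_succ h.dim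

theorem Ch.ext (h : Ch g e φ n) {W : Type*} [AddCommGroup W] [Module F W] {f f' : V →ₗ[F] W}
    (hf : ∀ i ≤ n, f (((g.val - 1) ^ i) e) = f' (((g.val - 1) ^ i) e)) : f = f' := by
  obtain ⟨b, hb⟩ := h.exists_basis
  exact b.ext fun i => by rw [hb]; exact hf _ (by omega)

theorem Ch.span (h : Ch g e φ n) (ψ : V →ₗ[F] F) : ψ = ∑ j ∈ Finset.range (n + 1),
    ψ (((g.val - 1) ^ (n - j)) e) • φ ∘ₗ (g.val - 1) ^ j := by
  refine h.ext fun i hi => ?_
  rw [LinearMap.sum_apply, Finset.sum_eq_single (n - i)]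
  · simp [h.val₂, hi, Nat.sub_sub_self hi]
  · intro j _ hj
    simp only [LinearMap.smul_apply, LinearMap.comp_apply, h.val₂]
    rw [if_neg (by omega), smul_zero]
  · intro hj
    exact absurd (Finset.mem_range.2 (by omega)) hj

theorem Ch.sep (h : Ch g e φ n) {w : V} (hw : ∀ j ≤ n, φ (((g.val - 1) ^ j) w) = 0) : w = 0 := by
  refine (Module.forall_dual_apply_eq_zero_iff F w).1 fun ψ => ?_
  rw [h.span ψ, LinearMap.sum_apply]
  exact Finset.sum_eq_zero fun j hj => by simp [hw j (by simpa [Nat.lt_succ_iff] using hj)]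

theorem Ch.eq_top (h : Ch g e φ n) {U : Submodule F V} (hU : ∀ i ≤ n, ((g.val - 1) ^ i) e ∈ U) :
    U = ⊤ := by
  obtain ⟨b, hb⟩ := h.exists_basis
  rw [eq_top_iff, ← b.span_eq, Submodule.span_le]
  rintro _ ⟨i, rfl⟩
  rw [hb]
  exact hU _ (by omega)

theorem Ch.isCyc (h : Ch g e φ n) : IsCyc g.val e := isCyc_iff.2 fun U h1 h2 =>
  h.eq_top fun i hi => by
    clear hi
    induction i with
    | zero => simpa using h1
    | succ i ih =>
      rw [pow_succ', Module.End.mul_apply]
      exact U.sub_mem (h2 _ ih) ih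

theorem Ch.mem_full (hS : Grp S) (h : Ch g e φ n) (ho : ∀ j < n, ∀ c, Occ S g e φ j c) :
    e ∈ full hS := by
  let Ψ : Submodule F (V →ₗ[F] F) :=
    { carrier := {ψ | ∀ c : F, Tv S e (c • ψ)}
      add_mem' := fun h1 h2 c => by rw [smul_add]; exact (h1 c).add (h2 c)
      zero_mem' := fun c => by rw [smul_zero]; exact tv_zero e
      smul_mem' := fun c ψ h1 d => by rw [smul_smul]; exact h1 _ }
  have key : ∀ j i : ℕ, i + j < n → φ ∘ₗ (g.val ^ i * (g.val - 1) ^ j) ∈ Ψ := by
    intro j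
    induction j with
    | zero =>
      intro i hi c
      simpa [Occ] using ho i hi c
    | succ j ih =>
      intro i hi
      convert Ψ.sub_mem (ih (i + 1) (by omega)) (ih i (by omega)) using 1
      rw [← LinearMap.comp_sub, pow_succ' (g.val - 1), ← mul_assoc, mul_sub, sub_mul, mul_one,
        pow_succ]
  intro ψ hψ
  have : ψ ∈ Ψ := by
    rw [h.span ψ, Finset.sum_range_succ, Nat.sub_self, pow_zero, Module.End.one_apply, hψ,
      zero_smul, add_zero]
    exact Ψ.sum_mem fun j hj => Ψ.smul_mem _ (by simpa using key j 0 (by simpa using hj))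
  simpa using this 1

theorem occ_smul {a : V} {θ c : F} {i : ℤ} : Occ S g a (θ • φ) i c ↔ Occ S g a φ i (c * θ) := by
  simp [Occ, LinearMap.smul_comp, smul_smul]

theorem Ch.full_of_all (hS : Grp S) (h : Ch g e φ n) (hg : g.val ∈ S)
    (ht : ∀ c : F, Tv S e (c • φ)) : full hS = ⊤ := by
  refine full_eq_top hS hg (h.mem_full hS fun j hj c => ?_) h.isCyc
  have := (h.wch 1).occ_all hS hg one_ne_zero (fun c => by
    simpa [Occ, Module.End.one_eq_id] using ht c) hj c
  rwa [one_smul] at this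

/-- `θ` generates the field as a ring. -/
def Gens (θ : F) : Prop := ∀ A : Subring F, θ ∈ A → A = ⊤

theorem WCh.occ_zero_all [Finite F] [Nontrivial V] (hS : Grp S) {θ : F} (h : WCh g e φ n θ)
    (hg : g.val ∈ S) (ht : Tv S e φ) (hθ : (3 ≤ n ∧ Gens θ) ∨ (2 ≤ n ∧ Gens (θ ^ (n + 1)))) (c : F) :
    Occ S g e φ 0 c := by
  refine occ_of_occRing hS ht ?_ c
  rcases hθ with ⟨h1, h2⟩ | ⟨h1, h2⟩
  · exact h2 _ (h.self_mem hS hg ht h1)
  · exact h2 _ (h.pow_mem hS hg ht h1)

theorem Ch.corner [Finite F] (hS : Grp S) (h : Ch g e φ n) (hg : g.val ∈ S) {θ : F} (h0 : θ ≠ 0)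
    (ht : Tv S e (θ • φ)) (hθ : (3 ≤ n ∧ Gens θ) ∨ (2 ≤ n ∧ Gens (θ ^ (n + 1)))) :
    full hS = ⊤ := by
  have := h.nontrivial
  refine h.full_of_all hS hg fun c => ?_
  have := occ_smul.1 ((h.wch θ).occ_zero_all hS hg ht hθ (c / θ))
  simpa [Occ, Module.End.one_eq_id, h0] using this

theorem exists_natCast_of_prime [Fintype F] (hp : (Fintype.card F).Prime) (x : F) :
    ∃ k : ℕ, (k : F) = x := by
  obtain ⟨y, rfl⟩ := (ZMod.ringEquivOfPrime F hp rfl).surjective x
  have := Fact.mk hp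
  exact ⟨y.val, by rw [← map_natCast (ZMod.ringEquivOfPrime F hp rfl), ZMod.natCast_zmod_val]⟩

theorem gens_of_prime [Fintype F] (hp : (Fintype.card F).Prime) (x : F) : Gens x := fun A _ =>
  eq_top_iff.2 fun y _ => by
    obtain ⟨k, rfl⟩ := exists_natCast_of_prime hp y
    exact natCast_mem A k

theorem exists_prim [Finite F] : ∃ ζ : F, ζ ≠ 0 ∧ ∀ t : F, t ≠ 0 → ∃ k : ℕ, ζ ^ k = t := by
  obtain ⟨ζ, hζ⟩ := IsCyclic.exists_monoid_generator (α := Fˣ)
  refine ⟨ζ, ζ.ne_zero, fun t ht => ?_⟩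
  obtain ⟨k, hk⟩ := hζ (Units.mk0 t ht)
  exact ⟨k, by simpa using congrArg Units.val hk⟩

theorem gens_of_prim {ζ : F} (h : ∀ t : F, t ≠ 0 → ∃ k : ℕ, ζ ^ k = t) : Gens ζ := fun A hA =>
  eq_top_iff.2 fun y _ => by
    by_cases hy : y = 0
    · rw [hy]; exact A.zero_mem
    · obtain ⟨k, rfl⟩ := h y hy
      exact A.pow_mem hA k

theorem gens_of_aeval {ζ : F} (h : Function.Surjective (aeval ζ : ℤ[X] → F)) : Gens ζ :=
  fun A hA => eq_top_iff.2 fun y _ => by
    obtain ⟨P, rfl⟩ := h y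
    rw [aeval_eq_sum_range]
    exact A.sum_mem fun i _ => zsmul_mem (A.pow_mem hA i) _

/-- The shifted position over a prime field. -/
theorem Ch.shifted [Fintype F] (hp : (Fintype.card F).Prime) (h2 : Fintype.card F ≠ 2) (hS : Grp S)
    (h : Ch g e φ n) (hg : g.val ∈ S) {θ : F} (h0 : θ ≠ 0) (ht : Tv S (g.val e) (θ • φ))
    (hn : 4 ≤ n) (h63 : ¬ (n = 5 ∧ Fintype.card F = 3)) : full hS = ⊤ := by
  have := h.nontrivial
  have w := h.wch θ
  have hm : ∀ k, mseq g (g.val e) (θ • φ) k = mseq g e (θ • φ) (k + 1) := fun k => by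
    rw [mseq, mseq, ← zpow_apply, zpow_one]
  have m1 : mseq g e (θ • φ) (-1) ≠ 0 := by
    rw [w.m_neg]; exact mul_ne_zero (pow_ne_zero _ (neg_ne_zero.2 one_ne_zero)) h0
  let E : ℤ → Prop := fun i => ∃ c, c ≠ 0 ∧ Occ S g (g.val e) (θ • φ) i c
  have E0 : E 0 := ⟨1, one_ne_zero, occ_zero.2 ht⟩
  have rule : ∀ i j k : ℤ, E i → -1 ≤ j → j + 1 < n → k = i - j + 1 → mseq g e (θ • φ) k ≠ 0 →
      E j := by
    rintro i j k ⟨c, c0, hc⟩ h1 h2 rfl h3
    refine ⟨_, ?_, hc.rule hS hg (occ_zero.2 ht) (by rw [hm]; exact w.m_low (by omega) h2)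
      (k := i - j) (by omega)⟩
    rw [hm, mul_one]
    exact mul_ne_zero c0 h3
  have step : ∀ (i : ℤ) (j : ℕ), E i → -1 ≤ i → i + 2 * j + 1 < n → E (i + 2 * j) := by
    intro i j hi h1
    induction j with
    | zero => simpa using fun _ => hi
    | succ j ih =>
      intro h2
      exact rule _ _ (-1) (ih (by omega)) (by omega) h2 (by omega) m1
  have last : E (n - 2) := by
    rcases Nat.even_or_odd' n with ⟨k, rfl | rfl⟩
    · convert step 0 (k - 1) E0 (by omega) (by omega) using 1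
      omega
    · have hF := Fact.mk hp
      have : CharP F (Fintype.card F) := charP_of_card_eq_prime rfl
      generalize Fintype.card F = p at *
      obtain ⟨l, m, hm', hN⟩ := Nat.exists_eq_pow_mul_and_not_dvd (2 * k + 1).succ_ne_zero p hp.ne_one
      have hj := w.m_jump p hN
      have hodd : Odd (p ^ l) := (hp.odd_of_ne_two h2).pow
      have h5 : p ^ l + 5 ≤ 2 * k + 2 := by
        have a1 : 2 ∣ m := ((Nat.coprime_two_left.2 hodd).dvd_mul_left).1 (by rw [← hN]; omega)
        have a2 : m ≠ 0 := by rintro rfl; simp at hm'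
        have a3 : p ^ l * 2 ≤ p ^ l * m := Nat.mul_le_mul_left _ (by omega)
        by_contra a4
        obtain ⟨r, hr⟩ := hodd
        have a5 : p ^ l = 3 := by omega
        have a6 : p ∣ 3 := by rw [← a5]; exact dvd_pow_self p (by rintro rfl; simp at a5)
        exact h63 ⟨by omega, (Nat.prime_dvd_prime_iff_eq hp Nat.prime_three).1 a6⟩
      have hm0 : (m : F) ≠ 0 := fun h => hm' ((CharP.cast_eq_zero_iff F p m).1 h)
      generalize p ^ l = P at *
      obtain ⟨r, rfl⟩ := hodd
      have a1 := rule 0 (2 + (2 * r + 1 : ℕ)) (-1 - (2 * r + 1 : ℕ)) E0 (by omega) (by omega)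
        (by omega) (by rw [hj]; exact mul_ne_zero hm0 m1)
      convert step _ (k - r - 2) a1 (by omega) (by omega) using 1
      omega
  have Eneg : E (-1) := rule _ _ n last le_rfl (by omega) (by omega) (by rw [w.m_top]; exact h0)
  refine full_eq_top hS hg (h.mem_full hS fun j hj c => ?_) h.isCyc
  obtain ⟨d, d0, hd⟩ : E (j - 1) := by
    rcases Nat.even_or_odd' j with ⟨k, rfl | rfl⟩
    · convert step _ k Eneg le_rfl (by omega) using 1
      omega
    · convert step _ k E0 (by omega) (by omega) using 1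
      omega
  obtain ⟨k, hk⟩ := exists_natCast_of_prime hp (c / (d * θ))
  have := (Tv.conj_zpow hS (occ_smul.1 hd) hg (-1)).nsmul k
  unfold Occ
  convert this using 1
  · rw [zpow_neg_one, ← Module.End.mul_apply, Units.inv_mul, Module.End.one_apply]
  · ext v
    simp only [LinearMap.smul_apply, LinearMap.comp_apply, zpow_apply, hk, smul_eq_mul, neg_neg,
      sub_add_cancel]
    field_simp

section bridge

variable {ι : Type*} [Fintype ι] [DecidableEq ι]

/-- The endomorphism of a matrix of determinant one. -/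
noncomputable def slEnd : Matrix.SpecialLinearGroup ι F →* End F (ι → F) where
  toFun g := Matrix.toLin' (g : Matrix ι ι F)
  map_one' := Matrix.toLin'_one
  map_mul' _ _ := Matrix.toLin'_mul _ _

theorem slEnd_apply (g : Matrix.SpecialLinearGroup ι F) :
    slEnd g = Matrix.toLin' (g : Matrix ι ι F) := rfl

theorem slEnd_injective : Function.Injective (slEnd : Matrix.SpecialLinearGroup ι F → _) :=
  fun _ _ h => Subtype.ext (Matrix.toLin'.injective h)

theorem exists_slEnd {f : End F (ι → F)} (h : LinearMap.det f = 1) :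
    ∃ g : Matrix.SpecialLinearGroup ι F, slEnd g = f :=
  ⟨⟨LinearMap.toMatrix' f, by rwa [LinearMap.det_toMatrix']⟩, Matrix.toLin'_toMatrix' f⟩

/-- The endomorphisms of a subgroup of `SL`. -/
noncomputable def endOf (H : Subgroup (Matrix.SpecialLinearGroup ι F)) :
    Submonoid (End F (ι → F)) := H.toSubmonoid.map slEnd

theorem mem_endOf {H : Subgroup (Matrix.SpecialLinearGroup ι F)}
    {g : Matrix.SpecialLinearGroup ι F} : slEnd g ∈ endOf H ↔ g ∈ H :=
  ⟨fun ⟨_, h1, h2⟩ => slEnd_injective h2 ▸ h1, fun h => ⟨g, h, rfl⟩⟩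

theorem grp_endOf (H : Subgroup (Matrix.SpecialLinearGroup ι F)) : Grp (endOf H) := by
  rintro _ ⟨g, hg, rfl⟩
  exact ⟨slEnd g⁻¹, mem_endOf.2 (H.inv_mem hg), by rw [← map_mul]; simp, by rw [← map_mul]; simp⟩

theorem slEnd_slX {i j : ι} (hij : i ≠ j) (t : F) : slEnd (H6.slX F i j t) =
    1 + (t • LinearMap.proj j : (ι → F) →ₗ[F] F).smulRight (Pi.single i 1) := by
  rw [slEnd_apply, H6.slX_val hij, Matrix.transvection, map_add, Matrix.toLin'_one]
  congr 1
  ext k l
  simp [Pi.single_apply, Matrix.single, eq_comm]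
  split_ifs <;> simp_all

theorem eq_top_of_full {H : Subgroup (Matrix.SpecialLinearGroup ι F)}
    (h : full (grp_endOf H) = ⊤) : H = ⊤ := by
  rw [eq_top_iff, ← H6.stGG_slX_univ]
  refine H6.stGG_le fun i _ j _ hij t => mem_endOf.1 ?_
  have : Pi.single i 1 ∈ full (grp_endOf H) := h ▸ Submodule.mem_top
  rw [slEnd_slX hij]
  exact (this _ (by simp [hij.symm])).2

end bridge

end Cfsg.Agent.H4
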