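import Cfsg.Agent.H4.GenT2

/-! Pairs and triples of regular unipotent elements generating `SL`. -/

set_option autoImplicit false

namespace Cfsg.Agent.H4

open Module Polynomial

universe u v

variable {F : Type u} [Field F]
variable {V : Type v} [AddCommGroup V] [Module F V]
variable {S : Submonoid (End F V)} {g : (End F V)ˣ} {e : V} {φ : V →ₗ[F] F} {n : ℕ}

/-- Unipotent with a Jordan block of size more than `n`. -/
def RU (f : End F V) (n : ℕ) : Prop := IsNilpotent (f - 1) ∧ (f - 1) ^ n ≠ 0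

theorem Ch.ru (h : Ch g e φ n) : RU g.val n :=
  ⟨⟨_, h.nil⟩, fun h0 => by simpa [h0] using h.top⟩

theorem RU.conj {f f' k : End F V} (h : RU f n) (hk : IsUnit k) (h1 : k * f = f' * k) : RU f' n := by
  obtain ⟨k, rfl⟩ := hk
  have h2 : f' - 1 = k * (f - 1) * k⁻¹ := by
    rw [mul_sub, sub_mul, h1, mul_one, Units.mul_inv, Units.mul_inv_cancel_right]
  obtain ⟨⟨m, hm⟩, h3⟩ := h
  refine ⟨⟨m, by rw [h2, Units.conj_pow, hm, mul_zero, zero_mul]⟩, fun h0 => h3 ?_⟩
  rwa [h2, Units.conj_pow, Units.mul_left_eq_zero, Units.mul_right_eq_zero] at h0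

theorem RU.det [Module.Finite F V] {f : End F V} (h : RU f n) : LinearMap.det f = 1 := by
  rw [det_eq_charpoly, (charpoly_eq_iff_isNilpotent f).2 h.1, coeff_zero_eq_eval_zero]
  simp [← mul_pow]

theorem IsCyc.ru [Module.Finite F V] {f : End F V} {a : V} (h : IsCyc f a)
    (hV : finrank F V = n + 1) (hc : f.charpoly = (X - C 1) ^ (n + 1)) : RU f n := by
  refine ⟨(charpoly_eq_iff_isNilpotent f).1 (by rw [hc, hV]), fun h0 => ?_⟩
  have := (h.aeval_eq_zero_iff ((X - C 1) ^ n)).1 (by simpa using h0)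
  have := natDegree_le_of_dvd this (pow_ne_zero _ (X_sub_C_ne_zero 1))
  rw [hc, natDegree_pow, natDegree_pow, natDegree_X_sub_C] at this
  omega

theorem det_one_add_smulRight [Module.Finite F V] (ψ : V →ₗ[F] F) (a : V) :
    LinearMap.det (1 + ψ.smulRight a : End F V) = 1 + ψ a :=
  LinearMap.transvection.det ψ a

theorem det_one_sub_smulRight [Module.Finite F V] (ψ : V →ₗ[F] F) (a : V) :
    LinearMap.det (1 - ψ.smulRight a : End F V) = 1 - ψ a := by
  rw [sub_eq_add_neg, sub_eq_add_neg, ← LinearMap.neg_apply, ← det_one_add_smulRight]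
  congr 2
  ext; simp

theorem tv_of_fam (hS : Grp S) (hg : g.val ∈ S) {a b : V} {ψ : V →ₗ[F] F} (h0 : φ a = 0)
    (h1 : φ b = 2) (h2 : ψ a = 2) (hv : (1 - φ.smulRight b - ψ.smulRight a) * g.val ∈ S) :
    Tv S a (ψ b • φ) := by
  have h3 := S.mul_mem hv (hS.mem_of_mul hg g.mul_inv)
  rw [Units.mul_inv_cancel_right] at h3
  refine ⟨by simp [h0], ?_⟩
  convert S.mul_mem h3 h3 using 1
  ext v
  simp [h0, h1, h2]
  module

theorem sub_one_pow_succ_apply (f : End F V) (i : ℕ) (v : V) :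
    f (((f - 1) ^ i) v) = ((f - 1) ^ i) v + ((f - 1) ^ (i + 1)) v := by
  rw [pow_succ', Module.End.mul_apply]; simp

theorem Ch.exists_three (h : Ch g e φ n) (hn : 2 ≤ n) {θ : F} (hθ : θ ≠ 0) :
    ∃ k l t : End F V, LinearMap.det k = 1 ∧ LinearMap.det l = 1 ∧ k * g.val = g.val * t * k ∧
      l * t = (1 + (θ • φ).smulRight e) * l := by
  have := h.finite
  obtain ⟨m, rfl⟩ : ∃ m, n = m + 1 := ⟨n - 1, by omega⟩
  set N := g.val - 1 with hN
  have hg : g.val = 1 + N := by simp [hN]
  let z := (N ^ (m + 1)) e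
  let f := φ ∘ₗ N ^ (m + 1)
  let f' := φ ∘ₗ N ^ m
  have a1 : N z = 0 := by rw [← Module.End.mul_apply, ← pow_succ', h.nil]; rfl
  have a2 : ∀ v, f (N v) = 0 := fun v => by
    rw [LinearMap.comp_apply, ← Module.End.mul_apply, ← pow_succ, h.nil]; simp
  have a3 : ∀ v, f' (N v) = f v := fun v => by
    rw [LinearMap.comp_apply, ← Module.End.mul_apply, ← pow_succ]; rfl
  have a4 : f' z = 0 := (h.val₂ _ _).trans (if_neg (by omega))
  have a5 : f z = 0 := (h.val₂ _ _).trans (if_neg (by omega))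
  have a6 : f e = 1 := h.top
  have a7 : φ z = 1 := h.top
  have a8 : φ e = 0 := by simpa using h.low 0 (by omega)
  have a9 : φ (N e) = 0 := by simpa only [pow_one] using h.low 1 (by omega)
  let l0 : End F V := 1 + f.smulRight (z - e) + φ.smulRight (θ • e - z)
  have b1 : l0 * (1 + f.smulRight (θ⁻¹ • z - e) + φ.smulRight (e - z)) = 1 := by
    ext v
    simp [l0, a5, a6, a7, a8]
    match_scalars <;> field_simp <;> ring
  have b2 : LinearMap.det l0 ≠ 0 := left_ne_zero_of_mul_eq_one (by rw [← map_mul, b1, map_one])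
  refine ⟨1 + f'.smulRight z, l0 * (1 + (((LinearMap.det l0)⁻¹ - 1) • f').smulRight (N e)),
    1 + f.smulRight z, by rw [det_one_add_smulRight, a4, add_zero], ?_, ?_, ?_⟩
  · rw [map_mul, det_one_add_smulRight]
    simp [a3, a6, b2]
  · rw [hg]
    ext v
    simp [a1, a3, a5]
    module
  · ext v
    simp [l0, a2, a4, a5, a7, a8, a9]
    module

theorem Ch.exists_odd (h : Ch g e φ n) (hn : 3 ≤ n) (h2 : (2 : F) ≠ 0) (κ : F) :
    ∃ (b : V) (ψ : V →ₗ[F] F), φ b = 2 ∧ ψ e = 2 ∧ ψ b = κ ∧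
      RU ((1 - φ.smulRight b - ψ.smulRight e) * g.val) n := by
  have := h.finite
  obtain ⟨m, rfl⟩ : ∃ m, n = m + 1 := ⟨n - 1, by omega⟩
  let b := (2 : F) • ((g.val - 1) ^ (m + 1)) e - ((g.val - 1) ^ m) e
  have a1 : φ b = 2 := by simp [b, h.val]
  have a2 : φ (g.val b) = 1 := by simp [b, sub_one_pow_succ_apply, h.val]; norm_num
  have a3 : φ e = 0 := by simpa using h.low 0 (by omega)
  have a4 : φ (g.val e) = 0 := by simpa [a3] using h.low 1 (by omega)
  have a5 : φ (g.val (g.val e)) = 0 := by simpa [pow_two, a3, a4] using h.low 2 (by omega)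
  have c1 : IsCyc ((1 - φ.smulRight b) * g.val) e := isCyc_iff.2 fun U h1 h2 => by
    have : ∀ i ≤ m, ((g.val - 1) ^ i) e ∈ U := by
      intro i hi
      induction i with
      | zero => simpa using h1
      | succ i ih =>
        have := U.sub_mem (h2 _ (ih (by omega))) (ih (by omega))
        simpa [sub_one_pow_succ_apply, h.val, show i ≠ m + 1 by omega, show i ≠ m by omega]
          using this
    refine h.eq_top fun i hi => ?_
    rcases hi.eq_or_lt with rfl | hi
    · have h3 := this m le_rfl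
      convert U.sub_mem (U.smul_mem 2 h3) (h2 _ h3) using 1
      simp [sub_one_pow_succ_apply, h.val, b]
      module
    · exact this i (by omega)
  have hc := (charpoly_eq_iff_isNilpotent _).2 h.ru.1
  rw [h.dim] at hc
  obtain ⟨κ', c2, c3⟩ := pole_placement c1 ((monic_X_sub_C 1).pow (m + 1 + 1))
    (by rw [natDegree_pow, natDegree_X_sub_C, h.dim, mul_one]) (by rw [h.dim]; omega)
  let ψ := -κ' ∘ₗ g⁻¹.val
  have d0 : ∀ v, ψ (g.val v) = -κ' v := fun v => by
    simp only [ψ, LinearMap.neg_apply, LinearMap.comp_apply]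
    rw [← Module.End.mul_apply, Units.inv_mul, Module.End.one_apply]
  obtain ⟨v, hv⟩ : ∃ v, v = (1 - φ.smulRight b) * g.val + κ'.smulRight e := ⟨_, rfl⟩
  rw [← hv] at c2 c3
  have d1 : ∀ x, v x = g.val x - φ (g.val x) • b - ψ (g.val x) • e := fun x => by
    simp [hv, d0]
  have r := c3.ru h.dim c2
  have d2 : ψ e = 2 := by
    have h3 : v = (1 - φ.smulRight b) * (1 - ψ.smulRight e) * g.val := by
      ext x; simp [d1, a3]; abel
    have h4 := r.det
    rw [h3, map_mul, map_mul, h.ru.det, det_one_sub_smulRight, det_one_sub_smulRight, a1] at h4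
    linear_combination h4
  have d3 : ψ (g.val e) = -1 := by
    have h3 : v = g.val - (φ ∘ₗ g.val).smulRight b - (ψ ∘ₗ g.val).smulRight e := by
      ext x; simp [d1]
    have h4 := (c3.sim h.isCyc (c2.trans hc.symm)).trace_eq
    rw [h3, map_sub, map_sub, LinearMap.trace_smulRight, LinearMap.trace_smulRight,
      LinearMap.comp_apply, LinearMap.comp_apply, a2] at h4
    linear_combination -h4
  have d4 : ∀ x, φ (v x) = -φ (g.val x) := fun x => by simp [d1, a1, a3]; ring
  have d5 : v e = g.val e + e := by simp [d1, a4, d3]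
  let s := (ψ b - κ) / 2
  refine ⟨b - s • v e, ψ - s • φ ∘ₗ v - s • φ, by simp [a1, d4, a4], by simp [d2, d4, a3, a4],
    ?_, r.conj (k := 1 + (s • φ ∘ₗ v).smulRight e) ?_ ?_⟩
  · simp [d4, d5, a1, a2, a3, a4, a5, d2, d3, s]
    field_simp
    ring
  · rw [LinearMap.isUnit_iff_isUnit_det, det_one_add_smulRight]
    simp [d4, a4]
  · ext x
    simp [d4, d5, a4, a5, d3]
    simp [d1 x, a2, a4]
    module

theorem Ch.exists_shift (h : Ch g e φ n) (hn : 2 ≤ n) (h2 : (2 : F) ≠ 0) :
    ∃ (k : End F V) (b : V) (ψ : V →ₗ[F] F), LinearMap.det k = 1 ∧ φ b = 2 ∧ ψ (g.val e) = 2 ∧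
      ψ b ≠ 0 ∧ k * g.val = (1 - φ.smulRight b - ψ.smulRight (g.val e)) * g.val * k := by
  have := h.finite
  have a3 : φ e = 0 := by simpa using h.low 0 (by omega)
  have a4 : φ (g.val e) = 0 := by simpa [a3] using h.low 1 (by omega)
  have i1 : ∀ x, g⁻¹.val (g.val x) = x := fun x => by
    rw [← Module.End.mul_apply, Units.inv_mul, Module.End.one_apply]
  have i2 : ∀ x, g.val (g⁻¹.val x) = x := fun x => by
    rw [← Module.End.mul_apply, Units.mul_inv, Module.End.one_apply]
  generalize g⁻¹.val = g' at i1 i2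
  obtain ⟨ε, e1, e2⟩ : ∃ ε : F, φ (g' e) = ε ∧ ε * ε = 1 := by
    refine ⟨_, rfl, ?_⟩
    have := (h.wch 1).m_neg
    rw [mseq, zpow_neg_one, one_smul, mul_one, ← i2 e, ← Module.End.mul_apply, Units.inv_mul,
      Module.End.one_apply] at this
    rw [this, ← mul_pow]; simp
  let w := (2 * ε) • g' e
  let ψ : V →ₗ[F] F := (2 * ε) • φ ∘ₗ g' ∘ₗ g' - (4 * φ (g' (g' e))) • φ ∘ₗ g'
  have key : ∀ s : F, ∃ k : End F V, LinearMap.det k = 1 ∧ k * g.val =
      (1 - φ.smulRight (w + s • e) - (ψ - s • φ ∘ₗ g').smulRight (g.val e)) * g.val * k := by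
    intro s
    refine ⟨(1 + (s • φ).smulRight e) * ((1 - φ.smulRight w) *
      (1 - (φ ∘ₗ g').smulRight ((2 * ε) • e))), ?_, ?_⟩
    · rw [map_mul, map_mul, det_one_add_smulRight, det_one_sub_smulRight, det_one_sub_smulRight]
      simp [w, a3, e1]
      linear_combination (4 * ε * ε) * e2
    · ext x
      simp [w, ψ, a3, a4, e1, i1, i2]
      rcases mul_self_eq_one_iff.1 e2 with h | h <;> simp only [h] <;> module
  have key2 : ∃ s : F, (ψ - s • φ ∘ₗ g') (w + s • e) ≠ 0 := by
    by_contra hs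
    push Not at hs
    have h0 := hs 0
    have h1 := hs 1
    have h3 := hs (-1)
    simp only [LinearMap.sub_apply, LinearMap.smul_apply, map_add, map_smul, LinearMap.comp_apply,
      e1, smul_eq_mul] at h0 h1 h3
    exact h2 (by linear_combination ε * (2 * h0 - h1 - h3) - 2 * e2)
  obtain ⟨s, hs⟩ := key2
  obtain ⟨k, k1, k2⟩ := key s
  refine ⟨k, _, _, k1, ?_, ?_, hs, k2⟩
  · simp [w, a3, e1]
    linear_combination 2 * e2
  · simp [ψ, a3, e1, i1]
    linear_combination 2 * e2

theorem Ch.exists_two [Finite F] (h : Ch g e φ n) (hn : 3 ≤ n) (h2 : (2 : F) = 0) {D : F}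
    (hD : D ≠ 0) (hgen : (4 ≤ n ∧ Gens D) ∨ Gens (D ^ n)) :
    ∃ u : End F V, RU u n ∧ ∀ (S : Submonoid (End F V)) (hS : Grp S), g.val ∈ S → u ∈ S →
      full hS = ⊤ := by
  have := h.finite
  have := h.nontrivial
  obtain ⟨m, rfl⟩ : ∃ m, n = m + 1 := ⟨n - 1, by omega⟩
  obtain ⟨N, hN⟩ : ∃ N, N = g.val - 1 := ⟨_, rfl⟩
  have hg : ∀ x, g.val x = x + N x := fun x => by simp [hN]
  have val : ∀ j, φ ((N ^ j) e) = if j = m + 1 then 1 else 0 := hN ▸ h.val
  let f := φ ∘ₗ N ^ (m + 1)
  have a2 : ∀ v, f (N v) = 0 := fun v => by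
    rw [LinearMap.comp_apply, ← Module.End.mul_apply, ← pow_succ, hN, h.nil]; simp
  have a6 : f e = 1 := by simp [f, val]
  have a8 : φ e = 0 := by simpa using val 0
  have a9 : φ (N e) = 0 := by simpa [show m ≠ 0 by omega] using val 1
  have a10 : φ (N (N e)) = 0 := by simpa [pow_two, show m ≠ 1 by omega] using val 2
  let u : End F V := g.val - f.smulRight (N e) + (D • φ ∘ₗ g.val).smulRight e
  let k : End F V := N + (D • φ ∘ₗ g.val).smulRight e
  have b1 : k * g.val = u * k := by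
    ext x
    simp [k, u, hg, a2, a6, a8, a9]
    module
  have b2 : IsUnit k := by
    rw [LinearMap.isUnit_iff_ker_eq_bot, LinearMap.ker_eq_bot']
    intro x hx
    have h1 : φ (g.val x) = 0 := by simpa [k, a2, a6, hD] using congrArg f hx
    have h3 : N x = 0 := by simpa [k, h1] using hx
    refine h.sep fun j _ => ?_
    rcases j with _ | j
    · simpa [hg, h3] using h1
    · rw [← hN, pow_succ, Module.End.mul_apply, h3, map_zero, map_zero]
  have r := h.ru.conj b2 b1
  refine ⟨u, r, fun S hS hgS huS => ?_⟩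
  obtain ⟨U, hU⟩ : IsUnit u := by simpa using r.1.isUnit_add_one
  have b3 : ∀ j x, ((u - 1) ^ j) (k x) = k ((N ^ j) x) := by
    intro j x
    induction j with
    | zero => simp
    | succ j ih =>
      have := LinearMap.congr_fun b1 ((N ^ j) x)
      simp only [Module.End.mul_apply, hg, map_add] at this
      rw [pow_succ', pow_succ', Module.End.mul_apply, Module.End.mul_apply, ih,
        LinearMap.sub_apply, ← this]
      simp
  have b4 : k e = N e := by simp [k, hg, a8, a9]
  have b5 : ∀ j x, φ (k ((N ^ j) x)) = φ ((N ^ (j + 1)) x) := fun j x => by simp [k, a8, pow_succ']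
  have w : WCh U (N e) (D • φ) m D := by
    refine ⟨?_, fun j hj => ?_, ?_⟩
    · ext x
      obtain ⟨y, rfl⟩ := ((Module.End.isUnit_iff k).1 b2).2 x
      rw [LinearMap.comp_apply, hU, b3, LinearMap.smul_apply, b5, hN, h.nil]
      simp
    · rw [hU, ← b4, b3, LinearMap.smul_apply, b5, val, if_neg (by omega), smul_zero]
    · rw [hU, ← b4, b3, LinearMap.smul_apply, b5, val, if_pos rfl, smul_eq_mul, mul_one]
  let y : End F V := 1 - f.smulRight (N e) + (D • φ).smulRight e
  have c1 : y * g.val = u := by ext x; simp [y, u, hg, a2]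
  have c2 : y ∈ S := by
    rw [← g.mul_inv_cancel_right y, c1]
    exact S.mul_mem huS (hS.mem_of_mul hgS g.mul_inv)
  have c3 : Tv S (N e) (D • φ) := by
    refine ⟨by simp [a9], ?_⟩
    convert S.mul_mem c2 c2 using 1
    ext x
    simp [y, a2, a6, a8, a9]
    match_scalars
    · ring
    · linear_combination (D * φ x + f x) * h2
    · linear_combination (-D * φ x) * h2
  have hUS : U.val ∈ S := hU ▸ huS
  have c4 := w.occ_zero_all hS hUS c3 (hgen.imp (fun h => ⟨by omega, h.2⟩) fun h => ⟨by omega, h⟩)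
  have i2 : ∀ x, g.val (g⁻¹.val x) = x := fun x => by
    rw [← Module.End.mul_apply, Units.mul_inv, Module.End.one_apply]
  have d1 : (U ^ (-1 : ℤ)).val (N e) = g⁻¹.val (N e) := by
    have : u (g⁻¹.val (N e)) = N e := by rw [← c1, Module.End.mul_apply, i2]; simp [y, a2, a9]
    rw [← this, ← hU, zpow_neg_one, ← Module.End.mul_apply, Units.inv_mul, hU, this]
    rfl
  have d2 : φ (g⁻¹.val (N e)) ≠ 0 := fun h0 => by
    have := w.m_neg
    rw [mseq, d1, LinearMap.smul_apply, h0, smul_zero] at this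
    exact mul_ne_zero (pow_ne_zero _ (neg_ne_zero.2 one_ne_zero)) hD this.symm
  have d3 : f (g⁻¹.val (N e)) = 0 := by
    have := congrArg f (i2 (N e))
    rwa [hg, map_add, a2, a2, add_zero] at this
  have d4 := c3.conj hS (hS.mem_of_mul hgS g.mul_inv) g.inv_mul g.mul_inv
  obtain ⟨y', -, y1, y2⟩ := hS y c2
  have d5 := d4.conj hS c2 y1 y2
  have d6 : ((D • φ) ∘ₗ g.val) ∘ₗ y' = (D • φ) ∘ₗ g.val := by
    ext x
    have : x = y (y' x) := (LinearMap.congr_fun y1 x).symm
    conv_rhs => rw [this]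
    simp [y, hg, a8, a9, a10]
  have d7 : y (g⁻¹.val (N e)) + -g⁻¹.val (N e) = (D * φ (g⁻¹.val (N e))) • e := by simp [y, d3]
  rw [d6] at d5
  have d8 := d5.add_left (d4.neg_left hS)
  rw [d7, tv_smul] at d8
  have e1 : ∀ x, φ (u x) = φ (g.val x) := fun x => by simp [u, a8, a9]
  have e2 : ∀ i : ℤ, (U ^ i).val e = e := by
    have : U • e = e := by
      change U.val e = e
      simp [hU, u, hg, a6, a8, a9]
    intro i
    exact MulAction.mem_stabilizer_iff.1
      (Subgroup.zpow_mem _ (MulAction.mem_stabilizer_iff.2 this) i)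
  have e3 : ∀ (c : F) (i : ℤ), Tv S e (c • φ ∘ₗ (U ^ i).val) := by
    intro c i
    obtain ⟨σ, hσ⟩ : ∃ σ, σ = φ (g⁻¹.val (N e)) := ⟨_, rfl⟩
    rw [← hσ] at d2 d8
    have h1 := Tv.conj_zpow hS (c4 (c / (D * σ * D * σ * D))) hUS (-2)
    have h3 := (d8.comm hS h1 (by simp [e2, a8, -zpow_neg, -zpow_ofNat])).conj_zpow hS hUS (2 - i)
    have h4 : φ (g.val ((U ^ (-2 : ℤ)).val (N e))) = σ := by
      have := zpow_apply U 1 (-2) (N e)
      rw [zpow_one] at this
      rw [← e1, ← hU, hσ, ← d1, this]; rfl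
    rw [e2] at h3
    convert h3 using 1
    ext x
    simp only [LinearMap.smul_apply, LinearMap.comp_apply, zpow_apply, smul_eq_mul, h4]
    rw [show (0 : ℤ) + (- -2 + -(2 - i)) = i by ring]
    field_simp
  have e4 : ∀ i ≤ m, ∀ x, φ ((u ^ i) x) = φ ((g.val ^ i) x) := by
    intro i hi
    induction i with
    | zero => simp
    | succ i ih =>
      intro x
      have h1 := (h.wch 1).aux i 0
      have h3 := (h.wch 1).aux i 1
      rw [if_pos (by omega), one_smul] at h1 h3
      rw [← hN, pow_one] at h3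
      rw [pow_zero, Module.End.one_apply] at h1
      rw [pow_succ, pow_succ, Module.End.mul_apply, Module.End.mul_apply, ih (by omega)]
      simp [u, h1, h3]
  refine full_eq_top hS hgS (h.mem_full hS fun j hj c => ?_) h.isCyc
  unfold Occ
  convert e3 c j using 2
  ext x
  simp [hU, e4 j (by omega)]

end Cfsg.Agent.H4
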