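import Cfsg.Agent.H4.GenT3

/-! The standard Jordan block and matrix level statements on generation of `SL`. -/

set_option autoImplicit false

namespace Cfsg.Agent.H4

open Module Polynomial

universe u

variable {F : Type u} [Field F] {n : ℕ}

/-- The lower triangular Jordan block. -/
def Jm (R : Type*) [Zero R] [One R] (n : ℕ) : Matrix (Fin (n + 1)) (Fin (n + 1)) R :=
  Matrix.of fun i j => if i = j then 1 else if i.val = j.val + 1 then 1 else 0

theorem det_Jm (R : Type*) [CommRing R] (n : ℕ) : (Jm R n).det = 1 := by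
  rw [Matrix.det_of_isLowerTriangular _ fun i j hij => by
    have h : i < j := hij
    have h' : i.val < j.val := h
    rw [Jm, Matrix.of_apply, if_neg h.ne, if_neg (by omega)]]
  simp [Jm]

/-- The Jordan block as an element of `SL`. -/
def Ju (F : Type u) [Field F] (n : ℕ) : Matrix.SpecialLinearGroup (Fin (n + 1)) F :=
  ⟨Jm F n, det_Jm F n⟩

theorem Ju_sub_one_apply (v : Fin (n + 1) → F) (i : Fin (n + 1)) :
    (slEnd (Ju F n) - 1) v i = if h : 0 < i.val then v ⟨i.val - 1, by omega⟩ else 0 := by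
  change ∑ j, Jm F n i j * v j - v i = _
  rw [Finset.sum_congr rfl (g := fun j => (if i = j then v j else 0) +
    if i.val = j.val + 1 then v j else 0) fun j _ => by
      by_cases h1 : i = j
      · subst h1; simp [Jm]
      · by_cases h2 : i.val = j.val + 1 <;> simp [Jm, h1, h2], Finset.sum_add_distrib,
    Finset.sum_ite_eq, if_pos (Finset.mem_univ _), add_sub_cancel_left]
  split_ifs with h
  · rw [Finset.sum_eq_single ⟨i.val - 1, by omega⟩ (fun j _ hj => if_neg fun h' =>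
      hj (Fin.ext (by simp; omega))) (by simp), if_pos (by simp; omega)]
  · exact Finset.sum_eq_zero fun j _ => if_neg (by omega)

theorem Ju_sub_one_pow_apply (k : ℕ) (v : Fin (n + 1) → F) (i : Fin (n + 1)) :
    ((slEnd (Ju F n) - 1) ^ k) v i = if h : k ≤ i.val then v ⟨i.val - k, by omega⟩ else 0 := by
  induction k generalizing i with
  | zero => simp
  | succ k ih =>
    rw [pow_succ', Module.End.mul_apply, Ju_sub_one_apply]
    split_ifs with h1 h2 h2
    · rw [ih, dif_pos (by simp; omega)]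
      congr 2
      simp; omega
    · rw [ih, dif_neg (by simp; omega)]
    · omega
    · rfl

theorem ch_Ju : Ch (slEnd.toHomUnits (Ju F n)) (Pi.single 0 1) (LinearMap.proj (Fin.last n)) n := by
  refine ⟨?_, fun j hj => ?_, ?_, by simp⟩
  · refine LinearMap.ext fun v => funext fun i => ?_
    rw [MonoidHom.coe_toHomUnits, Ju_sub_one_pow_apply, dif_neg (by omega)]
    rfl
  · rw [MonoidHom.coe_toHomUnits, LinearMap.proj_apply, Ju_sub_one_pow_apply,
      dif_pos (by simp; omega), Pi.single_eq_of_ne (Fin.ne_of_val_ne (by simp; omega))]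
  · rw [MonoidHom.coe_toHomUnits, LinearMap.proj_apply, Ju_sub_one_pow_apply,
      dif_pos (by simp)]
    exact (congrArg _ (Fin.ext (by simp))).trans (Pi.single_eq_same 0 1)

theorem RU.matrix {ι : Type*} [Fintype ι] [DecidableEq ι] {u : Matrix.SpecialLinearGroup ι F}
    (h : RU (slEnd u) n) :
    IsNilpotent ((u : Matrix ι ι F) - 1) ∧ ((u : Matrix ι ι F) - 1) ^ n ≠ 0 := by
  have key : ∀ k, Matrix.toLin' (((u : Matrix ι ι F) - 1) ^ k) = (slEnd u - 1) ^ k := fun k => by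
    rw [Matrix.toLin'_pow, map_sub, Matrix.toLin'_one]; rfl
  obtain ⟨⟨m, hm⟩, h2⟩ := h
  exact ⟨⟨m, Matrix.toLin'.injective (by rw [key, hm, map_zero])⟩,
    fun h0 => h2 (by rw [← key, h0, map_zero])⟩

theorem ru_Ju : IsNilpotent ((Ju F n : Matrix (Fin (n + 1)) (Fin (n + 1)) F) - 1) ∧
    ((Ju F n : Matrix (Fin (n + 1)) (Fin (n + 1)) F) - 1) ^ n ≠ 0 :=
  RU.matrix (ch_Ju (F := F) (n := n)).ru

theorem RU.conj_SL {ι : Type*} [Fintype ι] [DecidableEq ι] {u : Matrix.SpecialLinearGroup ι F}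
    (h : RU (slEnd u) n) (g : Matrix.SpecialLinearGroup ι F) : RU (slEnd (g * u * g⁻¹)) n :=
  h.conj (k := slEnd g) ((Group.isUnit g).map slEnd) (by rw [← map_mul, ← map_mul]; simp)

section cert

variable {R : Type*} [CommRing R] {ι : Type*} [Fintype ι] [DecidableEq ι]

/-- The image of the matrix `A` lies in `H`. -/
def InM (H : Subgroup (Matrix.SpecialLinearGroup ι F)) (f : R →+* F) (A : Matrix ι ι R) : Prop :=
  ∃ g ∈ H, (g : Matrix ι ι F) = A.map f

variable {H : Subgroup (Matrix.SpecialLinearGroup ι F)} {f : R →+* F} {A B C : Matrix ι ι R}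

theorem InM.mul (hA : InM H f A) (hB : InM H f B) (D : Matrix ι ι R) (h : A * B = D) :
    InM H f D := by
  obtain ⟨a, a1, a2⟩ := hA
  obtain ⟨b, b1, b2⟩ := hB
  exact ⟨a * b, H.mul_mem a1 b1, by rw [Matrix.SpecialLinearGroup.coe_mul, a2, b2, ← h,
    Matrix.map_mul]⟩

theorem InM.mul₃ (hA : InM H f A) (hB : InM H f B) (hC : InM H f C) (D : Matrix ι ι R)
    (h : A * B * C = D) : InM H f D := (hA.mul hB _ rfl).mul hC D h

theorem InM.inv (hA : InM H f A) (D : Matrix ι ι R) (h : A * D = 1) : InM H f D := by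
  obtain ⟨a, a1, a2⟩ := hA
  refine ⟨a⁻¹, H.inv_mem a1, ?_⟩
  have h1 : (a : Matrix ι ι F) * D.map f = 1 := by
    rw [a2, ← Matrix.map_mul, h, Matrix.map_one _ (map_zero f) (map_one f)]
  rw [← Matrix.mul_one (a⁻¹ : Matrix.SpecialLinearGroup ι F).val, ← h1, ← Matrix.mul_assoc,
    ← Matrix.SpecialLinearGroup.coe_mul, inv_mul_cancel, Matrix.SpecialLinearGroup.coe_one,
    Matrix.one_mul]

theorem Ju_eq_map (f : R →+* F) :
    (Ju F n : Matrix (Fin (n + 1)) (Fin (n + 1)) F) = (Jm R n).map f := by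
  ext i j
  simp only [Ju, Jm, Matrix.map_apply, Matrix.of_apply]
  split_ifs <;> simp

theorem inM_Ju {H : Subgroup (Matrix.SpecialLinearGroup (Fin (n + 1)) F)} (h : Ju F n ∈ H) :
    InM H f (Jm R n) := ⟨_, h, Ju_eq_map f⟩

theorem exists_inM_conj (f : R →+* F) (G V : Matrix (Fin (n + 1)) (Fin (n + 1)) R)
    (h : G.det = 1 ∧ G * Jm R n = V * G) : ∃ g : Matrix.SpecialLinearGroup (Fin (n + 1)) F,
      ∀ H, g * Ju F n * g⁻¹ ∈ H → InM H f V := by
  obtain ⟨g, hg⟩ : ∃ g : Matrix.SpecialLinearGroup (Fin (n + 1)) F, g.val = G.map f :=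
    ⟨⟨G.map f, by rw [← RingHom.mapMatrix_apply, ← RingHom.map_det, h.1, map_one]⟩, rfl⟩
  refine ⟨g, fun H hH => ⟨_, hH, ?_⟩⟩
  rw [Matrix.SpecialLinearGroup.coe_mul, Matrix.SpecialLinearGroup.coe_mul, hg, Ju_eq_map f,
    ← Matrix.map_mul, h.2, Matrix.map_mul, ← hg, Matrix.mul_assoc,
    ← Matrix.SpecialLinearGroup.coe_mul, mul_inv_cancel, Matrix.SpecialLinearGroup.coe_one,
    Matrix.mul_one]

theorem InM.tv {H : Subgroup (Matrix.SpecialLinearGroup (Fin (n + 1)) F)} (hn : 0 < n) {θ : R}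
    (h : InM H f (1 + Matrix.single 0 (Fin.last n) θ)) :
    Tv (endOf H) (Pi.single 0 1) (f θ • LinearMap.proj (Fin.last n)) := by
  obtain ⟨g, h1, h2⟩ := h
  have h0 : (0 : Fin (n + 1)) ≠ Fin.last n := Fin.ne_of_val_ne (by simp; omega)
  refine ⟨by simp [h0.symm], ?_⟩
  rw [← slEnd_slX h0, mem_endOf]
  convert h1
  apply Subtype.ext
  rw [H6.slX_val h0, h2, Matrix.map_add _ (map_add f), Matrix.map_one _ (map_zero f) (map_one f),
    Matrix.map_single]
  rfl

end cert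

theorem eq_top_of_corner [Finite F] {H : Subgroup (Matrix.SpecialLinearGroup (Fin (n + 1)) F)}
    (h : Ju F n ∈ H) {θ : F} (h0 : θ ≠ 0)
    (ht : Tv (endOf H) (Pi.single 0 1) (θ • LinearMap.proj (Fin.last n)))
    (hθ : (3 ≤ n ∧ Gens θ) ∨ (2 ≤ n ∧ Gens (θ ^ (n + 1)))) : H = ⊤ :=
  eq_top_of_full (ch_Ju.corner (grp_endOf H) (mem_endOf.2 h) h0 ht hθ)

theorem exists_three_gens [Finite F] (hn : 3 ≤ n) :
    ∃ g h : Matrix.SpecialLinearGroup (Fin (n + 1)) F,
      Subgroup.closure {Ju F n, g * Ju F n * g⁻¹, h * Ju F n * h⁻¹} = ⊤ := by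
  obtain ⟨θ, h0, h1⟩ := exists_prim (F := F)
  obtain ⟨k, l, t, a1, a2, a3, a4⟩ := (ch_Ju (F := F) (n := n)).exists_three (by omega) h0
  have h2 : (θ • LinearMap.proj (Fin.last n) : (Fin (n + 1) → F) →ₗ[F] F) (Pi.single 0 1) = 0 := by
    simp [(Fin.ne_of_val_ne (by simp; omega) : Fin.last n ≠ 0)]
  have a5 : LinearMap.det t = 1 := by
    have := congrArg LinearMap.det a4
    rwa [map_mul, map_mul, det_one_add_smulRight, h2, a2, one_mul, add_zero, one_mul] at this
  obtain ⟨k, rfl⟩ := exists_slEnd a1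
  obtain ⟨l, rfl⟩ := exists_slEnd a2
  obtain ⟨t, rfl⟩ := exists_slEnd a5
  obtain ⟨T, hT⟩ := exists_slEnd ((det_one_add_smulRight _ _).trans (by rw [h2, add_zero]))
  rw [← hT, ← map_mul, ← map_mul, slEnd_injective.eq_iff] at a4
  rw [MonoidHom.coe_toHomUnits, ← map_mul, ← map_mul, ← map_mul, slEnd_injective.eq_iff] at a3
  refine ⟨l, l * k, eq_top_of_corner (Subgroup.subset_closure (by simp)) h0 ⟨h2, ?_⟩
    (Or.inl ⟨hn, gens_of_prim h1⟩)⟩
  rw [← hT, mem_endOf, show T = (l * Ju F n * l⁻¹)⁻¹ * (l * k * Ju F n * (l * k)⁻¹) by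
    rw [mul_assoc l k, a3, ← mul_inv_eq_iff_eq_mul.2 a4]; group]
  exact Subgroup.mul_mem _ (Subgroup.inv_mem _ (Subgroup.subset_closure (by simp)))
    (Subgroup.subset_closure (by simp))

theorem exists_two_gens_odd [Finite F] (hn : 3 ≤ n) (h2 : (2 : F) ≠ 0) :
    ∃ v : Matrix.SpecialLinearGroup (Fin (n + 1)) F, RU (slEnd v) n ∧
      Subgroup.closure {Ju F n, v} = ⊤ := by
  obtain ⟨θ, h0, h1⟩ := exists_prim (F := F)
  have c := ch_Ju (F := F) (n := n)
  obtain ⟨b, ψ, a1, a2, rfl, a4⟩ := c.exists_odd hn h2 θ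
  obtain ⟨v, hv⟩ := exists_slEnd a4.det
  refine ⟨v, hv ▸ a4, eq_top_of_corner (Subgroup.subset_closure (by simp)) h0 ?_
    (Or.inl ⟨hn, gens_of_prim h1⟩)⟩
  exact tv_of_fam (g := slEnd.toHomUnits (Ju F n)) (grp_endOf _)
    (mem_endOf.2 (Subgroup.subset_closure (by simp))) (by simpa using c.low 0 (by omega)) a1 a2
    (hv ▸ mem_endOf.2 (Subgroup.subset_closure (by simp)))

theorem exists_two_gens_even [Finite F] (hn : 3 ≤ n) (h2 : (2 : F) = 0) {D : F} (hD : D ≠ 0)
    (hgen : (4 ≤ n ∧ Gens D) ∨ Gens (D ^ n)) :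
    ∃ v : Matrix.SpecialLinearGroup (Fin (n + 1)) F, RU (slEnd v) n ∧
      Subgroup.closure {Ju F n, v} = ⊤ := by
  obtain ⟨u, a1, a2⟩ := (ch_Ju (F := F) (n := n)).exists_two hn h2 hD hgen
  obtain ⟨v, rfl⟩ := exists_slEnd a1.det
  exact ⟨v, a1, eq_top_of_full (a2 _ _ (mem_endOf.2 (Subgroup.subset_closure (by simp)))
    (mem_endOf.2 (Subgroup.subset_closure (by simp))))⟩

theorem exists_conj_gens_prime [Fintype F] (hp : (Fintype.card F).Prime) (h2 : Fintype.card F ≠ 2)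
    (hn : 4 ≤ n) (h63 : ¬ (n = 5 ∧ Fintype.card F = 3)) :
    ∃ g : Matrix.SpecialLinearGroup (Fin (n + 1)) F,
      Subgroup.closure {Ju F n, g * Ju F n * g⁻¹} = ⊤ := by
  have h3 : (2 : F) ≠ 0 := fun h => by
    have := Fact.mk hp
    have : CharP F (Fintype.card F) := charP_of_card_eq_prime rfl
    exact h2 ((Nat.prime_dvd_prime_iff_eq hp Nat.prime_two).1
      ((CharP.cast_eq_zero_iff F _ 2).1 (by exact_mod_cast h)))
  have c := ch_Ju (F := F) (n := n)
  obtain ⟨k, b, ψ, a1, a2, a3, a4, a5⟩ := c.exists_shift (by omega) h3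
  obtain ⟨k, rfl⟩ := exists_slEnd a1
  have hJ : (slEnd.toHomUnits (Ju F n)).val ∈ endOf (Subgroup.closure {Ju F n, k * Ju F n * k⁻¹}) :=
    mem_endOf.2 (Subgroup.subset_closure (by simp))
  refine ⟨k, eq_top_of_full (c.shifted hp h2 (grp_endOf _) hJ a4
    (tv_of_fam (grp_endOf _) hJ ?_ a2 a3 ?_) hn h63)⟩
  · have h0 := c.low 0 (by omega)
    have h1 := c.low 1 (by omega)
    rw [pow_zero, Module.End.one_apply] at h0
    rwa [pow_one, LinearMap.sub_apply, map_sub, Module.End.one_apply, h0, sub_zero] at h1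
  · have : slEnd (k * Ju F n * k⁻¹) ∈ endOf (Subgroup.closure {Ju F n, k * Ju F n * k⁻¹}) :=
      mem_endOf.2 (Subgroup.subset_closure (by simp))
    rwa [map_mul, map_mul, ← MonoidHom.coe_toHomUnits _ (Ju F n), a5, mul_assoc _ (slEnd k), ← map_mul,
      mul_inv_cancel, map_one, mul_one] at this

end Cfsg.Agent.H4
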