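import Cfsg.Agent.H4.GenT4
import Cfsg.Agent.H6.FieldGen

/-! Explicit words for the small cases of generation by regular unipotent elements. -/

set_option autoImplicit false

namespace Cfsg.Agent.H4

universe u

variable {F : Type u} [Field F]

/-- A computable model of the field with four elements. -/
abbrev R4 := QuadraticAlgebra (ZMod 2) 1 1

/-- A generator of the field with four elements. -/
def w4 : R4 := ⟨0, 1⟩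

theorem exists_hom_R4 [Fintype F] (h : Fintype.card F = 4) :
    ∃ f : R4 →+* F, f w4 ≠ 0 ∧ Gens (f w4) ∧ (2 : F) = 0 ∧
      ∀ c : F, c = 0 ∨ c = 1 ∨ c = f w4 ∨ c = 1 + f w4 := by
  obtain ⟨ζ, h0, h1⟩ := exists_prim (F := F)
  obtain ⟨h2, h3, -⟩ := H6.field_four h h0 h1
  have : CharP F 2 := (CharP.charP_iff_prime_eq_zero (p := 2) Nat.prime_two).2 (by exact_mod_cast h2)
  let := ZMod.algebra F 2
  let f : R4 →ₐ[ZMod 2] F := QuadraticAlgebra.lift ⟨ζ, by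
    rw [one_smul, one_smul]; linear_combination h3 - (ζ + 1) * h2⟩
  have h4 : f w4 = ζ := by simp [f, w4, QuadraticAlgebra.lift]
  refine ⟨f, ?_, ?_, h2, fun c => ?_⟩
  · exact h4 ▸ h0
  · exact h4 ▸ gens_of_prim h1
  · change _ ∨ _ ∨ c = f w4 ∨ c = 1 + f w4
    rw [h4]
    by_cases hc : c = 0
    · exact Or.inl hc
    obtain ⟨k, rfl⟩ := h1 c hc
    right
    clear hc
    induction k with
    | zero => simp
    | succ k ih =>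
      rw [pow_succ]
      rcases ih with ih | ih | ih <;> rw [ih]
      · simp
      · exact Or.inr (Or.inr (by linear_combination h3 - (ζ + 1) * h2))
      · exact Or.inl (by linear_combination h3 - h2)

theorem cert34 (f : R4 →+* F) : ∃ g : Matrix.SpecialLinearGroup (Fin 3) F, ∀ H, Ju F 2 ∈ H →
    g * Ju F 2 * g⁻¹ ∈ H → InM H f (1 + Matrix.single 0 (Fin.last 2) 1) ∧
      InM H f (1 + Matrix.single 0 (Fin.last 2) w4) := by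
  obtain ⟨g, hg⟩ := exists_inM_conj (n := 2) f !![w4 + 1, w4, 0; 1, 1, 1; w4 + 1, w4 + 1, w4]
    !![w4 + 1, 1, w4 + 1; 0, w4 + 1, 1; 1, 0, 1] (by decide +kernel)
  refine ⟨g, fun H h1 h2 => ?_⟩
  have hJ := inM_Ju (f := f) h1
  have hV := hg H h2
  have s1 := hJ.inv
    !![1, 0, 0; 1, 1, 0; 1, 1, 1] (by decide +kernel)
  have s2 := hV.inv
    !![w4 + 1, 1, w4 + 1; 1, 0, w4 + 1; w4 + 1, 1, w4] (by decide +kernel)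
  have s3 := hJ.mul hJ
    !![1, 0, 0; 0, 1, 0; 1, 0, 1] (by decide +kernel)
  have s4 := s2.mul₃ s3 hV
    !![w4 + 1, w4 + 1, w4; w4, w4, w4; 1, w4, 0] (by decide +kernel)
  have s5 := s1.mul₃ s4 hJ
    !![0, 1, w4; 0, 1, 0; w4 + 1, w4 + 1, 0] (by decide +kernel)
  have s6 := hV.mul₃ s5 s2
    !![w4, w4 + 1, w4 + 1; w4, w4 + 1, w4; 1, 1, 0] (by decide +kernel)
  have s7 := hJ.mul₃ s6 s1
    !![w4, 0, w4 + 1; 1, 1, 1; w4 + 1, 0, w4] (by decide +kernel)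
  have s8 := hV.mul₃ s7 s2
    (1 + Matrix.single 0 (Fin.last 2) 1) (by decide +kernel)
  have s9 := s2.mul₃ s3 hV
    !![w4 + 1, w4 + 1, w4; w4, w4, w4; 1, w4, 0] (by decide +kernel)
  have s10 := hJ.mul₃ s9 s1
    !![w4, 1, w4; 0, 1, 0; 1, w4, w4] (by decide +kernel)
  have s11 := s2.mul₃ s10 hV
    (1 + Matrix.single 0 (Fin.last 2) w4) (by decide +kernel)
  exact ⟨s8, s11⟩

theorem cert44 (f : R4 →+* F) : ∃ g : Matrix.SpecialLinearGroup (Fin 4) F, ∀ H, Ju F 3 ∈ H →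
    g * Ju F 3 * g⁻¹ ∈ H → InM H f (1 + Matrix.single 0 (Fin.last 3) w4) := by
  obtain ⟨g, hg⟩ := exists_inM_conj (n := 3) f !![w4 + 1, 1, 0, 1; 1, 0, w4 + 1, 0; w4, w4, w4, 0; 1, 0, 0, w4]
    !![0, 0, w4 + 1, w4 + 1; w4 + 1, 1, 0, w4; 1, 1, w4 + 1, w4 + 1; 1, 1, w4 + 1, w4] (by decide +kernel)
  refine ⟨g, fun H h1 h2 => ?_⟩
  have hJ := inM_Ju (f := f) h1
  have hV := hg H h2
  have s1 := hJ.inv
    !![1, 0, 0, 0; 1, 1, 0, 0; 1, 1, 1, 0; 1, 1, 1, 1] (by decide +kernel)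
  have s2 := hV.inv
    !![w4 + 1, w4 + 1, w4, 1; w4, w4 + 1, w4 + 1, 1; w4, 0, 1, 1; 0, 0, 1, 1] (by decide +kernel)
  have s3 := hJ.mul hV
    !![0, 0, w4 + 1, w4 + 1; w4 + 1, 1, w4 + 1, 1; w4, 0, w4 + 1, 1; 0, 0, 0, 1] (by decide +kernel)
  have s4 := s3.mul s3
    !![1, 0, w4, 0; w4, 1, w4 + 1, 1; 1, 0, w4 + 1, w4 + 1; 0, 0, 0, 1] (by decide +kernel)
  have s5 := s4.mul₃ s4 s3
    !![1, 0, 0, 0; 0, 1, 0, w4 + 1; 0, 0, 1, 0; 0, 0, 0, 1] (by decide +kernel)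
  have s6 := s1.mul₃ s5 hJ
    !![1, 0, 0, 0; 0, 1, w4 + 1, w4 + 1; 0, 0, w4, w4 + 1; 0, 0, w4 + 1, w4] (by decide +kernel)
  have s7 := hV.mul₃ s6 s2
    !![1, 0, 0, 0; w4 + 1, 1, 0, 0; 1, 0, 1, 0; 0, 0, 0, 1] (by decide +kernel)
  have s8 := hJ.mul₃ s7 s1
    !![1, 0, 0, 0; w4 + 1, 1, 0, 0; w4, 0, 1, 0; 1, 0, 0, 1] (by decide +kernel)
  have s9 := hV.mul₃ s8 s2
    !![0, 1, w4 + 1, w4; w4 + 1, w4, w4, 1; w4 + 1, w4 + 1, w4 + 1, 1; 0, 0, 0, 1] (by decide +kernel)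
  have s10 := hV.mul₃ s9 s2
    (1 + Matrix.single 0 (Fin.last 3) w4) (by decide +kernel)
  exact s10

theorem cert4 (f : ℤ →+* F) : ∃ g : Matrix.SpecialLinearGroup (Fin 4) F, ∀ H, Ju F 3 ∈ H →
    g * Ju F 3 * g⁻¹ ∈ H → InM H f (1 + Matrix.single 0 (Fin.last 3) (-6)) ∧
      InM H f !![1, 3, 3, 1; 0, 1, 3, 3; 0, 0, 1, 3; 0, 0, 0, 1] := by
  obtain ⟨g, hg⟩ := exists_inM_conj (n := 3) f !![0, -1, -2, -1; 0, 1, 1, 0; 0, -1, 0, 0; 1, 0, 0, 0]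
    !![1, -1, 1, -1; 0, 1, -1, 1; 0, 0, 1, -1; 0, 0, 0, 1] (by decide +kernel)
  refine ⟨g, fun H h1 h2 => ?_⟩
  have hJ := inM_Ju (f := f) h1
  have hV := hg H h2
  have s1 := hJ.inv
    !![1, 0, 0, 0; -1, 1, 0, 0; 1, -1, 1, 0; -1, 1, -1, 1] (by decide +kernel)
  have s2 := hV.inv
    !![1, 1, 0, 0; 0, 1, 1, 0; 0, 0, 1, 1; 0, 0, 0, 1] (by decide +kernel)
  have s3 := s1.mul₃ s2 hJ
    !![2, 1, 0, 0; -1, 1, 1, 0; 1, 0, 1, 1; -1, 0, 0, 0] (by decide +kernel)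
  have s4 := hV.mul₃ hJ hV
    !![0, 0, 0, -1; 1, -1, 1, 0; 0, 1, -1, 0; 0, 0, 1, 0] (by decide +kernel)
  have s5 := s3.mul s4
    !![1, -1, 1, -2; 1, 0, 0, 1; 0, 1, 0, -1; 0, 0, 0, 1] (by decide +kernel)
  have s6 := s5.mul s5
    !![0, 0, 1, -6; 1, -1, 1, -1; 1, 0, 0, 0; 0, 0, 0, 1] (by decide +kernel)
  have s7 := s6.mul s6
    !![1, 0, 0, -6; 0, 1, 0, -6; 0, 0, 1, -6; 0, 0, 0, 1] (by decide +kernel)
  have s8 := s7.inv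
    !![1, 0, 0, 6; 0, 1, 0, 6; 0, 0, 1, 6; 0, 0, 0, 1] (by decide +kernel)
  have s9 := s2.mul₃ s7 hV
    !![1, 0, 0, -12; 0, 1, 0, -12; 0, 0, 1, -6; 0, 0, 0, 1] (by decide +kernel)
  have s10 := s9.mul s8
    !![1, 0, 0, -6; 0, 1, 0, -6; 0, 0, 1, 0; 0, 0, 0, 1] (by decide +kernel)
  have s11 := s10.inv
    !![1, 0, 0, 6; 0, 1, 0, 6; 0, 0, 1, 0; 0, 0, 0, 1] (by decide +kernel)
  have s12 := s2.mul₃ s10 hV
    !![1, 0, 0, -12; 0, 1, 0, -6; 0, 0, 1, 0; 0, 0, 0, 1] (by decide +kernel)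
  have s13 := s12.mul s11
    (1 + Matrix.single 0 (Fin.last 3) (-6)) (by decide +kernel)
  have s14 := s2.mul₃ s2 s2
    !![1, 3, 3, 1; 0, 1, 3, 3; 0, 0, 1, 3; 0, 0, 0, 1] (by decide +kernel)
  exact ⟨s13, s14⟩

theorem cert63 (f : ZMod 3 →+* F) : ∃ g : Matrix.SpecialLinearGroup (Fin 6) F, ∀ H, Ju F 5 ∈ H →
    g * Ju F 5 * g⁻¹ ∈ H → InM H f (1 + Matrix.single 0 (Fin.last 5) 2) := by
  obtain ⟨g, hg⟩ := exists_inM_conj (n := 5) f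
    !![1, 1, 0, 1, 1, 0; 0, 1, 2, 2, 1, 2; 0, 2, 2, 1, 0, 2; 0, 1, 1, 2, 2, 0; 0, 2, 1, 0, 2, 1; 0, 1, 1, 0, 1, 1]
    !![2, 1, 2, 1, 2, 1; 1, 0, 1, 2, 1, 2; 2, 0, 0, 1, 2, 0; 1, 0, 0, 0, 1, 2; 2, 0, 0, 0, 0, 1; 1, 0, 0, 0, 0, 1] (by decide +kernel)
  refine ⟨g, fun H h1 h2 => ?_⟩
  have hJ := inM_Ju (f := f) h1
  have hV := hg H h2
  have s1 := hJ.inv
    !![1, 0, 0, 0, 0, 0; 2, 1, 0, 0, 0, 0; 1, 2, 1, 0, 0, 0; 2, 1, 2, 1, 0, 0; 1, 2, 1, 2, 1, 0; 2, 1, 2, 1, 2, 1] (by decide +kernel)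
  have s2 := hV.inv
    !![0, 0, 0, 0, 1, 2; 1, 1, 0, 0, 0, 0; 0, 1, 1, 0, 2, 2; 0, 0, 1, 1, 2, 2; 0, 0, 0, 1, 1, 0; 0, 0, 0, 0, 2, 2] (by decide +kernel)
  have s3 := s2.mul s1
    !![2, 1, 2, 1, 2, 2; 0, 1, 0, 0, 0, 0; 0, 0, 1, 0, 0, 2; 0, 0, 0, 1, 0, 2; 0, 0, 0, 0, 1, 0; 0, 0, 0, 0, 0, 2] (by decide +kernel)
  have s4 := s3.mul s3
    (1 + Matrix.single 0 (Fin.last 5) 2) (by decide +kernel)
  exact s4

end Cfsg.Agent.H4
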