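import Cfsg.Agent.H3.NK

/-! Exceptional characters for a subgroup of index two in the normalizer of a TI set. -/

set_option autoImplicit false
set_option linter.unusedSectionVars false

namespace Cfsg.Agent.H4.J3

open Cfsg Cfsg.Agent.H1 Cfsg.Agent.H3.NQ Subgroup Finset Matrix
open scoped ComplexConjugate

theorem norm3' {ι : Type*} [Fintype ι] [DecidableEq ι] {v d : ι → ℤ} {t : ι} (hd : ∀ i, 1 ≤ d i)
    (ht : d t = 1) (h1 : v t = 1) (h3 : v ⬝ᵥ v = 3) (h0 : v ⬝ᵥ d = 0) :
    ∃ a b, a ≠ t ∧ b ≠ t ∧ a ≠ b ∧ v = Pi.single t 1 + Pi.single a 1 - Pi.single b 1 := by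
  have e : v ⬝ᵥ d = 1 + ∑ i ∈ univ.erase t, v i * d i := by
    rw [dotProduct, ← add_sum_erase _ _ (mem_univ t), h1, ht, one_mul]
  obtain ⟨b, b1, b2⟩ : ∃ b, b ≠ t ∧ v b < 0 := by
    by_contra hn
    push Not at hn
    have : 0 ≤ ∑ i ∈ univ.erase t, v i * d i := sum_nonneg fun i hi =>
      mul_nonneg (hn i (ne_of_mem_erase hi)) (by linarith [hd i])
    omega
  have vb : v b = -1 := by
    have := sq_le2 v b1
    rw [h1, h3] at this
    nlinarith
  obtain ⟨a, a1, a2, a3⟩ : ∃ a, a ≠ t ∧ a ≠ b ∧ v a ≠ 0 := by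
    by_contra hn
    push Not at hn
    rw [dotProduct, ← sum_subset (subset_univ {t, b}) fun i _ hi => by
      simp only [mem_insert, mem_singleton, not_or] at hi
      simp [hn i hi.1 hi.2], sum_pair b1.symm, h1, vb] at h3
    omega
  have va : v a * v a = 1 := by
    have := sq_le3 v b1.symm a1.symm a2.symm
    rw [h1, h3, vb] at this
    have := mul_self_pos.2 a3
    omega
  have hs := fun g : ι → ℤ => sum_supp (v := v) (s := {t, b, a}) (by
    rw [sum_insert (by simp [b1.symm, a1.symm]), sum_pair a2.symm, h1, vb, va, h3]; norm_num) g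
  have va' : v a = 1 := by
    rcases mul_self_eq_one_iff.1 va with h | h
    · exact h
    have := (hs d).symm.trans h0
    rw [sum_insert (by simp [b1.symm, a1.symm]), sum_pair a2.symm, h1, vb, h, ht] at this
    have := hd a
    have := hd b
    simp at *
    omega
  refine ⟨a, b, a1, b1, a2, funext fun i => ?_⟩
  have := hs (Pi.single i 1)
  rw [sum_insert (by simp [b1.symm, a1.symm]), sum_pair a2.symm, h1, vb, va'] at this
  simp only [Pi.single_apply, mul_ite, mul_one, mul_zero, sum_ite_eq', mem_univ, if_true,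
    Int.cast_id, Pi.sub_apply, Pi.add_apply] at this ⊢
  rw [this]
  simp only [eq_comm (a := i)]
  split_ifs <;> simp

theorem sum_hom {C : Type*} [Group C] [Fintype C] (l : C →* ℂ) {w : C} (hw : l w ≠ 1) (f : C → ℂ)
    (hf : ∀ c, f (c * w) = f c) : ∑ c, f c * l c = 0 := by
  have h : ∑ c, f c * l c = (∑ c, f c * l c) * l w := by
    rw [sum_mul, ← Equiv.sum_comp (Equiv.mulRight w)]
    simp [hf, mul_assoc]
  by_contra h0
  exact hw (mul_left_cancel₀ h0 (h.symm.trans (mul_one _).symm))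

variable {C G : Type*} [Group C] [Fintype C] [Group G] [Fintype G]

/-- data for the construction -/
structure TI (φ : C →* G) (l : C →* ℂ) (s : G) (σ : C → C) : Prop where
  inj : Function.Injective φ
  cnj : ∀ c, φ (σ c) = s * φ c * s⁻¹
  out : ∀ c, φ c ≠ s
  inv : ∀ c, l (σ c) * l c = 1
  ti : ∀ c d x, l c ≠ 1 → x * φ c * x⁻¹ = φ d → ∃ a, x = φ a ∨ x = s * φ a

namespace TI

variable {φ : C →* G} {l : C →* ℂ} {s : G} {σ : C → C} (T : TI φ l s σ)
include T

theorem l_ne (c : C) : l c ≠ 0 := right_ne_zero_of_mul_eq_one (T.inv c)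

theorem l_conj {c d : C} {x : G} (h1 : l c ≠ 1) (h : x * φ c * x⁻¹ = φ d) :
    l d = l c ∨ l d = (l c)⁻¹ := by
  obtain ⟨a, rfl | rfl⟩ := T.ti c d x h1 h
  · rw [← map_inv, ← map_mul, ← map_mul] at h
    left
    rw [← T.inj h, map_mul, map_mul, mul_right_comm, ← map_mul, mul_inv_cancel, map_one, one_mul]
  · have : φ (σ (a * c * a⁻¹)) = φ d := by rw [T.cnj, ← h]; simp [mul_assoc]
    right
    have h2 := T.inv (a * c * a⁻¹)
    rw [T.inj this, map_mul, map_mul, mul_right_comm (l a), ← map_mul, mul_inv_cancel, map_one,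
      one_mul] at h2
    exact eq_inv_of_mul_eq_one_left h2

theorem val (c : C) : indHom φ (fun c => 1 - l c) (φ c) = 2 - l c - (l c)⁻¹ := by
  classical
  by_cases h1 : l c = 1
  · rw [indHom_eq_zero, h1]
    · norm_num
    intro d hd
    obtain ⟨x, hx⟩ := isConj_iff.1 hd.symm
    by_contra hn
    have h2 : l d ≠ 1 := fun e => hn (by simp [e])
    rcases T.l_conj h2 hx with e | e
    · exact h2 (e.symm.trans h1)
    · exact h2 (inv_eq_one.1 (e.symm.trans h1))
  have key : ∀ x : G, (∑ h, if φ h = x⁻¹ * φ c * x then 1 - l h else 0) =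
      (∑ a, if x = (φ a)⁻¹ then 1 - l c else 0) +
        ∑ a, if x = (s * φ a)⁻¹ then 1 - (l c)⁻¹ else 0 := fun x => by
    by_cases h : ∃ d, φ d = x⁻¹ * φ c * x
    · obtain ⟨d, hd⟩ := h
      rw [sum_eq_single d (fun e _ he => if_neg fun h' => he (T.inj (h'.trans hd.symm))) (by simp),
        if_pos hd]
      obtain ⟨a, ha | ha⟩ := T.ti c d x⁻¹ h1 (by rw [inv_inv, hd])
      · rw [sum_eq_single a (fun e _ he => if_neg fun h' => he (T.inj (by rw [← ha, h', inv_inv])))
          (by simp), if_pos (by rw [← ha, inv_inv]), sum_eq_zero fun e _ => if_neg fun h' =>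
            T.out (a * e⁻¹) (by rw [map_mul, ← ha, h']; simp), add_zero]
        have : d = a * c * a⁻¹ := T.inj (by rw [hd, map_mul, map_mul, map_inv, ← ha, inv_inv])
        rw [this, map_mul, map_mul, mul_right_comm, ← map_mul, mul_inv_cancel, map_one, one_mul]
      · rw [sum_eq_single a (s := univ) (f := fun a => if x = (s * φ a)⁻¹ then 1 - (l c)⁻¹ else 0)
          (fun e _ he => if_neg fun h' => he (T.inj (mul_left_cancel (a := s)
            (by rw [← ha, h', inv_inv])))) (by simp), if_pos (by rw [← ha, inv_inv]),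
          sum_eq_zero fun e _ => if_neg fun h' =>
            T.out (e * a⁻¹) (by rw [map_mul, map_inv, mul_inv_eq_iff_eq_mul, ← ha, h', inv_inv]),
          zero_add]
        have h2 := T.inv (a * c * a⁻¹)
        have : σ (a * c * a⁻¹) = d := T.inj (by
          rw [T.cnj, hd, ← inv_inv x, ha]; simp [mul_assoc])
        rw [this, map_mul, map_mul, mul_right_comm (l a), ← map_mul, mul_inv_cancel, map_one,
          one_mul] at h2
        rw [eq_inv_of_mul_eq_one_left h2]
    · push Not at h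
      rw [sum_eq_zero fun d _ => if_neg (h d), sum_eq_zero fun a _ => if_neg fun e =>
        h (a * c * a⁻¹) (by simp [e]), sum_eq_zero fun a _ => if_neg fun e =>
        h (σ (a * c * a⁻¹)) (by simp [e, T.cnj, mul_assoc]), add_zero]
  simp only [indHom, key, sum_add_distrib]
  rw [sum_comm, sum_comm (f := fun x a => if x = (s * φ a)⁻¹ then 1 - (l c)⁻¹ else 0)]
  simp only [sum_ite_eq', mem_univ, if_true, sum_const, card_univ, nsmul_eq_mul,
    Nat.card_eq_fintype_card]
  have : (Fintype.card C : ℂ) ≠ 0 := by exact_mod_cast Fintype.card_ne_zero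
  field_simp
  ring

theorem main {w : C} (hw : l w ^ 2 ≠ 1) : ∃ χ ψ : IrrCharacter G, χ ≠ tr1 G ∧ ψ ≠ tr1 G ∧ χ ≠ ψ ∧
    dg ψ = dg χ + 1 ∧ ∀ g, indHom φ (fun c => 1 - l c) g = 1 + χ.1 g - ψ.1 g := by
  classical
  have hw1 : l w ≠ 1 := fun e => hw (by simp [e])
  have hg : IsGeneralizedCharacter G (indHom φ fun c => 1 - l c) :=
    IsGeneralizedCharacter.indHom φ ⟨_, _, isCharacter_one, isCharacter_hom l, rfl⟩
  obtain ⟨m, hm⟩ := exists_ev hg
  have c0 : (Nat.card C : ℂ) ≠ 0 := card_ne_zero'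
  have s1 : ∑ c, l c = 0 := by simpa using sum_hom l hw1 (fun _ => 1) fun _ => rfl
  have s2 : ∑ c, l c * l c = 0 := by
    simpa using sum_hom (l * l) (w := w) (by simpa [sq] using hw) (fun _ => 1) fun _ => rfl
  have s3 : ∑ c, (l c)⁻¹ = 0 := by
    rw [← s1, ← Equiv.sum_comp (Equiv.inv C)]
    simp
  have m1 : m (tr1 G) = 1 := by
    have := ip_irr m (tr1 G)
    rw [hm, classInner_indHom _ _ (IsCharacter.isClassFunction (IsIrrCharacter.isCharacter
      (tr1 G).2))] at this
    simp only [classInner, tr1, map_one, mul_one, sum_sub_distrib, s1, sum_const, card_univ,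
      nsmul_eq_mul, sub_zero, ← Nat.card_eq_fintype_card, inv_mul_cancel₀ c0] at this
    exact_mod_cast this.symm
  have m3 : m ⬝ᵥ m = 3 := by
    have := ip_ev m m
    rw [hm, classInner_indHom _ _ (isClassFunction_indHom _ _)] at this
    simp only [classInner, T.val] at this
    rw [sum_congr rfl (g := fun c => 3 - 3 * l c - (l c)⁻¹ + l c * l c) fun c _ => by
      have e1 : conj (l c) = (l c)⁻¹ := by rw [← hom_inv_eq_conj, map_inv]
      have := T.l_ne c
      simp only [map_sub, map_ofNat, map_inv₀, e1, inv_inv]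
      field_simp
      ring] at this
    simp only [sum_add_distrib, sum_sub_distrib, ← mul_sum, s1, s2, s3, sum_const, card_univ,
      nsmul_eq_mul, ← Nat.card_eq_fintype_card] at this
    have h3 : ((m ⬝ᵥ m : ℤ) : ℂ) = 3 := by rw [← this]; field_simp; ring
    exact_mod_cast h3
  have m0 : ev m 1 = 0 := by
    have := T.val 1
    rw [map_one, map_one] at this
    rw [hm, this]; norm_num
  obtain ⟨a, b, a1, a2, a3, a4⟩ := norm3' (d := fun χ => (dg χ : ℤ)) (fun χ => by
    have := dg_pos χ; omega) (by simp [dg_tr1]) m1 m3 (dot_dg m0)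
  have e : ∀ g, indHom φ (fun c => 1 - l c) g = 1 + a.1 g - b.1 g := fun g => by
    rw [← hm, a4, ev_row]; rfl
  refine ⟨a, b, a1, a2, a3, ?_, e⟩
  have := e 1
  rw [← hm, m0, dg_eq, dg_eq] at this
  have h2 : (dg b : ℂ) = dg a + 1 := by linear_combination this
  exact_mod_cast h2

theorem pairs_eq [DecidableEq C] (ss : s * s = 1) {t : G} (ht : ∀ u, IsConj t u ↔ u * u = 1 ∧ u ≠ 1)
    (hi : ∀ u v : C, u * u = 1 → v * v = 1 → u ≠ 1 → v ≠ 1 → l (u * v) = 1)
    {w : C} (hw : l w ≠ 1) (hJ : ∀ c, σ (c * w) * (c * w) = 1 ↔ σ c * c = 1) :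
    (Nat.card C : ℂ) * pairs t (indHom φ fun c => 1 - l c) =
      Nat.card G * (univ.filter fun c => σ c * c = 1).card ^ 2 := by
  classical
  have si : s⁻¹ = s := inv_eq_of_mul_eq_one_left ss
  have ci : ∀ u, classInd ℂ t u⁻¹ = classInd ℂ t u := fun u => by
    simp only [classInd, ht, ← _root_.mul_inv_rev, inv_eq_one, ne_eq]
  have cj : ∀ c, classInd ℂ t (s * φ c) = if σ c * c = 1 then 1 else 0 := fun c => by
    have : s * φ c ≠ 1 := fun e => T.out c⁻¹ (by rw [map_inv]; exact (eq_inv_of_mul_eq_one_left e).symm)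
    have h2 : s * φ c * (s * φ c) = φ (σ c * c) := by rw [map_mul, T.cnj, si]; group
    simp only [classInd, ht, h2, this, ne_eq, not_false_iff, and_true, map_eq_one_iff φ T.inj]
  have hf : IsClassFunction G fun g => ∑ v, classInd ℂ t v * classInd ℂ t (g * v⁻¹) := fun g x => by
    beta_reduce
    rw [← Equiv.sum_comp (MulAut.conj x).toEquiv]
    refine sum_congr rfl fun v _ => ?_
    have e := isCF_classInd ℂ t
    simp only [MulEquiv.toEquiv_eq_coe, EquivLike.coe_coe, MulAut.conj_apply]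
    rw [show x * g * x⁻¹ * (x * v * x⁻¹)⁻¹ = x * (g * v⁻¹) * x⁻¹ by group, e, e]
  have h1 : pairs t (indHom φ fun c => 1 - l c) = ∑ g, indHom φ (fun c => 1 - l c) g *
      ∑ v, classInd ℂ t v * classInd ℂ t (g * v⁻¹) := by
    simp only [pairs, mul_sum]
    rw [sum_comm, sum_comm]
    conv_rhs => rw [sum_comm]
    refine sum_congr rfl fun v _ => Fintype.sum_equiv (Equiv.mulRight v) _ _ fun u => ?_
    simp only [Equiv.coe_mulRight, mul_inv_cancel_right]
    ring
  rw [h1, sum_indHom_mul _ _ hf]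
  congr 1
  have h2 : ∀ h : C, (1 - l h) * ∑ v, classInd ℂ t v * classInd ℂ t (φ h * v⁻¹) =
      ∑ b, (1 - l h) * (classInd ℂ t (s * φ b) * classInd ℂ t (s * φ (b * h⁻¹))) := fun h => by
    by_cases h1 : l h = 1
    · simp [h1]
    rw [← mul_sum]
    congr 1
    symm
    refine sum_of_injOn (fun b => s * φ b) (fun a _ b _ e => T.inj (mul_left_cancel e))
      (fun _ _ => mem_univ _) (fun v _ hv => ?_) fun b _ => ?_
    · by_contra hn
      obtain ⟨n1, n2⟩ := mul_ne_zero_iff.1 hn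
      simp only [classInd, ht, ne_eq, ite_eq_right_iff, one_ne_zero, imp_false, not_not] at n1 n2
      have vi : v⁻¹ = v := inv_eq_of_mul_eq_one_left n1.1
      obtain ⟨a, rfl | rfl⟩ := T.ti h h⁻¹ v h1 (by
        have := n2.1
        rw [vi] at this
        rw [map_inv, eq_inv_iff_mul_eq_one, vi]
        calc _ = v * (φ h * v * (φ h * v)) * v⁻¹ := by group
          _ = 1 := by rw [this, mul_one, mul_inv_cancel])
      · rw [← map_inv, ← map_mul, ← map_mul, map_eq_one_iff φ T.inj, map_eq_one_iff φ T.inj] at n2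
        rw [← map_mul, map_eq_one_iff φ T.inj, map_eq_one_iff φ T.inj] at n1
        exact h1 (by simpa using hi _ _ n2.1 n1.1 n2.2 n1.2)
      · exact hv ⟨a, mem_univ _, rfl⟩
    · rw [← ci (φ h * _)]
      simp [mul_assoc]
  simp only [h2]
  rw [sum_comm]
  have h3 : ∀ b : C, ∑ h, (1 - l h) * (classInd ℂ t (s * φ b) * classInd ℂ t (s * φ (b * h⁻¹))) =
      ∑ a, (classInd ℂ t (s * φ b) * classInd ℂ t (s * φ a) -
        classInd ℂ t (s * φ b) * l b * (classInd ℂ t (s * φ a) * l a⁻¹)) := fun b =>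
    Fintype.sum_equiv ((Equiv.inv C).trans (Equiv.mulLeft b)) _ _ fun h => by
      have := T.l_ne b
      simp only [Equiv.trans_apply, Equiv.inv_apply, Equiv.coe_mulLeft, _root_.mul_inv_rev, inv_inv,
        map_mul l, map_inv l]
      field_simp
  simp only [h3, sum_sub_distrib, ← mul_sum, ← sum_mul]
  rw [sum_hom l hw _ fun c => by simp only [cj, hJ]]
  simp [cj, sq]

theorem formula [DecidableEq C] (ss : s * s = 1) {t : G} (ht : ∀ u, IsConj t u ↔ u * u = 1 ∧ u ≠ 1)
    (hi : ∀ u v : C, u * u = 1 → v * v = 1 → u ≠ 1 → v ≠ 1 → l (u * v) = 1)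
    {w : C} (hw : l w ^ 2 ≠ 1) (hJ : ∀ c, σ (c * w) * (c * w) = 1 ↔ σ c * c = 1) (c : C)
    (hc : φ c = t) : ∃ (χ ψ : IrrCharacter G) (x y : ℤ), dg ψ = dg χ + 1 ∧
      ((1 + x - y : ℤ) : ℂ) = 2 - l c - (l c)⁻¹ ∧
      1 + x ^ 2 + y ^ 2 ≤ Nat.card (centralizer ({t} : Set G)) ∧
      (Nat.card C : ℤ) * Nat.card G * (dg χ * (dg χ + 1) + x ^ 2 * (dg χ + 1) - y ^ 2 * dg χ) =
        (Nat.card (centralizer ({t} : Set G)) * (univ.filter fun c => σ c * c = 1).card) ^ 2 *
          (dg χ * (dg χ + 1)) := by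
  classical
  obtain ⟨χ, ψ, h1, h2, h3, h4, h5⟩ := T.main hw
  have tt := ((ht t).1 (IsConj.refl t)).1
  obtain ⟨x, hx⟩ := inv_val (IsIrrCharacter.isCharacter χ.2) tt
  obtain ⟨y, hy⟩ := inv_val (IsIrrCharacter.isCharacter ψ.2) tt
  refine ⟨χ, ψ, x, y, h4, ?_, ?_, ?_⟩
  · rw [← T.val, hc, h5, hx, hy]; push_cast; rfl
  · have a1 := sum_irr_mul_conj t t
    simp only [IsConj.refl, if_true, Complex.mul_conj] at a1
    have a2 : ∑ χ : IrrCharacter G, Complex.normSq (χ.1 t) = Nat.card (centralizer ({t} : Set G)) := by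
      exact_mod_cast a1
    have a3 := sum_le_univ_sum_of_nonneg (s := {tr1 G, χ, ψ})
      fun χ : IrrCharacter G => Complex.normSq_nonneg (χ.1 t)
    rw [a2, sum_insert (by simp [h1.symm, h2.symm]), sum_pair h3, hx, hy] at a3
    simp only [tr1, map_one, Complex.normSq_intCast] at a3
    have : (1 + x ^ 2 + y ^ 2 : ℝ) ≤ Nat.card (centralizer ({t} : Set G)) := by nlinarith
    exact_mod_cast this
  · have a1 := T.pairs_eq ss ht hi (w := w) (fun e => hw (by simp [e])) hJ
    have a2 := pairs_sum t univ ![1, 1, -1] ![(tr1 G).1, χ.1, ψ.1]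
    simp only [Fin.sum_univ_three, cons_val_zero, cons_val_one, Matrix.cons_val, pairs_irr (tr1 G).2,
      pairs_irr χ.2, pairs_irr ψ.2, hx, hy, dg_eq χ, dg_eq ψ, h4] at a2
    rw [show (indHom φ fun c => 1 - l c) = fun g => 1 * (tr1 G).1 g + 1 * χ.1 g + -1 * ψ.1 g from
      funext fun g => (h5 g).trans (by simp [tr1, sub_eq_add_neg]), a2] at a1
    have a3 : ((centralizer ({t} : Set G)).index : ℂ) * Nat.card (centralizer ({t} : Set G)) =
      Nat.card G := by exact_mod_cast index_mul_card _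
    have d0 : (dg χ : ℂ) ≠ 0 := by exact_mod_cast (dg_pos χ).ne'
    have d1 : (dg χ : ℂ) + 1 ≠ 0 := by exact_mod_cast Nat.succ_ne_zero (dg χ)
    have g0 : (Nat.card G : ℂ) ≠ 0 := card_ne_zero'
    simp only [tr1] at a1
    push_cast at a1
    field_simp at a1
    have : (Nat.card C : ℂ) * Nat.card G * (dg χ * (dg χ + 1) + x ^ 2 * (dg χ + 1) - y ^ 2 * dg χ) =
        (Nat.card (centralizer ({t} : Set G)) * (univ.filter fun c => σ c * c = 1).card) ^ 2 *
          (dg χ * (dg χ + 1)) := by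
      refine mul_left_cancel₀ g0 ?_
      linear_combination (Nat.card (centralizer ({t} : Set G)) : ℂ) ^ 2 * a1 -
        Nat.card C * (dg χ * (dg χ + 1) + x ^ 2 * (dg χ + 1) - y ^ 2 * dg χ) *
          ((centralizer ({t} : Set G)).index * Nat.card (centralizer ({t} : Set G)) + Nat.card G) * a3
    exact_mod_cast this

end TI

end Cfsg.Agent.H4.J3
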