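import Cfsg.Agent.H2.MinNT

/-! Character tools for groups with a strongly self-centralizing Sylow 3-subgroup. -/

set_option autoImplicit false
set_option linter.unusedSectionVars false

namespace Cfsg.Agent.H4.K3

open Cfsg.Agent.H1 Cfsg.Agent.H2 Module
open scoped ComplexConjugate

variable {G : Type*} [Group G]

/-- the number of factorizations `g = p * p'` with `p ~ x`, `p' ~ y` -/
noncomputable def cnt (x y g : G) : ℕ := Nat.card {p : G // IsConj x p ∧ IsConj y (p⁻¹ * g)}

/-- order of the centralizer -/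
noncomputable def cc (x : G) : ℕ := Nat.card (Subgroup.centralizer ({x} : Set G))

theorem cnt_formula [Fintype G] (x y g : G) :
    (cnt x y g : ℂ) * cc x * cc y = Nat.card G *
      ∑ χ : IrrCharacter G, (χ : G → ℂ) x * (χ : G → ℂ) y * (χ : G → ℂ) g⁻¹ / (χ : G → ℂ) 1 := by
  classical
  have hc := isCF_classInd ℂ x
  have hc' := isCF_classInd ℂ y
  have h0 : conv (classInd ℂ x) (classInd ℂ y) g = cnt x y g := by
    rw [cnt, Nat.card_eq_fintype_card, Fintype.card_subtype, Finset.card_filter]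
    push_cast
    refine Finset.sum_congr rfl fun p _ => ?_
    simp only [classInd]
    by_cases h1 : IsConj x p <;> by_cases h2 : IsConj y (p⁻¹ * g) <;> simp [-isConj_iff, h1, h2]
  have hF : IsClassFunction G fun z => conv (classInd ℂ x) (classInd ℂ y) z⁻¹ := fun a b => by
    beta_reduce; rw [← hc.conv hc' a⁻¹ b]; congr 1; group
  have h1 := congrFun (IsClassFunction.eq_sum hF) g⁻¹
  rw [inv_inv, h0, Finset.sum_apply] at h1
  have hG := card_ne_zero' (G := G)
  have e1 : ((Subgroup.centralizer ({x} : Set G)).index : ℂ) * cc x = Nat.card G := by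
    exact_mod_cast (Subgroup.centralizer ({x} : Set G)).index_mul_card
  have e2 : ((Subgroup.centralizer ({y} : Set G)).index : ℂ) * cc y = Nat.card G := by
    exact_mod_cast (Subgroup.centralizer ({y} : Set G)).index_mul_card
  rw [h1, Finset.sum_mul, Finset.sum_mul, Finset.mul_sum]
  refine Finset.sum_congr rfl fun χ _ => ?_
  have h2 := om_conv χ.2 hc (classInd ℂ y)
  have hχ := IsIrrCharacter.isCharacter χ.2
  have h3 := IsIrrCharacter.one_ne_zero χ.2
  rw [om_classInd (IsCharacter.isClassFunction hχ), om_classInd (IsCharacter.isClassFunction hχ),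
    om, div_eq_iff h3] at h2
  simp only [Pi.smul_apply, smul_eq_mul, classInner, ← IsCharacter.apply_inv hχ]
  rw [← Equiv.sum_comp (Equiv.inv G)]
  simp only [Equiv.inv_apply, inv_inv]
  rw [h2, centralChar, centralChar]
  field_simp
  linear_combination ((χ : G → ℂ) x * (χ : G → ℂ) y * (χ : G → ℂ) g⁻¹) *
    (((Subgroup.centralizer ({y} : Set G)).index : ℂ) * cc y * e1 + Nat.card G * e2)

theorem exists_deg [Finite G] {χ : G → ℂ} (h : IsIrrCharacter G χ) :
    ∃ d : ℕ, χ 1 = d ∧ 0 < d ∧ d ∣ Nat.card G ∧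
      ∀ (g : G) (b : ℤ), χ g = b → (d : ℤ) ∣ (Subgroup.centralizer {g}).index * b := by
  have h0 := IsIrrCharacter.one_ne_zero h
  obtain ⟨n, ρ, hρ, rfl⟩ := h
  refine ⟨finrank ℂ (Fin n → ℂ), ρ.char_one, ?_, finrank_dvd_card ρ hρ, fun g b hb =>
    finrank_dvd_index ρ hρ g (a := 1) (by simpa using hb)⟩
  rw [ρ.char_one] at h0
  exact Nat.pos_of_ne_zero (by exact_mod_cast h0)

theorem exists_fix [Finite G] {χ : G → ℂ} (h : IsCharacter G χ) (A B : Subgroup G) (hAB : A ≤ B)
    [Fintype A] [Fintype B] :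
    ∃ n m : ℕ, m ≤ n ∧ ∑ g : A, χ g = Nat.card A * n ∧ ∑ g : B, χ g = Nat.card B * m := by
  obtain ⟨k, ρ, rfl⟩ := h
  exact ⟨_, _, Submodule.finrank_mono (Fix_anti (R := ρ) hAB), sum_character ρ A, sum_character ρ B⟩

theorem sum_zpowers {M : Type*} [AddCommMonoid M] [Finite G] (g : G) [Fintype (Subgroup.zpowers g)]
    (f : G → M) : ∑ x : Subgroup.zpowers g, f x = ∑ i ∈ Finset.range (orderOf g), f (g ^ i) := by
  rw [← Equiv.sum_comp (finEquivZPowers (isOfFinOrder_of_finite g)), Finset.sum_range]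
  simp [finEquivZPowers_apply]

theorem exists_int_two [Finite G] {χ : G → ℂ} (h : IsCharacter G χ) {z : G} (hz : orderOf z = 2) :
    ∃ m : ℤ, χ z = m := by
  have := Fintype.ofFinite (Subgroup.zpowers z)
  obtain ⟨n, -, -, h1, -⟩ := exists_fix h _ _ (le_refl (Subgroup.zpowers z))
  obtain ⟨d, hd⟩ := IsCharacter.exists_one_eq h
  rw [sum_zpowers, Nat.card_zpowers, hz] at h1
  simp only [Finset.sum_range_succ, Finset.range_zero, Finset.sum_empty, pow_zero, pow_one, hd] at h1
  exact ⟨2 * n - d, by push_cast at h1 ⊢; linear_combination h1⟩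

theorem sum_three [Finite G] {χ : G → ℂ} (h : IsCharacter G χ) {r : G} (hr : orderOf r = 3)
    (hc : IsConj r r⁻¹) [Fintype (Subgroup.zpowers r)] :
    ∑ x : Subgroup.zpowers r, χ x = χ 1 + 2 * χ r := by
  have h3 : r ^ 2 = r⁻¹ := by
    rw [eq_inv_iff_mul_eq_one, ← pow_succ]; exact (hr ▸ pow_orderOf_eq_one r : r ^ 3 = 1)
  rw [sum_zpowers, hr]
  simp only [Finset.sum_range_succ, Finset.range_zero, Finset.sum_empty, pow_zero, pow_one, h3,
    IsClassFunction.of_isConj (IsCharacter.isClassFunction h) hc]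
  ring

theorem exists_int_three [Finite G] {χ : G → ℂ} (h : IsCharacter G χ) {r : G} (hr : orderOf r = 3)
    (hc : IsConj r r⁻¹) : ∃ m : ℤ, χ r = m := by
  have := Fintype.ofFinite (Subgroup.zpowers r)
  obtain ⟨n, -, -, h1, -⟩ := exists_fix h _ _ (le_refl (Subgroup.zpowers r))
  obtain ⟨d, hd⟩ := IsCharacter.exists_one_eq h
  rw [sum_three h hr hc, Nat.card_zpowers, hr, hd] at h1
  have e : χ r = ((3 * n - d : ℤ) : ℂ) / ((2 : ℤ) : ℂ) := by
    push_cast at h1 ⊢; linear_combination h1 / 2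
  obtain ⟨m, hm⟩ := dvd_of_isIntegral (by norm_num) (e ▸ IsCharacter.isIntegral h r)
  refine ⟨m, ?_⟩
  rw [e, hm]; push_cast; ring

/-- the kernel of a character -/
def chKer [Finite G] {χ : G → ℂ} (h : IsCharacter G χ) : Subgroup G where
  carrier := {g | χ g = χ 1}
  one_mem' := rfl
  mul_mem' {a b} ha hb := (IsCharacter.mul_of_eq_one h ha b).trans hb
  inv_mem' {a} ha := by
    have := IsCharacter.mul_of_eq_one h ha a⁻¹
    rw [mul_inv_cancel] at this
    exact this.symm

instance [Finite G] {χ : G → ℂ} (h : IsCharacter G χ) : (chKer h).Normal :=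
  ⟨fun n hn g => (IsCharacter.isClassFunction h n g).trans hn⟩

theorem normSq_ne [Finite G] [IsSimpleGroup G] (hG : ¬ IsMulCommutative G) {χ : G → ℂ}
    (h : IsIrrCharacter G χ) (h1 : χ ≠ fun _ => 1) {g : G} (hg : g ≠ 1) :
    χ g * conj (χ g) ≠ χ 1 * conj (χ 1) := by
  intro e
  have := Fintype.ofFinite G
  have hχ := IsIrrCharacter.isCharacter h
  have hψ := IsCharacter.mul hχ (IsCharacter.conj hχ)
  have hk : chKer hψ = ⊤ := (Subgroup.Normal.eq_bot_or_eq_top inferInstance).resolve_left fun hb =>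
    hg (by have : g ∈ chKer hψ := e
           rwa [hb] at this)
  have hall : ∀ x, χ x * conj (χ x) = χ 1 * conj (χ 1) := fun x => by
    have : x ∈ chKer hψ := hk ▸ Subgroup.mem_top x
    exact this
  have h2 := IsIrrCharacter.classInner_self h
  simp only [classInner, hall, Finset.sum_const, Finset.card_univ, nsmul_eq_mul,
    ← Nat.card_eq_fintype_card] at h2
  rw [inv_mul_cancel_left₀ card_ne_zero'] at h2
  obtain ⟨d, hd⟩ := IsCharacter.exists_one_eq hχ
  rw [hd, map_natCast] at h2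
  have hd1 : d = 1 := by
    have : d * d = 1 := by exact_mod_cast h2
    exact Nat.eq_one_of_mul_eq_one_right this
  obtain ⟨l, hl⟩ := IsCharacter.exists_hom_of_one_eq_one hχ (by rw [hd, hd1, Nat.cast_one])
  subst hl
  rcases Subgroup.Normal.eq_bot_or_eq_top (inferInstance : (chKer hχ).Normal) with hb | ht
  · refine hG ⟨⟨fun a b => ?_⟩⟩
    have : a * b * (b * a)⁻¹ ∈ chKer hχ := by
      change l _ = l 1
      rw [map_mul, map_mul, mul_comm (l a), ← map_mul, ← map_mul, mul_inv_cancel]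
    rw [hb, Subgroup.mem_bot, mul_inv_eq_one] at this
    exact this
  · refine h1 (funext fun x => ?_)
    have : x ∈ chKer hχ := ht ▸ Subgroup.mem_top x
    exact Eq.trans this (map_one l)

theorem abs_lt_deg [Finite G] [IsSimpleGroup G] (hG : ¬ IsMulCommutative G) {χ : G → ℂ}
    (h : IsIrrCharacter G χ) (h1 : χ ≠ fun _ => 1) {g : G} (hg : g ≠ 1) {d : ℕ} {m : ℤ}
    (hd : χ 1 = d) (hm : χ g = m) : |m| < d := by
  have h2 := normSq_ne hG h h1 hg
  have h3 := IsCharacter.norm_le (IsIrrCharacter.isCharacter h) g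
  rw [hd, hm] at h2 h3
  simp only [map_intCast, map_natCast] at h2
  simp only [Complex.norm_intCast, Complex.natCast_re] at h3
  have h4 : |m| ≤ d := by exact_mod_cast h3
  refine lt_of_le_of_ne h4 fun e => h2 ?_
  have : m * m = d * d := by rw [← e, abs_mul_abs_self]
  exact_mod_cast this

theorem deg_sq_lt [Fintype G] {χ : G → ℂ} (h : IsIrrCharacter G χ) (h1 : χ ≠ fun _ => 1) {d : ℕ}
    (hd : χ 1 = d) : d ^ 2 < Nat.card G := by
  classical
  choose D hD using fun ψ : IrrCharacter G =>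
    IsCharacter.exists_one_eq (IsIrrCharacter.isCharacter ψ.2)
  have e := sum_sq_degree (G := G)
  simp only [hD] at e
  have e2 : ∑ ψ, D ψ ^ 2 = Nat.card G := by exact_mod_cast e
  have hne : (⟨χ, h⟩ : IrrCharacter G) ≠ ⟨_, isIrrCharacter_one⟩ := fun e => h1 (congrArg Subtype.val e)
  have h3 := Finset.add_le_sum (f := fun ψ => D ψ ^ 2) (s := Finset.univ) (fun _ _ => Nat.zero_le _)
    (Finset.mem_univ _) (Finset.mem_univ _) hne
  have h4 : D ⟨χ, h⟩ = d := by exact_mod_cast (hD ⟨χ, h⟩).symm.trans hd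
  have h5 : D ⟨_, isIrrCharacter_one⟩ = 1 := by
    have : (1 : ℂ) = D ⟨_, isIrrCharacter_one⟩ := hD ⟨_, isIrrCharacter_one⟩
    exact_mod_cast this.symm
  simp only [h4, h5, e2] at h3
  omega

end Cfsg.Agent.H4.K3
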