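import Cfsg.Agent.H4.K3a

/-! Elements `x` with `(x r) ^ 3 = (x⁻¹ r) ^ 3 = 1` and subgroups on which `r` acts without fixed points. -/

set_option autoImplicit false
set_option linter.unusedSectionVars false

namespace Cfsg.Agent.H4.K3

open Subgroup

variable {G : Type*} [Group G]

def InX (r x : G) : Prop := (x * r) ^ 3 = 1 ∧ (x⁻¹ * r) ^ 3 = 1

theorem cube_eq {r : G} (hr : r ^ 3 = 1) (x : G) :
    (x * r) ^ 3 = x * (r * x * r⁻¹) * (r⁻¹ * x * r) := by
  have : r⁻¹ * r⁻¹ = r := by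
    rw [← mul_inv_rev, inv_eq_iff_mul_eq_one, ← hr, pow_succ, pow_two]
  calc (x * r) ^ 3 = x * r * x * r * x * r := by simp only [pow_succ, pow_zero, one_mul, mul_assoc]
    _ = x * r * x * (r⁻¹ * r⁻¹) * x * r := by rw [this]
    _ = _ := by group

theorem InX.inv {r x : G} (h : InX r x) : InX r x⁻¹ := ⟨h.2, by rw [inv_inv]; exact h.1⟩

theorem InX.prod {r x : G} (hr : r ^ 3 = 1) (h : InX r x) :
    x * (r * x * r⁻¹) * (r⁻¹ * x * r) = 1 := cube_eq hr x ▸ h.1

theorem InX.third {r x : G} (hr : r ^ 3 = 1) (h : InX r x) :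
    r⁻¹ * x * r = (x * (r * x * r⁻¹))⁻¹ := eq_inv_of_mul_eq_one_right (h.prod hr)

theorem InX.comm {r x : G} (hr : r ^ 3 = 1) (h : InX r x) : Commute x (r * x * r⁻¹) := by
  have h1 := h.third hr
  have h2 := h.inv.third hr
  have h3 : r⁻¹ * x⁻¹ * r = (r⁻¹ * x * r)⁻¹ := by group
  rw [h3, h1, inv_inv] at h2
  rw [Commute, SemiconjBy, h2]; group

theorem InX.comm' {r x : G} (hr : r ^ 3 = 1) (h : InX r x) : Commute x (r⁻¹ * x * r) := by
  rw [h.third hr]
  exact ((Commute.refl x).mul_right (h.comm hr)).inv_right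

theorem InX.comm'' {r x : G} (hr : r ^ 3 = 1) (h : InX r x) :
    Commute (r * x * r⁻¹) (r⁻¹ * x * r) := by
  rw [h.third hr]
  exact ((h.comm hr).symm.mul_right (Commute.refl _)).inv_right

theorem InX.pow {r x : G} (hr : r ^ 3 = 1) (h : InX r x) (n : ℕ) : InX r (x ^ n) := by
  have key : ∀ y, InX r y → (y ^ n * r) ^ 3 = 1 := fun y hy => by
    have e2 : r⁻¹ * y ^ n * r = (r⁻¹ * y * r) ^ n := by
      simpa using (conj_pow (a := r⁻¹) (b := y) (i := n)).symm
    rw [cube_eq hr, ← conj_pow, e2, ← (hy.comm hr).mul_pow,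
      ← ((hy.comm' hr).mul_left (hy.comm'' hr)).mul_pow, hy.prod hr, one_pow]
  exact ⟨key x h, by rw [← inv_pow]; exact key _ h.inv⟩

theorem exists_cube_root [Finite G] {x : G} (h : ¬ 3 ∣ orderOf x) : ∃ n : ℕ, (x ^ n) ^ 3 = x := by
  obtain ⟨n, hn⟩ := exists_pow_eq_self_of_coprime (x := x)
    ((Nat.Prime.coprime_iff_not_dvd Nat.prime_three).2 h)
  exact ⟨n, by rw [← pow_mul, mul_comm, pow_mul, hn]⟩

theorem InX.isConj [Finite G] {r x : G} (hr : r ^ 3 = 1) (h : InX r x) (h3 : ¬ 3 ∣ orderOf x) :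
    IsConj r (x * r) := by
  obtain ⟨n, hn⟩ := exists_cube_root h3
  have hv := h.pow hr n
  generalize x ^ n = v at hn hv
  refine isConj_iff.2 ⟨v * (r⁻¹ * v * r)⁻¹, ?_⟩
  calc v * (r⁻¹ * v * r)⁻¹ * r * (v * (r⁻¹ * v * r)⁻¹)⁻¹
      = v * ((r⁻¹ * v * r)⁻¹ * v) * (r * v * r⁻¹)⁻¹ * r := by group
    _ = v * (v * (r⁻¹ * v * r)⁻¹) * (r * v * r⁻¹)⁻¹ * r := by rw [(hv.comm' hr).inv_right.eq]
    _ = v * v * v * r := by rw [hv.third hr]; group
    _ = x * r := by rw [← hn, pow_succ, pow_two]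

/-- no elements of order `3 m`, and centralizers of elements of order 3 are commutative -/
structure CC (G : Type*) [Group G] : Prop where
  cube : ∀ g y : G, g ^ 3 = 1 → g ≠ 1 → Commute g y → y ^ 3 = 1
  comm : ∀ g y z : G, g ^ 3 = 1 → g ≠ 1 → Commute g y → Commute g z → Commute y z

theorem CC.cube_of_dvd [Finite G] (hG : CC G) {x : G} (h : 3 ∣ orderOf x) : x ^ 3 = 1 := by
  obtain ⟨k, hk⟩ := h
  have h0 := orderOf_pos x
  refine hG.cube (x ^ k) x (by rw [← pow_mul, mul_comm, ← hk, pow_orderOf_eq_one]) ?_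
    ((Commute.refl x).pow_left k)
  exact pow_ne_one_of_lt_orderOf (by rintro rfl; omega) (by omega)

theorem InX.dichotomy [Finite G] (hG : CC G) {r x : G} (hr : r ^ 3 = 1) (h : InX r x) :
    Commute r x ∨ ¬ 3 ∣ orderOf x := by
  by_cases h3 : 3 ∣ orderOf x
  · left
    have hx := hG.cube_of_dvd h3
    set b := r * x * r⁻¹ with hb
    have hb3 : b ^ 3 = 1 := by rw [hb, conj_pow, hx]; simp
    have hc := h.comm hr
    by_cases h1 : x * b⁻¹ = 1
    · rw [mul_inv_eq_one, hb, eq_mul_inv_iff_mul_eq] at h1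
      exact h1.symm
    refine hG.comm (x * b⁻¹) r x (by rw [hc.inv_right.mul_pow, inv_pow, hx, hb3]; simp) h1 ?_
      ((Commute.refl x).mul_left hc.symm.inv_left)
    have e1 : r * b * r⁻¹ = r⁻¹ * x * r := by
      have : r * r = r⁻¹ := by rw [eq_inv_iff_mul_eq_one, ← hr, pow_succ, pow_two]
      calc r * b * r⁻¹ = (r * r) * x * (r * r)⁻¹ := by rw [hb]; group
        _ = _ := by rw [this, inv_inv]
    have e2 : r * (x * b⁻¹) * r⁻¹ = x * b⁻¹ := by
      calc r * (x * b⁻¹) * r⁻¹ = b * (r * b * r⁻¹)⁻¹ := by rw [hb]; group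
        _ = b * (x * b) := by rw [e1, h.third hr, inv_inv]
        _ = x * (b * b) := by rw [← mul_assoc, ← hc.eq, mul_assoc]
        _ = _ := by
          congr 1
          rw [eq_inv_iff_mul_eq_one, ← hb3, pow_succ, pow_two]
    exact (mul_inv_eq_iff_eq_mul.1 e2).symm
  · exact Or.inr h3

/-- an `r`-invariant `3'`-subgroup -/
structure Inv (r : G) (H : Subgroup G) : Prop where
  mem : ∀ x ∈ H, r * x * r⁻¹ ∈ H
  t3 : ¬ 3 ∣ Nat.card H

theorem not_three_dvd_iff [Finite G] {H : Subgroup G} :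
    ¬ 3 ∣ Nat.card H ↔ ∀ x ∈ H, x ^ 3 = 1 → x = 1 := by
  have : Fact (Nat.Prime 3) := ⟨Nat.prime_three⟩
  constructor
  · intro h x hx h3
    by_contra h1
    exact h (orderOf_eq_prime h3 h1 ▸ H.orderOf_dvd_natCard hx)
  · intro h h3
    obtain ⟨x, hx⟩ := exists_prime_orderOf_dvd_card' 3 h3
    have h1 : x ^ 3 = 1 := hx ▸ pow_orderOf_eq_one x
    have := h x x.2 (by exact_mod_cast h1)
    rw [show x = 1 from Subtype.ext this, orderOf_one] at hx
    omega

theorem Inv.eq_one [Finite G] {r : G} {H : Subgroup G} (h : Inv r H) {x : G} (hx : x ∈ H)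
    (h3 : x ^ 3 = 1) : x = 1 := not_three_dvd_iff.1 h.t3 x hx h3

theorem Inv.mem' {r : G} (hr : r ^ 3 = 1) {H : Subgroup G} (h : Inv r H) {x : G} (hx : x ∈ H) :
    r⁻¹ * x * r ∈ H := by
  have e : r * r = r⁻¹ := by rw [eq_inv_iff_mul_eq_one, ← hr, pow_succ, pow_two]
  have := h.mem _ (h.mem _ hx)
  rwa [show r * (r * x * r⁻¹) * r⁻¹ = (r * r) * x * (r * r)⁻¹ by group, e, inv_inv] at this

theorem Inv.mem_normalizer {r : G} (hr : r ^ 3 = 1) {H : Subgroup G} (h : Inv r H) :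
    r ∈ normalizer (H : Set G) := by
  rw [mem_normalizer_iff]
  exact fun x => ⟨h.mem x, fun hx => by simpa [mul_assoc] using h.mem' hr hx⟩

theorem Inv.symm {r : G} (hr : r ^ 3 = 1) {H : Subgroup G} (h : Inv r H) : Inv r⁻¹ H :=
  ⟨fun x hx => by simpa using h.mem' hr hx, h.t3⟩

theorem exists_inv_of_inX [Finite G] {r x : G} (hr : r ^ 3 = 1) (h : InX r x)
    (h3 : ¬ 3 ∣ orderOf x) : ∃ H, Inv r H ∧ x ∈ H := by
  set b := r * x * r⁻¹ with hb
  have hc := h.comm hr
  have hx : x ∈ closure {x, b} := subset_closure (by simp)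
  have hb' : b ∈ closure {x, b} := subset_closure (by simp)
  refine ⟨closure {x, b}, ⟨fun y hy => ?_, not_three_dvd_iff.2 fun y hy hy3 => ?_⟩, hx⟩
  · induction hy using closure_induction with
    | mem y hy =>
      rcases hy with rfl | rfl
      · exact hb'
      · have : r * r = r⁻¹ := by rw [eq_inv_iff_mul_eq_one, ← hr, pow_succ, pow_two]
        rw [show r * b * r⁻¹ = (r * r) * x * (r * r)⁻¹ by rw [hb]; group, this, inv_inv,
          h.third hr]
        exact inv_mem (mul_mem hx hb')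
    | one => simp
    | mul y z _ _ h1 h2 => simpa [mul_assoc] using mul_mem h1 h2
    | inv y _ h1 => simpa [mul_assoc] using inv_mem h1
  · have h1 : ∀ z, Commute x z → Commute b z → ∀ y ∈ closure {x, b}, Commute y z := by
      intro z h1 h2 y hy
      induction hy using closure_induction with
      | mem y hy => rcases hy with rfl | rfl <;> assumption
      | one => exact Commute.one_left z
      | mul y z _ _ h1 h2 => exact h1.mul_left h2
      | inv y _ h1 => exact h1.inv_left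
    have h2 : ∀ y ∈ closure {x, b}, y ^ orderOf x = 1 := by
      intro y hy
      induction hy using closure_induction with
      | mem y hy =>
        rcases hy with rfl | rfl
        · exact pow_orderOf_eq_one _
        · rw [hb, conj_pow, pow_orderOf_eq_one]; simp
      | one => exact one_pow _
      | mul y z hy hz h3 h4 =>
        rw [(h1 z (h1 x (Commute.refl x) hc.symm z hz).symm (h1 b hc (Commute.refl b) z hz).symm
          y hy).mul_pow, h3, h4, mul_one]
      | inv y _ h3 => rw [inv_pow, h3, inv_one]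
    exact (pow_eq_one_iff_of_coprime ((Nat.Prime.coprime_iff_not_dvd Nat.prime_three).2 h3)).1
      ⟨hy3, h2 y hy⟩

section
variable [Finite G] (hG : CC G) {r : G} (hr : r ^ 3 = 1) (hr1 : r ≠ 1) {H : Subgroup G} (h : Inv r H)
include hG hr hr1 h

theorem Inv.fpf {x : G} (hx : x ∈ H) (hc : Commute r x) : x = 1 :=
  h.eq_one hx (hG.cube r x hr hr1 hc)

theorem Inv.exists_conj {x : G} (hx : x ∈ H) : ∃ y ∈ H, y * r * y⁻¹ = x * r := by
  let f : H → H := fun y => ⟨y * (r * (y : G)⁻¹ * r⁻¹), mul_mem y.2 (h.mem _ (inv_mem y.2))⟩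
  have hf : Function.Injective f := fun y z e => by
    have e1 : (y : G) * (r * (y : G)⁻¹ * r⁻¹) = z * (r * (z : G)⁻¹ * r⁻¹) := congrArg Subtype.val e
    have e2 : Commute r ((z : G)⁻¹ * y) := by
      rw [Commute, SemiconjBy]
      calc r * ((z : G)⁻¹ * y) = (z : G)⁻¹ * (z * (r * (z : G)⁻¹ * r⁻¹)) * r * y := by group
        _ = _ := by rw [← e1]; simp [mul_assoc]
    have := h.fpf hG hr hr1 (mul_mem (inv_mem z.2) y.2) e2
    exact Subtype.ext (inv_mul_eq_one.1 this).symm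
  obtain ⟨y, hy⟩ := Finite.surjective_of_injective hf ⟨x, hx⟩
  have e1 : (y : G) * (r * (y : G)⁻¹ * r⁻¹) = x := congrArg Subtype.val hy
  exact ⟨y, y.2, by rw [← e1]; simp [mul_assoc]⟩

theorem Inv.inX {x : G} (hx : x ∈ H) : InX r x := by
  have key : ∀ x ∈ H, (x * r) ^ 3 = 1 := fun x hx => by
    obtain ⟨y, -, e⟩ := h.exists_conj hG hr hr1 hx
    rw [← e, conj_pow, hr]; simp
  exact ⟨key x hx, key _ (inv_mem hx)⟩

theorem Inv.comm_conj' {x y : G} (hx : x ∈ H) (hy : y ∈ H) (hc : Commute x y) :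
    Commute x (r⁻¹ * y * r) := by
  have h1 := (h.inX hG hr hr1 (mul_mem hx (h.mem y hy))).comm hr
  have h2 := (h.inX hG hr hr1 hx).comm hr
  have h3 := (h.inX hG hr hr1 hy).comm'' hr
  have h4 : Commute (r * x * r⁻¹) (r * y * r⁻¹) := hc.conj r
  have e : r * r = r⁻¹ := by rw [eq_inv_iff_mul_eq_one, ← hr, pow_succ, pow_two]
  rw [show r * (x * (r * y * r⁻¹)) * r⁻¹ = r * x * r⁻¹ * ((r * r) * y * (r * r)⁻¹) by group, e,
    inv_inv] at h1
  generalize r * x * r⁻¹ = a at *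
  generalize r * y * r⁻¹ = b at *
  generalize r⁻¹ * y * r = c at *
  have h5 : a * (x * c * b) = a * (c * x * b) := by
    calc a * (x * c * b) = (a * x) * (c * b) := by group
      _ = x * (a * b) * c := by rw [← h2.eq, ← h3.eq]; group
      _ = x * b * (a * c) := by rw [h4.eq]; group
      _ = _ := by rw [h1.eq]; group
  exact mul_right_cancel (mul_left_cancel h5)

theorem Inv.comm_conj {x y : G} (hx : x ∈ H) (hy : y ∈ H) (hc : Commute x y) :
    Commute x (r * y * r⁻¹) := by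
  have e : r * r = r⁻¹ := by rw [eq_inv_iff_mul_eq_one, ← hr, pow_succ, pow_two]
  have := h.comm_conj' hG hr hr1 hx (h.mem' hr hy) (h.comm_conj' hG hr hr1 hx hy hc)
  rwa [show r⁻¹ * (r⁻¹ * y * r) * r = (r * r)⁻¹ * y * (r * r) by group, e, inv_inv] at this

theorem Inv.engel {x k : G} (hx : x ∈ H) (hk : k ∈ H) : Commute x (k * x * k⁻¹) := by
  have e : r * r = r⁻¹ := by rw [eq_inv_iff_mul_eq_one, ← hr, pow_succ, pow_two]
  set k' := r * k * r⁻¹ with hk'
  have hk1 : k' ∈ H := h.mem k hk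
  obtain ⟨y, hy, ey⟩ := h.exists_conj hG hr hr1 hk1
  have h1 : Inv (k' * r) H := ⟨fun z hz => by
    simpa [mul_assoc] using mul_mem (mul_mem hk1 (h.mem z hz)) (inv_mem hk1), h.t3⟩
  have h2 : (k' * r) ^ 3 = 1 := (h.inX hG hr hr1 hk1).1
  have h3 : k' * r ≠ 1 := by rw [← ey]; simpa using hr1
  have h4 := (h1.inX hG h2 h3 hx).comm h2
  have h5 := h.comm_conj' hG hr hr1 hx (h1.mem x hx) h4
  rwa [show r⁻¹ * (k' * r * x * (k' * r)⁻¹) * r = k * x * k⁻¹ by rw [hk']; group] at h5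

theorem Inv.comm_of_coprime {x y : G} (hx : x ∈ H) (hy : y ∈ H) {m n : ℕ} (hm : x ^ m = 1)
    (hn : y ^ n = 1) (hc : m.Coprime n) : Commute x y := by
  have h1 := h.engel hG hr hr1 hx hy
  have h2 := h.engel hG hr hr1 hy hx
  have a1 : (x * y * x⁻¹ * y⁻¹) ^ m = 1 := by
    rw [show x * y * x⁻¹ * y⁻¹ = x * (y * x * y⁻¹)⁻¹ by group, h1.inv_right.mul_pow, inv_pow,
      conj_pow, hm]
    simp
  have a2 : (x * y * x⁻¹ * y⁻¹) ^ n = 1 := by
    rw [h2.symm.inv_right.mul_pow, inv_pow, conj_pow, hn]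
    simp
  have := (pow_eq_one_iff_of_coprime hc).1 ⟨a1, a2⟩
  rwa [mul_inv_eq_one, mul_inv_eq_iff_eq_mul] at this

theorem Inv.card_mod : Nat.card H % 3 = 1 := by
  classical
  have : Fact (Nat.Prime 3) := ⟨Nat.prime_three⟩
  have := Fintype.ofFinite H
  let f : Function.End H := fun y => ⟨r * y * r⁻¹, h.mem _ y.2⟩
  have hf : f ^ 3 ^ 1 = 1 := by
    funext y
    refine Subtype.ext ?_
    change r * (r * (r * y * r⁻¹) * r⁻¹) * r⁻¹ = y
    calc r * (r * (r * y * r⁻¹) * r⁻¹) * r⁻¹ = r ^ 3 * y * (r ^ 3)⁻¹ := by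
          simp only [pow_succ, pow_zero, one_mul, mul_inv_rev, mul_assoc]
      _ = y := by rw [hr]; simp
  have h1 := Equiv.Perm.card_fixedPoints_modEq hf
  have h2 : Fintype.card f.fixedPoints = 1 := Fintype.card_eq_one_iff.2
    ⟨⟨1, Subtype.ext (by simp [f])⟩, fun y => Subtype.ext (Subtype.ext
      (h.fpf hG hr hr1 y.1.2 (mul_inv_eq_iff_eq_mul.1 (congrArg Subtype.val y.2))))⟩
  rw [h2, ← Nat.card_eq_fintype_card] at h1
  exact h1

end

end Cfsg.Agent.H4.K3
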