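import Cfsg.Agent.H4.K3b

/-! Groups with a self-centralizing element of order three. -/

set_option autoImplicit false
set_option linter.unusedSectionVars false

namespace Cfsg.Agent.H4.K3

open Subgroup Cfsg.Agent.H1
open scoped ComplexConjugate

variable {G : Type*} [Group G]

open Classical in
theorem sum_mul_int [Fintype G] {g h : G} {u v : IrrCharacter G → ℤ}
    (hu : ∀ χ : IrrCharacter G, (χ : G → ℂ) g = u χ) (hv : ∀ χ : IrrCharacter G, (χ : G → ℂ) h = v χ) :
    ∑ χ, u χ * v χ = if IsConj g h then (cc g : ℤ) else 0 := by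
  have := sum_irr_mul_conj g h
  simp only [hu, hv, map_intCast] at this
  apply Int.cast_injective (α := ℂ)
  push_cast
  exact this

theorem cnt_int [Fintype G] {x y g : G} {u v w : IrrCharacter G → ℤ} {d : IrrCharacter G → ℕ}
    (hu : ∀ χ : IrrCharacter G, (χ : G → ℂ) x = u χ) (hv : ∀ χ : IrrCharacter G, (χ : G → ℂ) y = v χ)
    (hw : ∀ χ : IrrCharacter G, (χ : G → ℂ) g⁻¹ = w χ) (hd : ∀ χ : IrrCharacter G, (χ : G → ℂ) 1 = d χ) :
    (cnt x y g : ℚ) * cc x * cc y = Nat.card G * ∑ χ, (u χ * v χ * w χ : ℚ) / d χ := by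
  have := cnt_formula x y g
  simp only [hu, hv, hw, hd] at this
  apply Rat.cast_injective (α := ℂ)
  push_cast
  exact this

/-- the principal character -/
def triv (G : Type*) [Group G] : IrrCharacter G := ⟨fun _ => 1, isIrrCharacter_one⟩

theorem triv_int {g : G} {m : ℤ} (h : (triv G : G → ℂ) g = m) : m = 1 := by
  have : (1 : ℂ) = m := h
  exact_mod_cast this.symm

theorem triv_nat {g : G} {m : ℕ} (h : (triv G : G → ℂ) g = m) : m = 1 := by
  have : (1 : ℂ) = m := h
  exact_mod_cast this.symm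

open Classical in
/-- the non-principal characters with property `P` -/
noncomputable def supp [Fintype G] (P : IrrCharacter G → Prop) : Finset (IrrCharacter G) :=
  Finset.univ.filter (fun χ => χ ≠ triv G ∧ P χ)

theorem mem_supp [Fintype G] {P : IrrCharacter G → Prop} {χ : IrrCharacter G} :
    χ ∈ supp P ↔ χ ≠ triv G ∧ P χ := by simp [supp]

theorem sum_split [Fintype G] {R : Type*} [AddCommMonoid R] (P : IrrCharacter G → Prop)
    (f : IrrCharacter G → R) (hf : ∀ χ, ¬ P χ → f χ = 0) :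
    ∑ χ, f χ = f (triv G) + ∑ χ ∈ supp P, f χ := by
  classical
  rw [← Finset.add_sum_erase _ _ (Finset.mem_univ (triv G)), supp, Finset.sum_filter,
    ← Finset.add_sum_erase _ _ (Finset.mem_univ (triv G)), if_neg (by simp), zero_add]
  congr 1
  refine Finset.sum_congr rfl fun χ hχ => ?_
  by_cases h : P χ
  · rw [if_pos ⟨Finset.ne_of_mem_erase hχ, h⟩]
  · rw [if_neg (fun h' => h h'.2), hf χ h]

theorem inX_of_cnt {r p : G} (hr : r ^ 3 = 1) (h1 : p ^ 3 = 1) (h2 : (p⁻¹ * r⁻¹) ^ 3 = 1) :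
    InX r (p * r⁻¹) := by
  refine ⟨by simpa using h1, ?_⟩
  have e : r * r = r⁻¹ := by rw [eq_inv_iff_mul_eq_one, ← hr, pow_succ, pow_two]
  rw [show (p * r⁻¹)⁻¹ * r = r * (p⁻¹ * (r * r)) * r⁻¹ by group, e, conj_pow, h2]
  simp

theorem cube_of_isConj {r p : G} (hr : r ^ 3 = 1) (h : IsConj r p) : p ^ 3 = 1 := by
  obtain ⟨c, rfl⟩ := isConj_iff.1 h
  rw [conj_pow, hr]; simp

theorem card_lt_cnt [Finite G] {r : G} (hr : orderOf r = 3) (hc : cc r = 3) (hi : IsConj r r⁻¹) :
    Nat.card G < 9 * cnt r r r⁻¹ := by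
  classical
  have := Fintype.ofFinite G
  choose x hx using fun χ : IrrCharacter G => exists_int_three (IsIrrCharacter.isCharacter χ.2) hr hi
  choose d hd hd0 _ using fun χ : IrrCharacter G => exists_deg χ.2
  have hr1 : r ≠ 1 := by rintro rfl; simp at hr
  have x1 : x (triv G) = 1 := triv_int (hx _)
  have d1 : d (triv G) = 1 := triv_nat (hd _)
  have h1 := sum_mul_int hx hx
  have h2 := sum_mul_int (v := fun χ => d χ) hx (by simpa using hd)
  have h3 := cnt_int hx hx (g := r⁻¹) (by simpa using hx) hd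
  rw [if_pos (IsConj.refl r), hc, sum_split (fun χ => x χ ≠ 0) _ (by simp +contextual), x1] at h1
  rw [if_neg (by simpa using hr1), sum_split (fun χ => x χ ≠ 0) _ (by simp +contextual), x1, d1] at h2
  rw [hc, sum_split (fun χ => x χ ≠ 0) _ (by simp +contextual), x1, d1] at h3
  set S := supp (fun χ => x χ ≠ 0)
  have hS : ∀ χ ∈ S, x χ = 1 ∨ x χ = -1 := fun χ hχ => by
    have h4 := Finset.single_le_sum (f := fun χ => x χ * x χ) (fun _ _ => mul_self_nonneg _) hχ
    have h5 := (mem_supp.1 hχ).2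
    have : x χ < 2 := by push_cast at h1; nlinarith
    have : -2 < x χ := by push_cast at h1; nlinarith
    omega
  rw [Finset.sum_congr rfl (g := fun _ => 1) (fun χ hχ => by
    rcases hS χ hχ with h | h <;> simp [h])] at h1
  obtain ⟨χ, ψ, hne, e⟩ := Finset.card_eq_two.1 (show S.card = 2 by
    simp only [Finset.sum_const, nsmul_eq_mul] at h1; omega)
  have a1 := hS χ (by simp [e])
  have a2 := hS ψ (by simp [e])
  rw [e, Finset.sum_pair hne] at h2 h3
  have b1 := hd0 χ
  have b2 := hd0 ψ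
  have hG : (0 : ℚ) < Nat.card G := by exact_mod_cast Nat.card_pos
  have key : ∀ m : ℕ, 0 < m → (0 : ℚ) < 1 / m - 1 / (m + 1) := fun m hm => by
    have : (0 : ℚ) < m := by exact_mod_cast hm
    rw [sub_pos]; exact one_div_lt_one_div_of_lt this (by linarith)
  have : (Nat.card G : ℚ) < 9 * cnt r r r⁻¹ := by
    rcases a1 with a1 | a1 <;> rcases a2 with a2 | a2 <;> rw [a1, a2] at h2 h3
    · omega
    · have h4 := key _ b1
      rw [show d ψ = d χ + 1 by omega] at h3
      push_cast at h3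
      rw [show (-1 * -1 * -1 : ℚ) / (d χ + 1) = -(1 / (d χ + 1)) by ring] at h3
      nlinarith
    · have h4 := key _ b2
      rw [show d χ = d ψ + 1 by omega] at h3
      push_cast at h3
      rw [show (-1 * -1 * -1 : ℚ) / (d ψ + 1) = -(1 / (d ψ + 1)) by ring] at h3
      nlinarith
    · omega
  exact_mod_cast this

theorem exists_central [Finite G] {p : ℕ} [Fact p.Prime] {P : Subgroup G} (hP : IsPGroup p P)
    (h : P ≠ ⊥) : ∃ z ∈ P, z ≠ 1 ∧ z ^ p = 1 ∧ ∀ y ∈ P, Commute z y := by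
  have : Nontrivial P := (nontrivial_iff_ne_bot P).2 h
  have := hP.center_nontrivial
  have h1 : p ∣ Nat.card (center P) := by
    obtain ⟨n, hn⟩ := IsPGroup.iff_card.1 (hP.to_subgroup (center P))
    have : 1 < Nat.card (center P) := Finite.one_lt_card
    exact hn ▸ dvd_pow_self p (by rintro rfl; rw [pow_zero] at hn; omega)
  obtain ⟨z, hz⟩ := exists_prime_orderOf_dvd_card' p h1
  have h2 : orderOf (z : G) = p := by rw [orderOf_coe, orderOf_coe, hz]
  refine ⟨z, z.1.2, ?_, h2 ▸ pow_orderOf_eq_one _, fun y hy =>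
    (congrArg Subtype.val (mem_center_iff.1 z.2 ⟨y, hy⟩)).symm⟩
  intro e
  rw [e, orderOf_one] at h2
  exact (Fact.out : p.Prime).one_lt.ne h2

theorem mem_zpowers_three {r x : G} (hr : r ^ 3 = 1) (h : x ∈ zpowers r) :
    x = 1 ∨ x = r ∨ x = r⁻¹ := by
  obtain ⟨k, rfl⟩ := h
  have e : r ^ (3 : ℤ) = 1 := by exact_mod_cast hr
  have : r ^ k = r ^ (k % 3) := by
    conv_lhs => rw [← Int.emod_add_mul_ediv k 3, zpow_add, zpow_mul, e, one_zpow, mul_one]
  have h3 : k % 3 = 0 ∨ k % 3 = 1 ∨ k % 3 = 2 := by omega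
  rcases h3 with h | h | h <;> simp only [this, h, zpow_zero, zpow_one, true_or, or_true]
  right; right
  rw [eq_inv_iff_mul_eq_one, ← e, ← zpow_add_one]; rfl

theorem exists_sylow_eq [Finite G] [Fact (Nat.Prime 3)] {r : G} (hr : orderOf r = 3)
    (hc : ∀ y, Commute r y → y ∈ zpowers r) : ∃ P : Sylow 3 G, (P : Subgroup G) = zpowers r := by
  have h1 : IsPGroup 3 (zpowers r) := IsPGroup.of_card (n := 1) (by rw [Nat.card_zpowers, hr]; rfl)
  obtain ⟨P, hP⟩ := h1.exists_le_sylow
  have hr1 : r ≠ 1 := by rintro rfl; simp at hr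
  have hrP : r ∈ (P : Subgroup G) := hP (mem_zpowers r)
  obtain ⟨z, -, hz1, -, hz⟩ := exists_central P.2 fun e => hr1 (by rwa [e, mem_bot] at hrP)
  refine ⟨P, le_antisymm (fun y hy => hc y ?_) hP⟩
  rcases mem_zpowers_three (hr ▸ pow_orderOf_eq_one r) (hc z (hz r hrP).symm) with e | e | e
  · exact absurd e hz1
  · exact e ▸ hz y hy
  · simpa [e] using (hz y hy).inv_left

theorem isConj_of_cube [Finite G] {r : G} (hr : orderOf r = 3)
    (hc : ∀ y, Commute r y → y ∈ zpowers r) {g : G} (hg : g ^ 3 = 1) (hg1 : g ≠ 1) :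
    IsConj r g ∨ IsConj r⁻¹ g := by
  have : Fact (Nat.Prime 3) := ⟨Nat.prime_three⟩
  obtain ⟨P, hP⟩ := exists_sylow_eq hr hc
  have h1 : IsPGroup 3 (zpowers g) := IsPGroup.of_card (n := 1) (by
    rw [Nat.card_zpowers, orderOf_eq_prime hg hg1]; rfl)
  obtain ⟨Q, hQ⟩ := h1.exists_le_sylow
  obtain ⟨c, rfl⟩ := MulAction.exists_smul_eq G P Q
  have h2 : g ∈ ((c • P : Sylow 3 G) : Subgroup G) := hQ (mem_zpowers g)
  rw [Sylow.coe_subgroup_smul, mem_pointwise_smul_iff_inv_smul_mem, hP] at h2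
  have h3 : c⁻¹ * g * c ∈ zpowers r := by simpa using h2
  rcases mem_zpowers_three (hr ▸ pow_orderOf_eq_one r) h3 with e | e | e
  · exact absurd (by rw [← mul_left_inj c, ← mul_right_inj c⁻¹, ← mul_assoc, e]; simp) hg1
  · exact Or.inl (isConj_iff.2 ⟨c, by rw [← e]; group⟩)
  · exact Or.inr (isConj_iff.2 ⟨c, by rw [← e]; group⟩)

theorem card_lt_nine [Finite G] (hG : CC G) {r : G} (hr : orderOf r = 3)
    (hc : ∀ y, Commute r y → y ∈ zpowers r) (H : Subgroup G) (hH : ∀ K, Inv r K → K ≤ H) :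
    Nat.card G < 9 * Nat.card H := by
  have : Fact (Nat.Prime 3) := ⟨Nat.prime_three⟩
  have hr3 : r ^ 3 = 1 := hr ▸ pow_orderOf_eq_one r
  have hr1 : r ≠ 1 := by rintro rfl; simp at hr
  by_cases hi : IsConj r r⁻¹
  · have h1 : cc r = 3 := by
      rw [cc, show centralizer {r} = zpowers r from le_antisymm
        (fun y hy => hc y (mem_centralizer_singleton_iff.1 hy).symm)
        (by simp [mem_centralizer_singleton_iff]), Nat.card_zpowers, hr]
    refine (card_lt_cnt hr h1 hi).trans_le (Nat.mul_le_mul_left _ ?_)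
    have key : ∀ p, IsConj r p ∧ IsConj r (p⁻¹ * r⁻¹) → p * r⁻¹ ∈ H := fun p hp => by
      have h2 := inX_of_cnt hr3 (cube_of_isConj hr3 hp.1) (cube_of_isConj hr3 hp.2)
      rcases h2.dichotomy hG hr3 with h3 | h3
      · rcases mem_zpowers_three hr3 (hc _ h3) with e | e | e
        · exact e ▸ H.one_mem
        · have : p⁻¹ * r⁻¹ = 1 := by
            rw [mul_inv_eq_iff_eq_mul.1 e, ← mul_inv_rev, inv_eq_one, ← hr3, pow_succ', pow_two]
          rw [this, isConj_one_left] at hp
          exact absurd hp.2 hr1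
        · rw [mul_eq_right.1 e, isConj_one_left] at hp
          exact absurd hp.1 hr1
      · obtain ⟨K, hK, hx⟩ := exists_inv_of_inX hr3 h2 h3
        exact hH K hK hx
    exact Nat.card_le_card_of_injective (fun p => (⟨p.1 * r⁻¹, key _ p.2⟩ : H)) fun p p' e =>
      Subtype.ext (mul_right_cancel (congrArg Subtype.val e :))
  · obtain ⟨P, hP⟩ := exists_sylow_eq hr hc
    have hN : normalizer (P : Set G) ≤ centralizer (P : Set G) := fun g hg => by
      have h1 : g * r * g⁻¹ ∈ zpowers r := by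
        rw [← hP]; exact (mem_normalizer_iff.1 hg r).1 (by
          rw [hP]; exact mem_zpowers r)
      have h2 : Commute r g := by
        rcases mem_zpowers_three hr3 h1 with e | e | e
        · exact absurd (by simpa using e) hr1
        · exact (mul_inv_eq_iff_eq_mul.1 e).symm
        · exact absurd (isConj_iff.2 ⟨g, e⟩) hi
      intro y hy
      have : y ∈ zpowers r := hP ▸ hy
      obtain ⟨k, rfl⟩ := this
      exact h2.zpow_left k
    have h1 := (MonoidHom.ker_transferSylow_isComplement' P hN).card_mul_card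
    have h2 := hH _ ⟨fun x hx => (MonoidHom.normal_ker _).conj_mem x hx r,
      MonoidHom.not_dvd_card_ker_transferSylow P hN⟩
    have h3 := card_le_of_le h2
    rw [show Nat.card (P : Subgroup G) = 3 by rw [hP, Nat.card_zpowers, hr]] at h1
    have : 0 < Nat.card H := Nat.card_pos
    omega

end Cfsg.Agent.H4.K3
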