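import Cfsg.Agent.H4.K3c

/-! Maximal `r`-invariant `3'`-subgroups. -/

set_option autoImplicit false
set_option linter.unusedSectionVars false

namespace Cfsg.Agent.H4.K3

open Subgroup

variable {G : Type*} [Group G]

theorem exists_mem_normalizer [Finite G] {p : ℕ} [Fact p.Prime] {T S : Subgroup G}
    (hT : IsPGroup p T) (h : S ≤ T) (hne : S ≠ T) :
    ∃ t ∈ T, t ∉ S ∧ t ∈ normalizer (S : Set G) := by
  have := hT.isNilpotent
  have h1 : S.subgroupOf T < ⊤ := lt_top_iff_ne_top.2 fun e =>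
    hne (le_antisymm h (subgroupOf_eq_top.1 e))
  obtain ⟨t, ht, ht'⟩ := SetLike.exists_of_lt (Group.normalizerCondition_of_isNilpotent _ h1)
  rw [← subgroupOf_normalizer_eq h] at ht
  exact ⟨t, t.2, ht', ht⟩

/-- conjugate subgroup -/
def cj (g : G) (H : Subgroup G) : Subgroup G := H.map (MulAut.conj g).toMonoidHom

theorem mem_cj {g x : G} {H : Subgroup G} : x ∈ cj g H ↔ g⁻¹ * x * g ∈ H :=
  ⟨by rintro ⟨y, hy, rfl⟩; simpa [mul_assoc] using hy, fun h => ⟨_, h, by simp [mul_assoc]⟩⟩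

theorem card_cj (g : G) (H : Subgroup G) : Nat.card (cj g H) = Nat.card H :=
  card_map_of_injective (MulAut.conj g).injective

theorem cj_cj (a b : G) (H : Subgroup G) : cj a (cj b H) = cj (a * b) H := by
  ext x; simp [mem_cj, mul_assoc]

theorem cj_one (H : Subgroup G) : cj 1 H = H := by ext x; simp [mem_cj]

theorem cj_mono (g : G) {H K : Subgroup G} (h : H ≤ K) : cj g H ≤ cj g K := map_mono h

theorem cj_eq_iff {g : G} {H : Subgroup G} : cj g H = H ↔ g ∈ normalizer (H : Set G) := by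
  rw [mem_normalizer_iff'']
  simp only [Subgroup.ext_iff, mem_cj]
  exact forall_congr' fun _ => iff_comm

theorem normalizer_cj (g : G) (H : Subgroup G) :
    normalizer (cj g H : Set G) = cj g (normalizer (H : Set G)) := by
  ext x
  rw [mem_cj, ← cj_eq_iff, ← cj_eq_iff, cj_cj]
  constructor
  · intro h
    rw [mul_assoc, ← cj_cj, h, cj_cj, inv_mul_cancel, cj_one]
  · intro h
    rw [show x * g = g * (g⁻¹ * x * g) by group, ← cj_cj, h]

theorem Inv.cj {r : G} {H : Subgroup G} (h : Inv r H) (g : G) : Inv (g * r * g⁻¹) (cj g H) :=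
  ⟨fun x hx => by
    rw [mem_cj] at hx ⊢
    simpa [mul_assoc] using h.mem _ hx, card_cj g H ▸ h.t3⟩

structure MaxInv (r : G) (H : Subgroup G) : Prop extends Inv r H where
  ne : H ≠ ⊥
  max : ∀ K, Inv r K → H ≤ K → K ≤ H

theorem MaxInv.cj {r : G} {H : Subgroup G} (h : MaxInv r H) (g : G) :
    MaxInv (g * r * g⁻¹) (cj g H) where
  toInv := h.toInv.cj g
  ne e := h.ne (by rw [← card_eq_one, ← card_cj g, e, card_bot])
  max K hK hle := by
    have h1 := hK.cj g⁻¹
    rw [show g⁻¹ * (g * r * g⁻¹) * g⁻¹⁻¹ = r by group] at h1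
    have h2 := cj_mono g⁻¹ hle
    rw [cj_cj, inv_mul_cancel, cj_one] at h2
    have h3 := cj_mono g (h.max _ h1 h2)
    rwa [cj_cj, mul_inv_cancel, cj_one] at h3

theorem MaxInv.symm {r : G} (hr : r ^ 3 = 1) {H : Subgroup G} (h : MaxInv r H) : MaxInv r⁻¹ H :=
  ⟨h.toInv.symm hr, h.ne, fun K hK => h.max K (by simpa using hK.symm (by simp [hr]))⟩

theorem exists_maxInv [Finite G] {r : G} {K : Subgroup G} (h : Inv r K) (hK : K ≠ ⊥) :
    ∃ H, MaxInv r H ∧ K ≤ H := by
  obtain ⟨H, h1, h2⟩ := Finite.exists_le_maximal (p := Inv r) h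
  exact ⟨H, ⟨h2.1, fun e => hK (le_bot_iff.1 (e ▸ h1)), fun L hL hle => h2.2 hL hle⟩, h1⟩

theorem CC.subgroup (hG : CC G) (M : Subgroup G) : CC M where
  cube g y h1 h2 h3 := Subtype.ext (hG.cube g y (congrArg Subtype.val h1)
    (fun e => h2 (Subtype.ext e)) (congrArg Subtype.val h3))
  comm g y z h1 h2 h3 h4 := Subtype.ext (hG.comm g y z (congrArg Subtype.val h1)
    (fun e => h2 (Subtype.ext e)) (congrArg Subtype.val h3) (congrArg Subtype.val h4))

section
variable [Finite G] (hG : CC G) {r : G} (hr : r ^ 3 = 1) (hr1 : r ≠ 1) {H : Subgroup G}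
include hG hr hr1

theorem Inv.eq_bot (h : Inv r H) {s : G} (hs : Commute r s) (hs' : s ∉ zpowers r) (h' : Inv s H) :
    H = ⊥ := by
  have s3 := hG.cube r s hr hr1 hs
  have s1 : s ≠ 1 := by rintro rfl; exact hs' (one_mem _)
  have n1 : r * s ≠ 1 := fun e => hs' (by rw [← inv_eq_of_mul_eq_one_right e]; simp)
  have n2 : r * s⁻¹ ≠ 1 := fun e => hs' (by rw [← mul_inv_eq_one.1 e]; simp)
  have c1 : (r * s) ^ 3 = 1 := by rw [hs.mul_pow, hr, s3, mul_one]
  have c2 : (r * s⁻¹) ^ 3 = 1 := by rw [hs.inv_right.mul_pow, inv_pow, hr, s3, inv_one, mul_one]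
  have i1 : Inv (r * s) H := ⟨fun x hx => by simpa [mul_assoc] using h.mem _ (h'.mem x hx), h.t3⟩
  have i2 : Inv (r * s⁻¹) H :=
    ⟨fun x hx => by simpa [mul_assoc] using h.mem _ (h'.mem' s3 hx), h.t3⟩
  rw [eq_bot_iff_forall]
  intro a ha
  refine h.eq_one ha ?_
  have R := fun x hx => (h.inX hG hr hr1 (x := x) hx).third hr
  have S := fun x hx => (h'.inX hG s3 s1 (x := x) hx).third s3
  set b := r * a * r⁻¹ with hb
  set c := s * a * s⁻¹ with hc
  set d := r * c * r⁻¹ with hd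
  have hd' : d = s * b * s⁻¹ := by
    rw [hd, hc, hb, show r * (s * a * s⁻¹) * r⁻¹ = (r * s) * a * (r * s)⁻¹ by group, hs.eq]; group
  have mb : b ∈ H := h.mem a ha
  have mc : c ∈ H := h'.mem a ha
  have ab : Commute a b := (h.inX hG hr hr1 ha).comm hr
  have ac : Commute a c := (h'.inX hG s3 s1 ha).comm s3
  have ad : Commute a d := by
    simpa [hd, hc, mul_assoc] using (i1.inX hG c1 n1 ha).comm c1
  have bd : Commute b d := hd' ▸ (h'.inX hG s3 s1 mb).comm s3
  have cd : Commute c d := (h.inX hG hr hr1 mc).comm hr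
  have e1 : a * (b * d)⁻¹ * (c * d)⁻¹ = 1 := by
    have := (i2.inX hG c2 n2 ha).prod c2
    rwa [show r * s⁻¹ * a * (r * s⁻¹)⁻¹ = s⁻¹ * b * s by
        rw [hs.inv_right.eq, hb]; group,
      show (r * s⁻¹)⁻¹ * a * (r * s⁻¹) = r⁻¹ * c * r by
        rw [hs.inv_right.eq, hc]; group, S b mb, R c mc, ← hd', ← hd] at this
  have e2 : a * d * ((a * c) * (b * d)) = 1 := by
    have := (i1.inX hG c1 n1 ha).prod c1
    have e3 : (r * s)⁻¹ * a * (r * s) = r⁻¹ * (s⁻¹ * a * s) * r := by rw [hs.eq]; group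
    rw [show r * s * a * (r * s)⁻¹ = d by rw [hd, hc]; group, e3, R _ (h'.mem' s3 ha),
      show r * (s⁻¹ * a * s) * r⁻¹ = s⁻¹ * b * s by
        rw [hb, show r * (s⁻¹ * a * s) * r⁻¹ = (r * s⁻¹) * a * (r * s⁻¹)⁻¹ by group,
          hs.inv_right.eq]; group, S a ha, S b mb, ← hc, ← hd', mul_inv_rev, inv_inv, inv_inv] at this
    rw [← this, ((ab.mul_right ad).mul_left ?_).eq]
    have e4 : c = a * (b * d)⁻¹ * d⁻¹ := by
      rw [mul_inv_eq_one] at e1
      rw [e1]; group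
    rw [e4]
    exact (((ab.mul_right ad).mul_left (Commute.refl _).inv_left)).mul_left
      (bd.symm.mul_right (Commute.refl d)).inv_left
  have e5 : a = c * d * (b * d) := by
    rw [mul_inv_eq_one, mul_inv_eq_iff_eq_mul] at e1; exact e1
  calc a ^ 3 = a * (a * (c * d * (b * d))) := by rw [← e5, pow_succ', pow_two]
    _ = a * ((a * (d * c)) * (b * d)) := by rw [cd.eq]; group
    _ = a * (d * a * c * (b * d)) := by rw [← mul_assoc a d, ad.eq]
    _ = 1 := by rw [← e2]; group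

theorem MaxInv.le_of_le_normalizer (h : MaxInv r H) {K : Subgroup G} (hK : Inv r K)
    (hle : K ≤ normalizer (H : Set G)) : K ≤ H := by
  have key : ∀ x ∈ H ⊔ K, ∃ a ∈ H, ∃ k ∈ K, a * k = x := fun x hx => by
    have : x ∈ ((H ⊔ K : Subgroup G) : Set G) := hx
    rw [coe_mul_of_right_le_normalizer_left H K hle] at this
    exact this
  refine le_sup_right.trans (h.max (H ⊔ K) ⟨fun x hx => ?_, not_three_dvd_iff.2 fun x hx h3 => ?_⟩
    le_sup_left)
  · obtain ⟨a, ha, k, hk, rfl⟩ := key x hx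
    simpa [mul_assoc] using mul_mem (mem_sup_left (h.mem a ha)) (mem_sup_right (hK.mem k hk))
  · obtain ⟨a, ha, k, hk, rfl⟩ := key x hx
    have n1 := fun y => (mem_normalizer_iff.1 (hle hk) y).1
    have h1 : k ^ 3 ∈ H := by
      have : k ^ 3 = (a * (k * a * k⁻¹) * (k * (k * a * k⁻¹) * k⁻¹))⁻¹ := by
        refine eq_inv_of_mul_eq_one_right ?_
        rw [← h3]
        simp only [pow_succ, pow_zero, one_mul, mul_assoc, inv_mul_cancel_left]
      rw [this]
      exact inv_mem (mul_mem (mul_mem ha (n1 _ ha)) (n1 _ (n1 _ ha)))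
    obtain ⟨n, hn⟩ := exists_cube_root (x := k) fun h3 => hK.t3 (h3.trans (K.orderOf_dvd_natCard hk))
    have h2 : k ∈ H := by rw [← hn, ← pow_mul, mul_comm, pow_mul]; exact pow_mem h1 n
    exact h.eq_one (mul_mem ha h2) h3

theorem MaxInv.mem_zpowers (h : MaxInv r H) {s : G} (hs : Commute r s)
    (hn : s ∈ normalizer (H : Set G)) : s ∈ zpowers r := by
  by_contra hc
  exact h.ne (h.eq_bot hG hr hr1 hs hc ⟨fun x hx => (mem_normalizer_iff.1 hn x).1 hx, h.t3⟩)

theorem MaxInv.card_normalizer (h : MaxInv r H) :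
    Nat.card (normalizer (H : Set G)) = 3 * Nat.card H ∨
      Nat.card (normalizer (H : Set G)) = 6 * Nat.card H := by
  have : Fact (Nat.Prime 3) := ⟨Nat.prime_three⟩
  set M := normalizer (H : Set G) with hM
  have hrM : r ∈ M := h.mem_normalizer hr
  have ho : orderOf r = 3 := orderOf_eq_prime hr hr1
  have h1 := card_lt_nine (hG.subgroup M) (r := ⟨r, hrM⟩) (by rw [orderOf_mk, ho])
    (fun y hy => by
      obtain ⟨k, hk⟩ := h.mem_zpowers hG hr hr1 (congrArg Subtype.val hy) y.2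
      exact ⟨k, Subtype.ext hk⟩) (H.subgroupOf M) fun K hK => by
      refine map_le_iff_le_comap.1 (h.le_of_le_normalizer hG hr hr1 ⟨?_, ?_⟩ (map_subtype_le K))
      · rintro _ ⟨y, hy, rfl⟩
        exact ⟨_, hK.mem y hy, rfl⟩
      · rw [card_map_of_injective M.subtype_injective]; exact hK.t3
  rw [Nat.card_congr (subgroupOfEquivOfLe le_normalizer).toEquiv] at h1
  obtain ⟨k, hk⟩ := card_dvd_of_le (le_normalizer : H ≤ M)
  have h2 : 3 ∣ k := ((Nat.Prime.dvd_mul Nat.prime_three).1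
    (hk ▸ ho ▸ M.orderOf_dvd_natCard hrM)).resolve_left h.t3
  have h3 : 0 < Nat.card M := Nat.card_pos
  rw [hk, mul_comm] at h1 h3 ⊢
  have h4 := Nat.lt_of_mul_lt_mul_right h1
  have h5 : k ≠ 0 := by rintro rfl; simp at h3
  obtain rfl | rfl : k = 3 ∨ k = 6 := by omega
  · exact Or.inl rfl
  · exact Or.inr rfl

theorem MaxInv.mem_of_comm (h : MaxInv r H) {w : G} (hw : w ∈ H) (hw1 : w ≠ 1)
    (hc : ∀ y ∈ H, Commute w y) {y : G} (h1 : Commute w y) (h2 : Commute (r * w * r⁻¹) y) :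
    y ∈ H := by
  have key : ∀ y, y ∈ centralizer {w, r * w * r⁻¹} ↔ Commute w y ∧ Commute (r * w * r⁻¹) y :=
    fun y => by simp [mem_centralizer_iff, Commute, SemiconjBy]
  refine h.max (centralizer {w, r * w * r⁻¹}) ⟨fun x hx => ?_, not_three_dvd_iff.2 fun x hx h3 => ?_⟩
    (fun x hx => (key x).2 ⟨hc x hx, ?_⟩) ((key y).2 ⟨h1, h2⟩)
  · rw [key] at hx ⊢
    refine ⟨?_, hx.1.conj r⟩
    have h3 : Commute (r⁻¹ * w * r) x := by
      rw [(h.inX hG hr hr1 hw).third hr]; exact (hx.1.mul_left hx.2).inv_left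
    simpa [mul_assoc] using h3.conj r
  · by_contra hx1
    exact hw1 (h.eq_one hw (hG.cube x w h3 hx1 ((key x).1 hx).1.symm))
  · simpa [mul_assoc] using (hc _ (h.mem' hr hx)).conj r

theorem Inv.central_of_sylow (h : Inv r H) {p : ℕ} [Fact p.Prime] (S : Sylow p H) {w : H} {k : ℕ}
    (hw : w ^ p ^ k = 1) (hc : ∀ y ∈ S, Commute w y) (y : H) : Commute w y := by
  have : centralizer {w} = ⊤ := by
    rw [← index_eq_one, Nat.eq_one_iff_not_exists_prime_dvd]
    intro l hl hd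
    have := Fact.mk hl
    by_cases e : l = p
    · subst e
      exact S.not_dvd_index (hd.trans (index_dvd_of_le fun y hy =>
        mem_centralizer_singleton_iff.2 (hc y hy).symm))
    · obtain ⟨L⟩ : Nonempty (Sylow l H) := inferInstance
      refine L.not_dvd_index (hd.trans (index_dvd_of_le fun y hy =>
        mem_centralizer_singleton_iff.2 (Subtype.ext ?_)))
      obtain ⟨n, hn⟩ := L.2 ⟨y, hy⟩
      exact h.comm_of_coprime hG hr hr1 y.2 w.2 (m := l ^ n) (n := p ^ k)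
        (congrArg (fun t : L => ((t : H) : G)) hn) (congrArg Subtype.val hw)
        (Nat.coprime_pow_primes _ _ hl Fact.out e)
  have h1 : y ∈ centralizer {w} := this ▸ mem_top y
  exact (mem_centralizer_singleton_iff.1 h1).symm

theorem Inv.exists_central (h : Inv r H) {p : ℕ} [Fact p.Prime] (hp : p ∣ Nat.card H) :
    ∃ w ∈ H, w ≠ 1 ∧ w ^ p = 1 ∧ ∀ y ∈ H, Commute w y := by
  obtain ⟨S⟩ : Nonempty (Sylow p H) := inferInstance
  obtain ⟨w, -, h1, h2, h3⟩ := K3.exists_central S.2 (S.ne_bot_of_dvd_card hp)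
  exact ⟨w, w.2, fun e => h1 (Subtype.ext e), congrArg Subtype.val h2, fun y hy =>
    congrArg Subtype.val (h.central_of_sylow hG hr hr1 S (k := 1) (by simpa using h2) h3 ⟨y, hy⟩)⟩

end

end Cfsg.Agent.H4.K3
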