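import Cfsg.Agent.H4.K3d

/-! Maximal `r`-invariant `3'`-subgroups: Sylow subgroups and `2`-subgroups. -/

set_option autoImplicit false
set_option linter.unusedSectionVars false

namespace Cfsg.Agent.H4.K3

open Subgroup

variable {G : Type*} [Group G]

theorem mem_normalizer_of [Finite G] {H : Subgroup G} {g : G} (h : ∀ x ∈ H, g * x * g⁻¹ ∈ H) :
    g ∈ normalizer (H : Set G) := mem_normalizer_fintype h

theorem mem_of_pow_mem {H : Subgroup G} {g : G} {m n : ℕ} (h1 : g ^ m ∈ H) (h2 : g ^ n = 1)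
    (hc : m.Coprime n) : g ∈ H := by
  have : g = (g ^ m) ^ Nat.gcdA m n * (g ^ n) ^ Nat.gcdB m n := by
    rw [← zpow_natCast, ← zpow_natCast, ← zpow_mul, ← zpow_mul, ← zpow_add,
      ← Nat.gcd_eq_gcd_ab, hc]; simp
  rw [this, h2, one_zpow, mul_one]
  exact zpow_mem h1 _

theorem mul_mem_of_card_le [Finite G] {A L : Subgroup G} (hle : A ≤ L)
    (h : Nat.card L ≤ 2 * Nat.card A) {x y : G} (hx : x ∈ L) (hy : y ∈ L) (hx' : x ∉ A)
    (hy' : y ∉ A) : x * y ∈ A := by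
  have h1 := (A.subgroupOf L).index_mul_card
  rw [Nat.card_congr (subgroupOfEquivOfLe hle).toEquiv] at h1
  have h2 : (A.subgroupOf L).index ≠ 0 := index_ne_zero_of_finite
  have h3 : (A.subgroupOf L).index ≠ 1 := fun e => hx' (subgroupOf_eq_top.1 (index_eq_one.1 e) hx)
  have h4 : (A.subgroupOf L).index ≤ 2 :=
    Nat.le_of_mul_le_mul_right (h1 ▸ h) (Nat.card_pos (α := A))
  exact (mul_mem_iff_of_index_two (H := A.subgroupOf L) (by omega) (a := ⟨x, hx⟩)
    (b := ⟨y, hy⟩)).2 (iff_of_false hx' hy')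

theorem conj_mem_of_card_le [Finite G] {A L : Subgroup G} (hle : A ≤ L)
    (h : Nat.card L ≤ 2 * Nat.card A) {w a : G} (hw : w ∈ L) (ha : a ∈ A) : w * a * w⁻¹ ∈ A := by
  by_cases hw' : w ∈ A
  · exact mul_mem (mul_mem hw' ha) (inv_mem hw')
  · exact mul_mem_of_card_le hle h (mul_mem hw (hle ha)) (inv_mem hw)
      (fun e => hw' ((mul_mem_cancel_right ha).1 e)) (by simpa using hw')

section
variable [Finite G] (hG : CC G) {r : G} (hr : r ^ 3 = 1) (hr1 : r ≠ 1) {H : Subgroup G}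
include hG hr hr1

theorem MaxInv.index_dvd (h : MaxInv r H) : (H.subgroupOf (normalizer (H : Set G))).index ∣ 6 := by
  have h1 := (H.subgroupOf (normalizer (H : Set G))).index_mul_card
  rw [Nat.card_congr (subgroupOfEquivOfLe le_normalizer).toEquiv] at h1
  rcases h.card_normalizer hG hr hr1 with e | e <;>
    rw [Nat.eq_of_mul_eq_mul_right (Nat.card_pos (α := H)) (h1.trans e)]
  norm_num

theorem MaxInv.pow_six (h : MaxInv r H) {g : G} (hg : g ∈ normalizer (H : Set G)) : g ^ 6 ∈ H := by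
  obtain ⟨k, hk⟩ := h.index_dvd hG hr hr1
  have := (H.subgroupOf (normalizer (H : Set G))).pow_index_mem ⟨g, hg⟩
  rw [hk, pow_mul]
  exact pow_mem this k

theorem MaxInv.exists_sylow_le (h : MaxInv r H) {q : ℕ} [hq : Fact q.Prime] (h2 : q ≠ 2)
    (h3 : q ≠ 3) (hd : q ∣ Nat.card H) : ∃ Q : Sylow q G, (Q : Subgroup G) ≤ H := by
  obtain ⟨S⟩ : Nonempty (Sylow q H) := inferInstance
  obtain ⟨Q, hQ⟩ := (S.2.map H.subtype).exists_le_sylow
  by_cases e : (S : Subgroup H).map H.subtype = Q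
  · exact ⟨Q, e ▸ map_subtype_le _⟩
  exfalso
  obtain ⟨g, hg, hg1, hg2⟩ := exists_mem_normalizer Q.2 hQ e
  obtain ⟨w, hw, hw1, hwq, hwc⟩ := h.exists_central hG hr hr1 hd
  have key : ∀ v ∈ H, v ^ q = 1 → (∀ y ∈ H, Commute v y) → ∀ y ∈ H, Commute v (g * y * g⁻¹) := by
    intro v hv hvq hvc y hy
    have h1 : (⟨v, hv⟩ : H) ∈ (S : Subgroup H) := by
      have hp : IsPGroup q (zpowers (⟨v, hv⟩ : H)) := by
        rintro ⟨_, k, rfl⟩
        refine ⟨1, Subtype.ext (Subtype.ext ?_)⟩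
        change (v ^ k) ^ q ^ 1 = 1
        rw [pow_one, ← zpow_natCast, ← zpow_mul, mul_comm, zpow_mul, zpow_natCast, hvq, one_zpow]
      have h4 : (⟨v, hv⟩ : H) ∈ zpowers (⟨v, hv⟩ : H) ⊓ normalizer (S : Set H) :=
        ⟨Subgroup.mem_zpowers _, centralizer_le_normalizer _ fun y _ => Subtype.ext (hvc y y.2).symm⟩
      rw [hp.inf_normalizer_sylow] at h4
      exact h4.2
    obtain ⟨u, hu, e1⟩ := (mem_normalizer_iff''.1 hg2 v).1 ⟨_, h1, rfl⟩
    have e2 : (u : G) = g⁻¹ * v * g := e1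
    have h5 := h.central_of_sylow hG hr hr1 S (w := u) (k := 1) (Subtype.ext (by
      have := conj_pow (a := g⁻¹) (b := v) (i := q)
      rw [inv_inv, hvq] at this
      simpa [e2] using this)) (fun t ht => Subtype.ext (by
        obtain ⟨t', -, e3⟩ := (mem_normalizer_iff.1 hg2 t).1 ⟨_, ht, rfl⟩
        have e4 : (t' : G) = g * t * g⁻¹ := e3
        have := (hvc t' t'.2).conj g⁻¹
        simpa [e2, e4, mul_assoc] using this.eq)) ⟨y, hy⟩
    have h6 : Commute (u : G) y := congrArg Subtype.val h5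
    simpa [e2, mul_assoc] using h6.conj g
  have h4 : g ∈ normalizer (H : Set G) := mem_normalizer_of fun y hy =>
    h.mem_of_comm hG hr hr1 hw hw1 hwc (key w hw hwq hwc y hy) (key _ (h.mem w hw)
      (by rw [conj_pow, hwq]; simp) (fun y hy => by
        simpa [mul_assoc] using (hwc _ (h.mem' hr hy)).conj r) y hy)
  obtain ⟨n, hn⟩ := Q.2 ⟨g, hg⟩
  have h5 : g ∈ H := mem_of_pow_mem (h.pow_six hG hr hr1 h4) (n := q ^ n) (congrArg Subtype.val hn)
    (Nat.Coprime.pow_right _ (Nat.Coprime.mul_left (m := 2) (n := 3)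
      ((Nat.coprime_primes Nat.prime_two hq.out).2 h2.symm)
      ((Nat.coprime_primes Nat.prime_three hq.out).2 h3.symm)))
  have h6 := S.3 (Q := (Q : Subgroup G).subgroupOf H) (Q.2.comap_subtype)
    (map_le_iff_le_comap.1 hQ)
  have h7 : (⟨g, h5⟩ : H) ∈ (Q : Subgroup G).subgroupOf H := hg
  rw [h6] at h7
  exact hg1 ⟨_, h7, rfl⟩

theorem MaxInv.three_dvd (h : MaxInv r H) {w : G} (hw : w ∈ normalizer (H : Set G)) (hw' : w ∉ H)
    {L : Subgroup G} (hL : ¬ 3 ∣ Nat.card L) (hHL : H ≤ L) (hwL : w ∈ L) :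
    3 ∣ orderOf (r * w * r⁻¹ * w⁻¹) := by
  have : Fact (Nat.Prime 3) := ⟨Nat.prime_three⟩
  by_contra hc
  set M := normalizer (H : Set G) with hM
  have hrM : r ∈ M := h.mem_normalizer hr
  let π := QuotientGroup.mk' (H.subgroupOf M)
  have h1 : π ⟨r, hrM⟩ ^ 3 = 1 := by
    rw [← map_pow, show (⟨r, hrM⟩ : M) ^ 3 = 1 from Subtype.ext hr, map_one]
  have h2 : π ⟨r, hrM⟩ ≠ 1 := fun e => hr1 (h.eq_one
    ((QuotientGroup.eq_one_iff (N := H.subgroupOf M) ⟨r, hrM⟩).1 e) hr)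
  have h3 := conj_mem_of_card_le (le_top (a := zpowers (π ⟨r, hrM⟩))) (by
    rw [Nat.card_zpowers, orderOf_eq_prime h1 h2, card_top, ← index_eq_card]
    exact Nat.le_of_dvd (by norm_num) (h.index_dvd hG hr hr1)) (mem_top (π ⟨w, hw⟩))
    (inv_mem (Subgroup.mem_zpowers _))
  have h4 : (π ⟨r, hrM⟩ * (π ⟨w, hw⟩ * (π ⟨r, hrM⟩)⁻¹ * (π ⟨w, hw⟩)⁻¹)) ^ 3 = 1 := by
    rcases mem_zpowers_three h1 (mul_mem (Subgroup.mem_zpowers _) h3) with e | e | e <;> rw [e] <;> simp [h1]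
  rw [← map_inv, ← map_inv, ← map_mul, ← map_mul, ← map_mul, ← map_pow] at h4
  have h5 : (r * w * r⁻¹ * w⁻¹) ^ 3 ∈ H := by
    simpa [mul_assoc, mem_subgroupOf] using (QuotientGroup.eq_one_iff _).1 h4
  have h6 := mem_of_pow_mem h5 (pow_orderOf_eq_one _)
    ((Nat.Prime.coprime_iff_not_dvd Nat.prime_three).2 hc)
  refine hw' (h.max (H ⊔ zpowers w) ⟨fun x hx => ?_, fun e => hL (e.trans (card_dvd_of_le
    (sup_le hHL (zpowers_le.2 hwL))))⟩ le_sup_left (mem_sup_right (Subgroup.mem_zpowers w)))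
  have : H ⊔ zpowers w ≤ K3.cj r⁻¹ (H ⊔ zpowers w) := sup_le
    (fun y hy => mem_cj.2 (by simpa using mem_sup_left (h.mem y hy)))
    (zpowers_le.2 (mem_cj.2 (by simpa using mul_mem (mem_sup_left h6) (mem_sup_right (Subgroup.mem_zpowers w)))))
  simpa using mem_cj.1 (this hx)

theorem MaxInv.pair (h : MaxInv r H) {s : G} (hs : s ^ 3 = 1) (hs1 : s ≠ 1) {K L : Subgroup G}
    (hK : MaxInv s K) (hL : ¬ 3 ∣ Nat.card L) (hHL : H ≤ L) (hKL : K ≤ L)
    (c1 : Nat.card L ≤ 2 * Nat.card H) (c2 : Nat.card L ≤ 2 * Nat.card K) (hne : H ≠ K) :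
    Nat.card H = 4 := by
  have m1 := h.card_mod hG hr hr1
  have m2 := hK.card_mod hG hs hs1
  have hcard : Nat.card H = Nat.card K := by
    obtain ⟨i, hi⟩ := card_dvd_of_le hHL
    obtain ⟨j, hj⟩ := card_dvd_of_le hKL
    have p0 : 0 < Nat.card L := Nat.card_pos
    have p1 : 0 < Nat.card H := Nat.card_pos
    have p2 : 0 < Nat.card K := Nat.card_pos
    have : i ≤ 2 := by nlinarith
    have : j ≤ 2 := by nlinarith
    interval_cases i <;> interval_cases j <;> omega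
  obtain ⟨w, hwK, hwc, hwH⟩ : ∃ w ∈ K, (∀ y ∈ K, Commute w y) ∧ w ∉ H := by
    by_contra hc
    push Not at hc
    have key : ∀ w ∈ K, (∀ y ∈ K, Commute w y) → ∀ x ∈ H, Commute w x := by
      intro w hw hwc x hx
      by_contra hn
      have a1 : ¬ Commute w (r * x * r⁻¹) := fun e => hn (by
        simpa [mul_assoc] using h.comm_conj' hG hr hr1 (hc w hw hwc) (h.mem x hx) e)
      have a2 : ¬ Commute w (r⁻¹ * x * r) := fun e => hn (by
        simpa [mul_assoc] using h.comm_conj hG hr hr1 (hc w hw hwc) (h.mem' hr hx) e)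
      refine a2 ?_
      rw [(h.inX hG hr hr1 hx).third hr]
      exact (hwc _ (mul_mem_of_card_le hKL c2 (hHL hx) (hHL (h.mem x hx)) (fun e => hn (hwc _ e))
        fun e => a1 (hwc _ e))).inv_right
    obtain ⟨p, hp, hpd⟩ := Nat.exists_prime_and_dvd (n := Nat.card K) (by simpa using hK.ne)
    have := Fact.mk hp
    obtain ⟨w, hw, hw1, -, hwc⟩ := hK.exists_central hG hs hs1 hpd
    exact hne (eq_of_le_of_card_ge (fun x hx => hK.mem_of_comm hG hs hs1 hw hw1 hwc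
      (key w hw hwc x hx) (key _ (hK.mem w hw) (fun y hy => by
        simpa [mul_assoc] using (hwc _ (hK.mem' hs hy)).conj s) x hx)) hcard.ge)
  have h3 := h.three_dvd hG hr hr1 (mem_normalizer_of fun x hx =>
    conj_mem_of_card_le hHL c1 (hKL hwK) hx) hwH hL hHL (hKL hwK)
  have h4 := hG.cube_of_dvd h3
  have h5 : r * w * r⁻¹ * w⁻¹ ≠ 1 := by intro e; rw [e, orderOf_one] at h3; omega
  have h6 : (K ⊓ K3.cj r K).subgroupOf H = ⊥ := by
    rw [eq_bot_iff_forall]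
    intro x hx
    have a1 := hwc x hx.1
    have a2 := (hwc _ (mem_cj.1 hx.2)).conj r
    refine Subtype.ext (h.eq_one x.2 (hG.cube _ _ h4 h5 (Commute.mul_left ?_ a1.inv_left)))
    simpa [mul_assoc] using a2
  have h7 : Nat.card H ≤ K.relIndex H * (K3.cj r K).relIndex H := by
    rw [← index_bot, ← h6]; exact relIndex_inf_le
  have h8 : K.relIndex H ≤ 2 := by
    refine (relIndex_le_of_le_right hHL index_ne_zero_of_finite).trans ?_
    have h1 := (K.subgroupOf L).index_mul_card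
    rw [Nat.card_congr (subgroupOfEquivOfLe hKL).toEquiv] at h1
    exact Nat.le_of_mul_le_mul_right (h1 ▸ c2) (Nat.card_pos (α := K))
  have h9 : (K3.cj r K).relIndex H = K.relIndex H := by
    conv_lhs => rw [← cj_eq_iff.2 (h.mem_normalizer hr)]
    exact relIndex_map_map_of_injective _ _ (MulAut.conj r).injective
  have h10 : Nat.card H ≠ 1 := by simpa using h.ne
  rw [h9] at h7
  have : Nat.card H ≤ 4 := h7.trans (Nat.mul_le_mul h8 h8)
  omega

theorem MaxInv.big (h : MaxInv r H) (h4 : Nat.card H ≠ 4) {T : Subgroup G} (hT : IsPGroup 2 T)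
    (hle : H ≤ T) : Nat.card T ≤ 2 * Nat.card H ∧ T ≤ normalizer (H : Set G) := by
  have hL : IsPGroup 2 (T ⊓ normalizer (H : Set G) : Subgroup G) := hT.to_inf_left
  obtain ⟨n, hn⟩ := IsPGroup.iff_card.1 hL
  obtain ⟨m, hm⟩ := IsPGroup.iff_card.1 (hT.to_le hle)
  have c1 : Nat.card (T ⊓ normalizer (H : Set G) : Subgroup G) ≤ 2 * Nat.card H := by
    have h1 := card_dvd_of_le (inf_le_right : T ⊓ normalizer (H : Set G) ≤ _)
    have h2 : 2 ^ n ∣ 3 * (2 * Nat.card H) := by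
      rw [← hn]
      rcases h.card_normalizer hG hr hr1 with e | e <;> rw [e] at h1
      · exact h1.trans ⟨2, by ring⟩
      · exact h1.trans ⟨1, by ring⟩
    rw [hn]
    exact Nat.le_of_dvd (by have := Nat.card_pos (α := H); omega)
      ((Nat.Coprime.pow_left n (by norm_num)).dvd_of_dvd_mul_left h2)
  by_cases e : T ⊓ normalizer (H : Set G) = T
  · exact ⟨by rwa [e] at c1, inf_eq_left.1 e⟩
  obtain ⟨t, ht, ht1, ht2⟩ := exists_mem_normalizer hT inf_le_left e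
  have hHL : H ≤ T ⊓ normalizer (H : Set G) := le_inf hle le_normalizer
  refine absurd (h.pair hG hr hr1 (by rw [conj_pow, hr]; simp) (by simpa using hr1) (h.cj t)
    (by rw [hn]; exact fun e => by simpa using Nat.prime_three.dvd_of_dvd_pow e) hHL
    (cj_eq_iff.2 ht2 ▸ cj_mono t hHL) c1 (by rwa [card_cj]) fun e => ht1 ⟨ht, cj_eq_iff.1 e.symm⟩) h4

theorem MaxInv.card_le_sq (h : MaxInv r H) {s : G} (hs : Commute r s) (hs' : s ∉ zpowers r) :
    Nat.card H ≤ (normalizer (H : Set G)).index ^ 2 := by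
  have s3 := hG.cube r s hr hr1 hs
  have e1 : s * r * s⁻¹ = r := by rw [← hs.eq]; simp
  have e2 : s⁻¹ * r * s⁻¹⁻¹ = r := by rw [← hs.inv_right.eq]; simp
  have h1 : MaxInv r (K3.cj s H) := by simpa only [e1] using h.cj s
  have h2 : MaxInv r (K3.cj s⁻¹ H) := by simpa only [e2] using h.cj s⁻¹
  have inf : ∀ {A B : Subgroup G}, Inv r A → (∀ x ∈ B, r * x * r⁻¹ ∈ B) → Inv r (A ⊓ B) :=
    fun hA hB => ⟨fun x hx => ⟨hA.mem x hx.1, hB x hx.2⟩, fun e => hA.t3 (e.trans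
      (card_dvd_of_le inf_le_left))⟩
  have nm : ∀ {A : Subgroup G}, Inv r A → ∀ x ∈ normalizer (A : Set G),
      r * x * r⁻¹ ∈ normalizer (A : Set G) := fun hA x hx =>
    mul_mem (mul_mem (hA.mem_normalizer hr) hx) (inv_mem (hA.mem_normalizer hr))
  have i1 := inf (inf h.toInv h1.mem) h2.mem
  have e : s * s = s⁻¹ := by rw [eq_inv_iff_mul_eq_one, ← s3, pow_succ, pow_two]
  have h3 : H ⊓ K3.cj s H ⊓ K3.cj s⁻¹ H = ⊥ := i1.eq_bot hG hr hr1 hs hs' ⟨fun x hx => by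
    refine ⟨⟨by simpa using mem_cj.1 hx.2, mem_cj.2 (by simpa [mul_assoc] using hx.1.1)⟩, mem_cj.2 ?_⟩
    rw [show s⁻¹⁻¹ * (s * x * s⁻¹) * s⁻¹ = (s * s) * x * (s * s)⁻¹ by group, e, inv_inv]
    exact mem_cj.1 hx.1.2, i1.t3⟩
  have h4 : (normalizer (K3.cj s H : Set G) ⊓ normalizer (K3.cj s⁻¹ H : Set G)).subgroupOf H = ⊥ := by
    rw [eq_bot_iff_forall]
    intro x hx
    have : (x : G) ∈ H ⊓ K3.cj s H ⊓ K3.cj s⁻¹ H :=
      ⟨⟨x.2, h1.le_of_le_normalizer hG hr hr1 (inf h.toInv (nm h1.toInv)) inf_le_right ⟨x.2, hx.1⟩⟩,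
        h2.le_of_le_normalizer hG hr hr1 (inf h.toInv (nm h2.toInv)) inf_le_right ⟨x.2, hx.2⟩⟩
    rw [h3] at this
    exact Subtype.ext this
  have h5 : ∀ g, (normalizer (K3.cj g H : Set G)).relIndex H ≤ (normalizer (H : Set G)).index := by
    intro g
    rw [← index_map_of_bijective (H := normalizer (H : Set G)) (f := (MulAut.conj g).toMonoidHom)
      (MulAut.conj g).bijective, normalizer_cj, ← relIndex_top_right]
    exact relIndex_le_of_le_right le_top index_ne_zero_of_finite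
  rw [← index_bot, ← h4, pow_two]
  exact relIndex_inf_le.trans (Nat.mul_le_mul (h5 _) (h5 _))

end

end Cfsg.Agent.H4.K3
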