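import Cfsg.Agent.H4.K3e

/-! Counting the elements of the `r`-invariant `3'`-subgroups. -/

set_option autoImplicit false
set_option linter.unusedSectionVars false

namespace Cfsg.Agent.H4.K3

open Subgroup

variable {G : Type*} [Group G]

theorem eq_one_of_conj {g x : G} (h : g⁻¹ * x * g = 1) : x = 1 := by
  rw [← mul_left_inj g, ← mul_right_inj g⁻¹, ← mul_assoc, h]; simp

theorem exists_transversal [Finite G] (K L : Subgroup G) :
    ∃ F : Set G, F.ncard ≤ K.relIndex L ∧ ∀ g ∈ L, ∃ t ∈ F, t⁻¹ * g ∈ K := by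
  refine ⟨(fun c : L ⧸ K.subgroupOf L => (c.out : G)) '' Set.univ, ?_, fun g hg => ?_⟩
  · exact (Set.ncard_image_le).trans (by rw [Set.ncard_univ]; rfl)
  · refine ⟨_, ⟨(QuotientGroup.mk ⟨g, hg⟩ : L ⧸ K.subgroupOf L), trivial, rfl⟩, ?_⟩
    exact (QuotientGroup.eq (s := K.subgroupOf L)).1 (QuotientGroup.out_eq'
      (QuotientGroup.mk ⟨g, hg⟩ : L ⧸ K.subgroupOf L))

theorem ncard_le_of_fibers {α β : Type*} [Finite α] [Finite β] {s : Set α} {t : Set β} (f : α → β)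
    (hf : ∀ a ∈ s, f a ∈ t) (n : ℕ) (hn : ∀ b, {a ∈ s | f a = b}.ncard ≤ n) :
    s.ncard ≤ n * t.ncard := by
  classical
  rw [Set.ncard_eq_toFinset_card s, Set.ncard_eq_toFinset_card t]
  refine Finset.card_le_mul_card_image_of_maps_to (f := f) (by simpa using hf) n fun b _ => ?_
  refine le_of_eq_of_le ?_ (hn b)
  rw [← Set.ncard_coe_finset]
  congr 1
  ext a; simp

theorem card_dvd_factorial [Finite G] [IsSimpleGroup G] {H : Subgroup G} (h : H ≠ ⊤) :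
    Nat.card G ∣ H.index.factorial := by
  have h1 : H.normalCore = ⊥ := (Normal.eq_bot_or_eq_top inferInstance).resolve_right fun e =>
    h (top_le_iff.1 (e ▸ H.normalCore_le))
  rw [← index_bot, ← h1, normalCore_eq_ker, index_ker, index_eq_card, ← Nat.card_perm]
  exact card_subgroup_dvd_card (MulAction.toPermHom G (G ⧸ H)).range

section
variable [Finite G] (hG : CC G) {r : G} (hr : r ^ 3 = 1) (hr1 : r ≠ 1) (h9 : cc r = 9)
include hG hr hr1 h9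

theorem exists_six : ∃ F : Set G, F.ncard ≤ 6 ∧
    ∀ g, g * r * g⁻¹ = r ∨ g * r * g⁻¹ = r⁻¹ → ∃ t ∈ F, t⁻¹ * g ∈ zpowers r := by
  have : Fact (Nat.Prime 3) := ⟨Nat.prime_three⟩
  obtain ⟨F, h1, h2⟩ := exists_transversal (zpowers r) (centralizer {r})
  have h3 := ((zpowers r).subgroupOf (centralizer {r})).index_mul_card
  rw [Nat.card_congr (subgroupOfEquivOfLe (by simp [mem_centralizer_singleton_iff])).toEquiv,
    Nat.card_zpowers, orderOf_eq_prime hr hr1, show Nat.card (centralizer {r}) = 9 from h9] at h3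
  have h4 : F.ncard ≤ 3 := by rw [relIndex] at h1; omega
  have h5 : ∀ g, g * r * g⁻¹ = r → ∃ t ∈ F, t⁻¹ * g ∈ zpowers r := fun g hg =>
    h2 g (mem_centralizer_singleton_iff.2 (mul_inv_eq_iff_eq_mul.1 hg))
  by_cases hu : ∃ u, u * r * u⁻¹ = r⁻¹
  · obtain ⟨u, hu⟩ := hu
    refine ⟨F ∪ (u * ·) '' F, (Set.ncard_union_le _ _).trans ?_, fun g hg => ?_⟩
    · have := Set.ncard_image_le (s := F) (f := (u * ·))
      omega
    · rcases hg with hg | hg
      · obtain ⟨t, ht, e⟩ := h5 g hg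
        exact ⟨t, Or.inl ht, e⟩
      · obtain ⟨t, ht, e⟩ := h5 (u⁻¹ * g) (by
          rw [show u⁻¹ * g * r * (u⁻¹ * g)⁻¹ = u⁻¹ * (g * r * g⁻¹) * u by group, hg, ← hu]; group)
        exact ⟨u * t, Or.inr ⟨t, ht, rfl⟩, by simpa [mul_assoc] using e⟩
  · exact ⟨F, by omega, fun g hg => h5 g (hg.resolve_right fun e => hu ⟨g, e⟩)⟩

theorem MaxInv.ncard_le {H : Subgroup G} (h : MaxInv r H) :
    {y | y ≠ 1 ∧ ∃ g, Inv r (K3.cj g H) ∧ y ∈ K3.cj g H}.ncard ≤ 6 * (Nat.card H - 1) := by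
  have : Fact (Nat.Prime 3) := ⟨Nat.prime_three⟩
  obtain ⟨F, h1, h2⟩ := exists_six hG hr hr1 h9
  have h3 : (F ×ˢ ((H : Set G) \ {1})).ncard ≤ 6 * (Nat.card H - 1) := by
    rw [Set.ncard_prod, Set.ncard_sdiff_singleton_of_mem H.one_mem]
    exact Nat.mul_le_mul h1 le_rfl
  refine le_trans (Set.ncard_le_ncard ?_) ((Set.ncard_image_le
    (f := fun p : G × G => p.1 * p.2 * p.1⁻¹)).trans h3)
  rintro y ⟨hy1, g, hg, hy⟩
  set M := normalizer (H : Set G) with hM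
  have hrM : r ∈ M := h.mem_normalizer hr
  have a1 : g⁻¹ * r * g ∈ M := by
    have := hg.mem_normalizer hr
    rwa [normalizer_cj, mem_cj] at this
  have a2 := isConj_of_cube (G := M) (r := ⟨r, hrM⟩) (by rw [orderOf_mk, orderOf_eq_prime hr hr1])
    (fun y hy => by
      obtain ⟨k, hk⟩ := h.mem_zpowers hG hr hr1 (congrArg Subtype.val hy) y.2
      exact ⟨k, Subtype.ext hk⟩) (g := ⟨_, a1⟩) (Subtype.ext (by
        simpa [hr] using conj_pow (a := g⁻¹) (b := r) (i := 3)))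
      (fun e => hr1 (eq_one_of_conj (congrArg Subtype.val e)))
  obtain ⟨n, hn, e⟩ : ∃ n ∈ M, g * n * r * (g * n)⁻¹ = r ∨ g * n * r * (g * n)⁻¹ = r⁻¹ := by
    rcases a2 with a2 | a2 <;> obtain ⟨n, hn⟩ := isConj_iff.1 a2
    · have hn' : (n : G) * r * (n : G)⁻¹ = g⁻¹ * r * g := congrArg Subtype.val hn
      exact ⟨n, n.2, Or.inl (by
        rw [show g * n * r * (g * n)⁻¹ = g * ((n : G) * r * (n : G)⁻¹) * g⁻¹ by group, hn']; group)⟩
    · have hn' : (n : G) * r⁻¹ * (n : G)⁻¹ = g⁻¹ * r * g := congrArg Subtype.val hn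
      exact ⟨n, n.2, Or.inr (by
        rw [show g * n * r * (g * n)⁻¹ = g * ((n : G) * r⁻¹ * (n : G)⁻¹)⁻¹ * g⁻¹ by group, hn']
        group)⟩
  obtain ⟨t, ht, e⟩ := h2 _ e
  have a3 : t⁻¹ * g ∈ M := by
    simpa [mul_assoc] using mul_mem (zpowers_le.2 hrM e) (inv_mem hn)
  refine ⟨(t, t⁻¹ * y * t), ⟨ht, ?_, fun e => hy1 (eq_one_of_conj e)⟩,
    by simp [mul_assoc]⟩
  simpa [mul_assoc] using (mem_normalizer_iff.1 a3 _).1 (mem_cj.1 hy)

omit h9 in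
theorem Inv.four {H : Subgroup G} (h : Inv r H) (h4 : Nat.card H = 4) {y z : G} (hy : y ∈ H)
    (hy1 : y ≠ 1) (hz : z ∈ H) (hz1 : z ≠ 1) : IsConj y z := by
  have a1 : r * y * r⁻¹ ≠ y := fun e => hy1 (h.fpf hG hr hr1 hy (mul_inv_eq_iff_eq_mul.1 e))
  have a2 : r⁻¹ * y * r ≠ y := fun e => a1 (by nth_rw 1 [← e]; group)
  have a3 : r * y * r⁻¹ ≠ r⁻¹ * y * r := fun e => a2 (by
    have e' : r * r = r⁻¹ := by rw [eq_inv_iff_mul_eq_one, ← hr, pow_succ, pow_two]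
    conv_lhs => rw [← inv_inv r, ← e']
    rw [show (r * r)⁻¹⁻¹ * y * (r * r)⁻¹ = r * (r * y * r⁻¹) * r⁻¹ by
      simp [mul_assoc], e]; group)
  have a4 : r⁻¹ * y * r ≠ 1 := fun e => hy1 (eq_one_of_conj e)
  have e : ({1, y, r * y * r⁻¹, r⁻¹ * y * r} : Set G) = H := by
    refine Set.eq_of_subset_of_ncard_le ?_ ?_
    · rintro _ (rfl | rfl | rfl | rfl)
      exacts [H.one_mem, hy, h.mem _ hy, h.mem' hr hy]
    · rw [Set.ncard_insert_of_notMem (by simp [hy1, a4, eq_comm (a := (1 : G))]),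
        Set.ncard_insert_of_notMem (by simp [a1.symm, a2.symm]), Set.ncard_pair a3]
      exact h4.le
  have : z ∈ ({1, y, r * y * r⁻¹, r⁻¹ * y * r} : Set G) := e ▸ hz
  rcases this with rfl | rfl | rfl | rfl
  · exact absurd rfl hz1
  · exact IsConj.refl _
  · exact isConj_iff.2 ⟨r, rfl⟩
  · exact isConj_iff.2 ⟨r⁻¹, by simp⟩

omit hG hr hr1 h9 in
theorem comm_of_four {H : Subgroup G} (h4 : Nat.card H = 4) {y z : G} (hy : y ∈ H) (hz : z ∈ H) :
    Commute y z :=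
  congrArg Subtype.val ((IsPGroup.isMulCommutative_of_card_eq_prime_sq (p := 2) h4).is_comm.comm
    ⟨y, hy⟩ ⟨z, hz⟩)

theorem ncard_four : {y | y ≠ 1 ∧ ∃ H, MaxInv r H ∧ Nat.card H = 4 ∧ y ∈ H}.ncard ≤ 36 := by
  set Y := {y | y ≠ 1 ∧ ∃ H, MaxInv r H ∧ Nat.card H = 4 ∧ y ∈ H} with hY
  rcases Y.eq_empty_or_nonempty with e | ⟨y0, hy0, H0, h0, c0, m0⟩
  · simp [e]
  have hconj : ∀ y ∈ Y, ∃ g, g * y0 * g⁻¹ = y := by
    rintro y ⟨hy, H, h, c, m⟩
    obtain ⟨T0, hT0⟩ := (IsPGroup.of_card (p := 2) (n := 2) c0).exists_le_sylow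
    obtain ⟨T, hT⟩ := (IsPGroup.of_card (p := 2) (n := 2) c).exists_le_sylow
    obtain ⟨z, hz, hz1, -, hzc⟩ := exists_central T.2 fun e => h.ne (le_bot_iff.1 (e ▸ hT))
    obtain ⟨g, rfl⟩ := MulAction.exists_smul_eq G T0 T
    have b1 : ∀ x ∈ (T0 : Subgroup G), Commute (g⁻¹ * z * g) x := fun x hx => by
      simpa [mul_assoc] using (hzc (g * x * g⁻¹) (smul_mem_pointwise_smul x (MulAut.conj g) _ hx)).conj g⁻¹
    have b2 := h.mem_of_comm hG hr hr1 m hy (fun _ => comm_of_four c m) (hzc _ (hT m)).symm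
      (hzc _ (hT (h.mem _ m))).symm
    have b3 := h0.mem_of_comm hG hr hr1 m0 hy0 (fun _ => comm_of_four c0 m0) (b1 _ (hT0 m0)).symm
      (b1 _ (hT0 (h0.mem _ m0))).symm
    exact isConj_iff.1 ((h0.four hG hr hr1 c0 m0 hy0 b3 fun e =>
      hz1 (eq_one_of_conj e)).trans
      ((isConj_iff.2 ⟨g, by group⟩).trans (h.four hG hr hr1 c b2 hz1 m hy)))
  choose! γ hγ using hconj
  set C := SetLike.coe (centralizer ({y0} : Set G)) with hC
  have mC : ∀ x, x ∈ C ↔ x * y0 = y0 * x := fun x => mem_centralizer_singleton_iff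
  have c1 : (Y ×ˢ C).ncard ≤ {g | g * y0 * g⁻¹ ∈ Y}.ncard := by
    have key : ∀ p ∈ Y ×ˢ C, γ p.1 * p.2 * y0 * (γ p.1 * p.2)⁻¹ = p.1 := fun p hp => by
      rw [mul_assoc (γ p.1), (mC _).1 hp.2]
      simpa [mul_assoc] using hγ _ hp.1
    refine Set.ncard_le_ncard_of_injOn (fun p => γ p.1 * p.2) (fun p hp => ?_) fun p hp p' hp' e => ?_
    · change γ p.1 * p.2 * y0 * (γ p.1 * p.2)⁻¹ ∈ Y
      rw [key p hp]; exact hp.1
    · have e1 : p.1 = p'.1 := by rw [← key p hp, ← key p' hp', show γ p.1 * p.2 = _ from e]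
      have e2 : γ p.1 * p.2 = γ p'.1 * p'.2 := e
      exact Prod.ext e1 (mul_left_cancel (e1 ▸ e2 :))
  have a0 : ∀ g, g * y0 * g⁻¹ ∈ Y → ∃ H, MaxInv (g⁻¹ * r * g) H ∧ Nat.card H = 4 ∧ y0 ∈ H := by
    rintro g ⟨-, H, h, c, m⟩
    exact ⟨_, by simpa using h.cj g⁻¹, by rwa [card_cj], mem_cj.2 (by simpa using m)⟩
  have a1 : ∀ g, (g⁻¹ * r * g) ^ 3 = 1 := fun g => by
    simpa [hr] using conj_pow (a := g⁻¹) (b := r) (i := 3)
  have a2 : ∀ g, g⁻¹ * r * g ≠ 1 := fun g e => hr1 (eq_one_of_conj e)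
  have c2 : {g | g * y0 * g⁻¹ ∈ Y}.ncard ≤ 36 * C.ncard := by
    refine ncard_le_of_fibers (fun g => g⁻¹ * r * g * y0 * (g⁻¹ * r * g)⁻¹) (fun g hg => ?_) _
      fun v => ?_
    · obtain ⟨H, h, c, m⟩ := a0 g hg
      exact (mC _).2 (comm_of_four c (h.mem _ m) m)
    rcases Set.eq_empty_or_nonempty {a ∈ {g | g * y0 * g⁻¹ ∈ Y} |
      a⁻¹ * r * a * y0 * (a⁻¹ * r * a)⁻¹ = v} with e | ⟨g0, hg0, e0⟩
    · simp only [e]; simp
    obtain ⟨H1, h1, c1, m1⟩ := a0 g0 hg0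
    refine le_of_le_of_eq (ncard_le_of_fibers (t := H1) (fun g => (g0⁻¹ * r * g0)⁻¹ * (g⁻¹ * r * g))
      ?_ 9 fun δ => ?_) (by rw [show (H1 : Set G).ncard = 4 from c1])
    · rintro g ⟨hg, e⟩
      obtain ⟨H, h, c, m⟩ := a0 g hg
      have t0 := (h1.inX hG (a1 g0) (a2 g0) m1).third (a1 g0)
      have t1 := (h.inX hG (a1 g) (a2 g) m).third (a1 g)
      generalize g⁻¹ * r * g = ρ at *
      have s1 := a1 g0
      have s2 := a2 g0
      generalize g0⁻¹ * r * g0 = ρ0 at *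
      have u1 : Commute y0 (ρ0⁻¹ * ρ) := by
        rw [Commute, SemiconjBy, mul_assoc ρ0⁻¹, mul_inv_eq_iff_eq_mul.1 e, ← e0]
        group
      have u2 : Commute (y0 * v)⁻¹ (ρ0⁻¹ * ρ) := by
        rw [e0] at t0
        rw [e] at t1
        rw [Commute, SemiconjBy]
        nth_rw 1 [← t0]
        rw [← t1]; group
      refine h1.mem_of_comm hG s1 s2 m1 hy0 (fun _ => comm_of_four c1 m1) u1 ?_
      rw [e0]
      simpa using u1.inv_left.mul_left u2.inv_left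
    · rcases Set.eq_empty_or_nonempty {a ∈ {a ∈ {g | g * y0 * g⁻¹ ∈ Y} |
        a⁻¹ * r * a * y0 * (a⁻¹ * r * a)⁻¹ = v} | (g0⁻¹ * r * g0)⁻¹ * (a⁻¹ * r * a) = δ} with
        e | ⟨g1, -, e1⟩
      · simp only [e]; simp
      refine le_of_le_of_eq (Set.ncard_le_ncard_of_injOn (t := SetLike.coe (centralizer ({r} : Set G))) (· * g1⁻¹) ?_
        fun a _ b _ e => mul_right_cancel e) h9
      rintro g ⟨-, e⟩
      have := mul_left_cancel (e.trans e1.symm)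
      refine mem_centralizer_singleton_iff.2 ?_
      calc g * g1⁻¹ * r = g * (g1⁻¹ * r * g1) * g1⁻¹ := by group
        _ = _ := by rw [← this]; group
  rw [Set.ncard_prod] at c1
  exact Nat.le_of_mul_le_mul_right (c1.trans c2) ((Set.ncard_pos).2 ⟨1, one_mem _⟩)

theorem cnt_le : cnt r r r⁻¹ ≤ 7 + {y | y ≠ 1 ∧ ∃ H, MaxInv r H ∧ y ∈ H}.ncard := by
  have e : r * r = r⁻¹ := by rw [eq_inv_iff_mul_eq_one, ← hr, pow_succ, pow_two]
  have h1 : (((centralizer {r} : Subgroup G) : Set G) \ {r, r⁻¹}).ncard = 7 := by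
    rw [Set.ncard_sdiff' (by rintro _ (rfl | rfl) <;> simp [mem_centralizer_singleton_iff]),
      Set.ncard_pair (fun e' => hr1 (mul_left_cancel (e.trans (e'.symm.trans (mul_one r).symm)))),
      show ((centralizer {r} : Subgroup G) : Set G).ncard = 9 from h9]
  rw [← h1]
  refine le_trans ?_ (Set.ncard_union_le _ _)
  refine Set.ncard_le_ncard_of_injOn (s := {p | IsConj r p ∧ IsConj r (p⁻¹ * r⁻¹)}) (· * r⁻¹)
    (fun p hp => ?_) fun a _ b _ e => mul_right_cancel e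
  have h2 := inX_of_cnt hr (cube_of_isConj hr hp.1) (cube_of_isConj hr hp.2)
  by_cases hc : Commute r (p * r⁻¹)
  · refine Or.inl ⟨mem_centralizer_singleton_iff.2 hc.symm, ?_⟩
    rintro (e' | e')
    · have : p⁻¹ * r⁻¹ = 1 := by
        rw [mul_inv_eq_iff_eq_mul.1 e', e, inv_inv, mul_inv_cancel]
      have h3 := hp.2
      rw [this, isConj_one_left] at h3
      exact hr1 h3
    · have h3 := hp.1
      rw [mul_eq_right.1 e', isConj_one_left] at h3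
      exact hr1 h3
  · have h3 : p * r⁻¹ ≠ 1 := fun e => hc (e ▸ Commute.one_right r)
    obtain ⟨K, hK, hx⟩ := exists_inv_of_inX hr h2 ((h2.dichotomy hG hr).resolve_left hc)
    obtain ⟨H, h, hle⟩ := exists_maxInv hK fun e => h3 (by rwa [e, mem_bot] at hx)
    exact Or.inr ⟨h3, H, h, hle hx⟩

end

end Cfsg.Agent.H4.K3
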