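import Cfsg.Agent.H4.K3n

/-! The arithmetic contradiction in the case of one class of elements of order three. -/

set_option autoImplicit false

namespace Cfsg.Agent.H4.K3

/-- values `x` on an element of order 3 and degrees `d` of the non-principal characters -/
structure Dat {ι : Type*} (S : Finset ι) (x : ι → ℤ) (d : ι → ℕ) (M : ℕ) : Prop where
  ne : ∀ χ ∈ S, x χ ≠ 0
  dvd : ∀ χ ∈ S, d χ ∣ 9 * M
  sq : ∀ χ ∈ S, d χ ^ 2 < 9 * M
  cong : ∀ χ ∈ S, (9 : ℤ) ∣ d χ - x χ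
  lt : ∀ χ ∈ S, |x χ| < d χ
  fix : ∀ χ ∈ S, 0 ≤ (d χ : ℤ) + 8 * x χ
  s1 : ∑ χ ∈ S, x χ ^ 2 = 8
  s2 : ∑ χ ∈ S, x χ * d χ = -1

variable {ι : Type*} {S : Finset ι} {x : ι → ℤ} {d : ι → ℕ} {M : ℕ}

theorem Dat.cases (h : Dat S x d M) {χ : ι} (hχ : χ ∈ S) :
    x χ = 2 ∨ x χ = 1 ∨ x χ = -2 ∨ x χ = -1 := by
  have h1 := Finset.single_le_sum (f := fun χ => x χ ^ 2) (fun _ _ => sq_nonneg _) hχ
  rw [h.s1] at h1
  have h2 := h.ne χ hχ
  have : x χ < 3 := by nlinarith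
  have : -3 < x χ := by nlinarith
  omega

theorem Dat.dvd' (h : Dat S x d M) {χ : ι} (hχ : χ ∈ S) : d χ ∣ M := by
  refine Nat.Coprime.dvd_of_dvd_mul_left (Nat.Coprime.pow_right 2 (Nat.Coprime.symm
    ((Nat.Prime.coprime_iff_not_dvd Nat.prime_three).2 ?_))) (h.dvd χ hχ)
  have := h.cong χ hχ
  have := h.cases hχ
  omega

theorem Dat.pos (h : Dat S x d M) {χ : ι} (hχ : χ ∈ S) : 0 < d χ := by
  have := h.lt χ hχ
  have := abs_nonneg (x χ)
  omega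

theorem Dat.exists_pow {a q b : ℕ} (hq : q.Prime) (h : Dat S x d (2 ^ a * q ^ b)) {χ : ι}
    (hχ : χ ∈ S) : ∃ i ≤ a, ∃ j ≤ b, d χ = 2 ^ i * q ^ j := by
  obtain ⟨u, v, hu, hv, e⟩ := (Nat.dvd_mul).1 (h.dvd' hχ)
  obtain ⟨i, hi, rfl⟩ := (Nat.dvd_prime_pow Nat.prime_two).1 hu
  obtain ⟨j, hj, rfl⟩ := (Nat.dvd_prime_pow hq).1 hv
  exact ⟨i, hi, j, hj, e.symm⟩

theorem Dat.exists_odd {a q b : ℕ} (hq : q.Prime) (h : Dat S x d (2 ^ a * q ^ b)) :
    ∃ j < b, q ^ (j + 1) % 9 = 1 ∨ q ^ (j + 1) % 9 = 8 := by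
  by_contra hc
  have : (2 : ℤ) ∣ ∑ χ ∈ S, x χ * d χ := Finset.dvd_sum fun χ hχ => by
    obtain ⟨i, -, j, hj, e⟩ := h.exists_pow hq hχ
    rcases Nat.eq_zero_or_pos i with rfl | hi
    · have h1 := h.cong χ hχ
      have h2 := h.lt χ hχ
      rw [pow_zero, one_mul] at e
      rcases Nat.eq_zero_or_pos j with rfl | hj0
      · have := abs_pos.2 (h.ne χ hχ)
        rw [e] at h2
        simp only [pow_zero, Nat.cast_one] at h2
        omega
      · obtain ⟨j, rfl⟩ : ∃ k, j = k + 1 := ⟨j - 1, by omega⟩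
        refine Dvd.dvd.mul_right ?_ _
        have h3 : ¬ (q ^ (j + 1) % 9 = 1 ∨ q ^ (j + 1) % 9 = 8) := fun h' => hc ⟨j, hj, h'⟩
        rw [← e] at h3
        have := h.cases hχ
        omega
    · refine Dvd.dvd.mul_left ?_ _
      rw [e]
      exact_mod_cast Dvd.dvd.mul_right (dvd_pow_self 2 hi.ne') _
  rw [h.s2] at this
  omega

theorem Dat.term (h : Dat S x d M) {χ : ι} (hχ : χ ∈ S) :
    0 ≤ (x χ : ℚ) ^ 3 / d χ + (x χ : ℚ) ^ 2 / 8 := by
  have h1 : (0 : ℚ) < d χ := by exact_mod_cast h.pos hχ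
  have h2 : (0 : ℚ) ≤ d χ + 8 * x χ := by exact_mod_cast h.fix χ hχ
  have : (x χ : ℚ) ^ 3 / d χ + (x χ : ℚ) ^ 2 / 8 = (x χ : ℚ) ^ 2 * (d χ + 8 * x χ) / (8 * d χ) := by
    field_simp; ring
  rw [this]; positivity

theorem Dat.sigma (h : Dat S x d M) : 1 / 8 < 1 + ∑ χ ∈ S, (x χ : ℚ) ^ 3 / d χ := by
  have h1 : ∑ χ ∈ S, (x χ : ℚ) ^ 2 = 8 := by exact_mod_cast h.s1
  obtain ⟨χ, hχ, hx⟩ : ∃ χ ∈ S, 0 < x χ := by
    by_contra hc
    push Not at hc
    have h2 : ∑ χ ∈ S, x χ * d χ ≤ ∑ χ ∈ S, -x χ ^ 2 := Finset.sum_le_sum fun χ hχ => by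
      have := hc χ hχ
      have := h.fix χ hχ
      nlinarith
    rw [Finset.sum_neg_distrib, h.s1, h.s2] at h2
    omega
  have h2 := Finset.single_le_sum (fun χ hχ => h.term hχ) hχ
  rw [Finset.sum_add_distrib, ← Finset.sum_div, h1] at h2
  have h3 : (0 : ℚ) < d χ := by exact_mod_cast h.pos hχ
  have h4 : (1 : ℚ) ≤ x χ := by exact_mod_cast hx
  have h5 : 0 < (x χ : ℚ) ^ 3 / d χ := by positivity
  nlinarith

theorem Dat.run {a q b N : ℕ} (hq : q.Prime) (ha : 3 ≤ a) (h : Dat S x d (2 ^ a * q ^ b))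
    (hN : (9 * N : ℚ) = (2 ^ a * q ^ b : ℕ) * (1 + ∑ χ ∈ S, (x χ : ℚ) ^ 3 / d χ))
    (hb : N ≤ bnd a q b) {v : ℤ} (hr : run a q b v = true) :
    ∑ χ ∈ S, mark q (q ^ b) (x χ) (d χ) = v := by
  set M := 2 ^ a * q ^ b with hM
  have e8 : M = 8 * (2 ^ (a - 3) * q ^ b) := by
    rw [hM, ← mul_assoc, show 8 = 2 ^ 3 by norm_num, ← pow_add]; congr 2; omega
  have h1 := ok_sound _ _ _ (fun s t f ht => by
    simp only [leaf, ht, decide_true, Bool.or_true, Bool.true_or]) (fun χ => item q (q ^ b) M (x χ) (d χ))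
    (items a q b) S 8 0 0 0 (fun χ hχ => ?_) (fun χ hχ => ?_) (fun χ hχ => ?_) ?_ hr
  · have e : ((9 * N : ℕ) : ℤ) = M + ∑ χ ∈ S, x χ ^ 3 * (M / d χ : ℕ) := by
      have : ∑ χ ∈ S, ((x χ : ℚ) ^ 3 * (M / d χ : ℕ)) = M * ∑ χ ∈ S, (x χ : ℚ) ^ 3 / d χ := by
        rw [Finset.mul_sum]
        refine Finset.sum_congr rfl fun χ hχ => ?_
        rw [Nat.cast_div (h.dvd' hχ) (by exact_mod_cast (h.pos hχ).ne')]; ring
      rw [mul_add, mul_one, ← this] at hN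
      apply Int.cast_injective (α := ℚ)
      simpa only [Int.cast_add, Int.cast_sum, Int.cast_mul, Int.cast_pow, Int.cast_natCast,
        Nat.cast_mul, Nat.cast_ofNat, Int.cast_ofNat] using hN
    simp only [item, zero_add, leaf, h.s2, ← hM, Bool.or_eq_true, bne_iff_ne, ne_eq,
      not_true_eq_false, false_or, decide_eq_true_eq, beq_iff_eq] at h1
    generalize ∑ χ ∈ S, x χ ^ 3 * (M / d χ : ℕ) = t at e h1
    omega
  · obtain ⟨i, hi, j, hj, e⟩ := h.exists_pow hq hχ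
    simp only [items, List.mem_flatMap, List.mem_filterMap, List.mem_reverse, List.mem_range]
    refine ⟨x χ, by simpa using h.cases hχ, i, by omega, j, by omega, ?_⟩
    rw [← e, if_pos]
    have h1 := h.sq χ hχ
    have h2 := h.cong χ hχ
    have h3 := h.lt χ hχ
    have h4 := h.fix χ hχ
    simp only [adm, Bool.and_eq_true, decide_eq_true_eq, beq_iff_eq]
    exact ⟨⟨⟨h1, by omega⟩, by rw [Int.abs_eq_natAbs] at h3; omega⟩, h4⟩
  · exact pow_pos (Int.natAbs_pos.2 (h.ne χ hχ)) _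
  · have h1 := h.fix χ hχ
    obtain ⟨k, hk⟩ := h.dvd' hχ
    have h2 := h.pos hχ
    have h3 : M / d χ = k := by rw [hk, Nat.mul_div_cancel_left _ h2]
    have h4 : (8 : ℤ) * (2 ^ (a - 3) * q ^ b : ℕ) = d χ * k := by exact_mod_cast e8.symm.trans hk
    simp only [item, h3]
    generalize ((2 ^ (a - 3) * q ^ b : ℕ) : ℤ) = K at h4
    push_cast
    rw [sq_abs]
    have : 0 ≤ x χ ^ 2 * k * (d χ + 8 * x χ) := by positivity
    nlinarith
  · have := h.s1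
    simp only [item]
    zify
    simpa only [sq_abs] using this

theorem Dat.three_le {a q b : ℕ} (hq : q.Prime) (h : Dat S x d (2 ^ a * q ^ b)) : 3 ≤ a := by
  by_contra hc
  have : (q : ℤ) ∣ ∑ χ ∈ S, x χ * d χ := Finset.dvd_sum fun χ hχ => by
    obtain ⟨i, hi, j, hj, e⟩ := h.exists_pow hq hχ
    rcases Nat.eq_zero_or_pos j with rfl | hj0
    · have h1 := h.cong χ hχ
      have h2 := h.lt χ hχ
      have h3 := h.cases hχ
      rw [abs_lt] at h2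
      rw [pow_zero, mul_one] at e
      have : i ≤ 2 := by omega
      interval_cases i <;> omega
    · refine Dvd.dvd.mul_left ?_ _
      rw [e]
      exact_mod_cast Dvd.dvd.mul_left (dvd_pow_self q hj0.ne') _
  rw [h.s2, Int.dvd_neg, Int.natCast_dvd_ofNat, Nat.dvd_one] at this
  exact hq.one_lt.ne' this

def LocA (a q b X : ℕ) : Prop :=
  (X = 0 ∧ ∃ i ≤ a, 9 * 2 ^ i % q = 1) ∨ (X = 6 * (q ^ b - 1) ∧ condA a q b = true)

def LocB (a n X : ℕ) : Prop :=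
  X = 0 ∨ ∃ k, (k = a ∨ k + 1 = a) ∧ X = 6 * (2 ^ k - 1) ∧ 2 ^ k % 3 = 1 ∧ 2 ^ k ≤ (3 * n) ^ 2

theorem le_bnd {a q b N XA XB : ℕ} (hA : LocA a q b XA) (hB : LocB a (q ^ b) XB)
    (hN : N ≤ 43 + XA + XB) : N ≤ bnd a q b := by
  have h1 : XA ≤ if condA a q b then 6 * (q ^ b - 1) else 0 := by
    rcases hA with ⟨rfl, -⟩ | ⟨rfl, h⟩
    · exact Nat.zero_le _
    · rw [if_pos h]
  have h2 : XB ≤ bndB a (q ^ b) + bndB (a - 1) (q ^ b) := by
    rcases hB with rfl | ⟨k, rfl | rfl, rfl, h⟩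
    · exact Nat.zero_le _
    · rw [bndB, if_pos h]; omega
    · rw [Nat.add_sub_cancel, bndB.eq_1 k, if_pos h]; omega
  rw [bnd]; omega

theorem Dat.mem_surv {a q b N XA XB : ℕ} (hq : q.Prime) (hq2 : q ≠ 2) (hq3 : q ≠ 3)
    (h : Dat S x d (2 ^ a * q ^ b))
    (hN : (9 * N : ℚ) = (2 ^ a * q ^ b : ℕ) * (1 + ∑ χ ∈ S, (x χ : ℚ) ^ 3 / d χ))
    (h9 : 2 ^ a * q ^ b % 9 = 8) (hA : LocA a q b XA) (hB : LocB a (q ^ b) XB)
    (hb : N ≤ 43 + XA + XB) : (a, q, b) ∈ surv := by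
  have ha := h.three_le hq
  obtain ⟨j, hj, hj9⟩ := h.exists_odd hq
  have hq5 : 5 ≤ q := by
    have := hq.two_le
    have : q ≠ 4 := by rintro rfl; norm_num at hq
    omega
  have hlt : 2 ^ a * q ^ b < 72 * N := by
    have h1 := h.sigma
    have h2 : (0 : ℚ) < (2 ^ a * q ^ b : ℕ) := by positivity
    have : ((2 ^ a * q ^ b : ℕ) : ℚ) < 72 * N := by nlinarith
    exact_mod_cast this
  have hu : 8 ≤ 2 ^ a := Nat.pow_le_pow_right (n := 2) (by norm_num) ha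
  have hqn : q ≤ q ^ b := Nat.le_self_pow (by omega) q
  have h5 : 5 ^ b ≤ q ^ b := Nat.pow_le_pow_left hq5 b
  have hXA : XA ≤ 6 * q ^ b := by rcases hA with ⟨rfl, -⟩ | ⟨rfl, -⟩ <;> omega
  have hXB : XB ≤ 6 * 2 ^ a := by
    rcases hB with rfl | ⟨k, rfl | rfl, rfl, h⟩
    · omega
    · omega
    · rw [pow_succ]; omega
  have r1 : ¬ (9 < a ∧ 1024 ≤ q ^ b) := by
    rintro ⟨h1, h2⟩
    have : 1024 ≤ 2 ^ a := Nat.pow_le_pow_right (n := 2) (by norm_num) h1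
    nlinarith
  have r2 : q < 1536 ∧ q ^ b ≤ 2359296 ∧ a < 27 := by
    by_cases hn : q ^ b < 1024
    · refine ⟨by omega, by omega, ?_⟩
      rcases hB with rfl | ⟨k, hk, rfl, -, h⟩
      · have : 2 ^ a < 2 ^ 12 := by nlinarith
        have := (Nat.pow_lt_pow_iff_right (by norm_num)).1 this
        omega
      · have : 2 ^ k < 2 ^ 24 := by nlinarith
        have := (Nat.pow_lt_pow_iff_right (by norm_num)).1 this
        omega
    · have ha9 : a ≤ 9 := by omega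
      have hu' : 2 ^ a ≤ 512 := Nat.pow_le_pow_right (n := 2) (by norm_num) ha9
      rcases hA with ⟨rfl, -⟩ | ⟨rfl, h⟩
      · nlinarith
      · simp only [condA, Bool.and_eq_true, Bool.or_eq_true, beq_iff_eq, decide_eq_true_eq] at h
        refine ⟨?_, by nlinarith [h.2], by omega⟩
        by_contra hc
        have : 2 ^ (a - 1) ≤ 2 ^ a := Nat.pow_le_pow_right (by norm_num) (by omega)
        have h3 : 0 < 2 ^ (a - 1) := by positivity
        rcases h.1.2 with h1 | h1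
        · rcases Nat.lt_or_ge (3 * 2 ^ a) q with h2 | h2
          · rw [Nat.mod_eq_of_lt h2] at h1; omega
          · have : q = 3 * 2 ^ a := by omega
            rw [← this, Nat.mod_self] at h1; omega
        · rw [Nat.mod_eq_of_lt] at h1
          · omega
          · have : 2 ^ a = 2 * 2 ^ (a - 1) := by rw [← pow_succ']; congr 1; omega
            omega
  have r3 : b < 10 := by
    have : 5 ^ b < 5 ^ 10 := by omega
    exact (Nat.pow_lt_pow_iff_right (by norm_num)).1 this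
  have hc : cond a q b = true := by
    simp only [cond, Bool.and_eq_true, Bool.or_eq_true, beq_iff_eq, decide_eq_true_eq,
      List.any_eq_true, List.mem_range]
    refine ⟨⟨⟨h9, ?_⟩, j, hj, hj9⟩, ?_⟩
    · have := le_bnd hA hB hb
      omega
    · rcases hA with ⟨-, i, hi, h⟩ | ⟨-, h⟩
      · exact Or.inr ⟨i, by omega, h⟩
      · exact Or.inl h
  have e2 : q % 2 ≠ 0 := fun e => hq2 ((Nat.prime_dvd_prime_iff_eq Nat.prime_two hq).1
    (Nat.dvd_of_mod_eq_zero e)).symm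
  have e3 : q % 3 ≠ 0 := fun e => hq3 ((Nat.prime_dvd_prime_iff_eq Nat.prime_three hq).1
    (Nat.dvd_of_mod_eq_zero e)).symm
  have key := cond_surv
  simp only [List.all_eq_true, List.mem_range, Bool.or_eq_true, decide_eq_true_eq, beq_iff_eq,
    Bool.and_eq_true, Bool.not_eq_true', List.contains_iff_mem] at key
  rcases key q r2.1 with ((h | h) | h) | h
  · omega
  · omega
  · omega
  rcases h b r3 with h | h
  · omega
  rcases h a r2.2.2 with (h | h) | h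
  · exact absurd h r1
  · rw [hc] at h; exact absurd h (by simp)
  · exact h

theorem mark_nonneg (q D : ℕ) (x : ℤ) (d : ℕ) : 0 ≤ mark q D x d := by
  unfold mark; split_ifs <;> norm_num

/-- values on a 2-central involution -/
structure Inv2 {ι : Type*} (S : Finset ι) (x : ι → ℤ) (d : ι → ℕ) (c : ι → ℤ) (a M : ℕ) : Prop where
  lt : ∀ χ ∈ S, |c χ| < d χ
  dvd : ∀ χ ∈ S, ∀ i, 2 ^ i ∣ d χ → 2 ^ i ∣ c χ
  s1 : ∑ χ ∈ S, x χ * c χ = -1
  s2 : ∃ n : ℕ, (2 ^ a * 2 ^ a * n : ℚ) = 9 * M * (1 + ∑ χ ∈ S, (c χ : ℚ) ^ 2 * x χ / d χ)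

theorem sum_mark {q D : ℕ} {v : ℤ} (hv : v < 256) (hm : ∑ χ ∈ S, mark q D (x χ) (d χ) = v) :
    ∃ S1 S2 : Finset ι, S1 ⊆ S ∧ S2 ⊆ S ∧ (∀ χ ∈ S1, x χ = -1 ∧ d χ = D) ∧
      (∀ χ ∈ S2, x χ = 1 ∧ d χ = 100) ∧ (S1.card + 16 * S2.card : ℤ) = v ∧
      ∀ {R : Type} [AddCommMonoid R] (g : ι → R), (∀ χ ∈ S, d χ % q ≠ 0 → g χ = 0) →
        ∑ χ ∈ S, g χ = ∑ χ ∈ S1, g χ + ∑ χ ∈ S2, g χ := by
  classical
  have h1 : ∀ χ ∈ S, d χ % q = 0 → (x χ = -1 ∧ d χ = D) ∨ (x χ = 1 ∧ d χ = 100) := by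
    intro χ hχ h0
    have := Finset.single_le_sum (f := fun χ => mark q D (x χ) (d χ))
      (fun _ _ => mark_nonneg _ _ _ _) hχ
    rw [hm] at this
    simp only [mark] at this
    split_ifs at this with h1 h2 h3
    · exact absurd h0 h1
    · exact Or.inl h2
    · exact Or.inr h3
    · omega
  have key : ∀ {R : Type} [AddCommMonoid R] (g : ι → R), (∀ χ ∈ S, d χ % q ≠ 0 → g χ = 0) →
      ∑ χ ∈ S, g χ = ∑ χ ∈ S.filter (fun χ => d χ % q = 0 ∧ x χ = -1), g χ +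
        ∑ χ ∈ S.filter (fun χ => d χ % q = 0 ∧ x χ = 1), g χ := by
    intro R _ g hg
    rw [Finset.sum_filter, Finset.sum_filter, ← Finset.sum_add_distrib]
    refine Finset.sum_congr rfl fun χ hχ => ?_
    by_cases h0 : d χ % q = 0
    · rcases h1 χ hχ h0 with h | h <;> simp [h0, h.1]
    · simp [h0, hg χ hχ h0]
  have a1 : ∀ χ ∈ S.filter (fun χ => d χ % q = 0 ∧ x χ = -1), x χ = -1 ∧ d χ = D := fun χ hχ => by
    obtain ⟨h, h0, h2⟩ := Finset.mem_filter.1 hχ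
    exact (h1 χ h h0).resolve_right (by omega)
  have a2 : ∀ χ ∈ S.filter (fun χ => d χ % q = 0 ∧ x χ = 1), x χ = 1 ∧ d χ = 100 := fun χ hχ => by
    obtain ⟨h, h0, h2⟩ := Finset.mem_filter.1 hχ
    exact (h1 χ h h0).resolve_left (by omega)
  refine ⟨_, _, Finset.filter_subset _ _, Finset.filter_subset _ _, a1, a2, ?_, key⟩
  rw [← hm, key _ (fun χ _ h => by simp [mark, h]), Finset.sum_congr rfl (g := fun _ => 1),
    Finset.sum_congr (s₁ := S.filter (fun χ => d χ % q = 0 ∧ x χ = 1)) rfl (g := fun _ => 16)]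
  · simp [mul_comm]
  · intro χ hχ
    have := (Finset.mem_filter.1 hχ).2.1
    simp only [mark, this, (a2 χ hχ).1]
    simp [(a2 χ hχ).2]
  · intro χ hχ
    have := (Finset.mem_filter.1 hχ).2.1
    simp only [mark, this, (a1 χ hχ).1]
    simp [(a1 χ hχ).2]

theorem Dat.zero_of {a q b : ℕ} (hq : q.Prime) (h : Dat S x d (2 ^ a * q ^ b)) {c : ι → ℤ}
    (hc : Inv2 S x d c a (2 ^ a * q ^ b)) {χ : ι} (hχ : χ ∈ S) (h0 : d χ % q ≠ 0) : c χ = 0 := by
  obtain ⟨i, -, j, -, e⟩ := h.exists_pow hq hχ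
  rcases Nat.eq_zero_or_pos j with rfl | hj
  · rw [pow_zero, mul_one] at e
    refine Int.eq_zero_of_abs_lt_dvd (hc.dvd χ hχ i (e ▸ dvd_rfl)) ?_
    have := hc.lt χ hχ
    rw [e] at this
    exact_mod_cast this
  · exact absurd (Nat.mod_eq_zero_of_dvd (e ▸ Dvd.dvd.mul_left (dvd_pow_self q hj.ne') _)) h0

theorem Dat.card_le (h : Dat S x d M) : S.card ≤ 8 := by
  have := Finset.card_nsmul_le_sum S (fun χ => x χ ^ 2) 1 fun χ hχ => by
    have := h.ne χ hχ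
    exact (one_le_sq_iff_one_le_abs _).2 (Int.one_le_abs this)
  rw [h.s1] at this
  simp only [nsmul_eq_mul, mul_one] at this
  exact_mod_cast this

theorem Dat.not17 (h : Dat S x d (2 ^ 6 * 17 ^ 1)) {c : ι → ℤ} (hc : Inv2 S x d c 6 (2 ^ 6 * 17 ^ 1))
    (hm : ∑ χ ∈ S, mark 17 (17 ^ 1) (x χ) (d χ) = 1) : False := by
  obtain ⟨S1, S2, -, -, a1, -, e, key⟩ := sum_mark (by norm_num) hm
  obtain ⟨χ, rfl⟩ := Finset.card_eq_one.1 (show S1.card = 1 by omega)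
  obtain rfl := Finset.card_eq_zero.1 (show S2.card = 0 by omega)
  have z := fun χ hχ => h.zero_of (χ := χ) (by norm_num) hc hχ
  have h1 := hc.s1
  obtain ⟨n, h2⟩ := hc.s2
  rw [key _ (fun χ hχ h0 => by simp [z χ hχ h0])] at h1 h2
  obtain ⟨e1, e2⟩ := a1 χ (Finset.mem_singleton_self _)
  simp only [Finset.sum_singleton, Finset.sum_empty, e1, e2] at h1 h2
  have : c χ = 1 := by omega
  rw [this] at h2
  norm_num at h2
  have : 4096 * n = 9216 := by exact_mod_cast h2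
  omega

theorem Dat.not5 {a : ℕ} (ha : 4 ≤ a) (h : Dat S x d (2 ^ a * 5 ^ 3)) {c : ι → ℤ}
    (hc : Inv2 S x d c a (2 ^ a * 5 ^ 3))
    (hm : ∑ χ ∈ S, mark 5 (5 ^ 3) (x χ) (d χ) = 17) : False := by
  obtain ⟨S1, S2, s1, s2, a1, a2, e, key⟩ := sum_mark (by norm_num) hm
  have := (Finset.card_le_card s1).trans h.card_le
  obtain ⟨χ, rfl⟩ := Finset.card_eq_one.1 (show S1.card = 1 by omega)
  obtain ⟨ψ, rfl⟩ := Finset.card_eq_one.1 (show S2.card = 1 by omega)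
  have z := fun χ hχ => h.zero_of (χ := χ) (by norm_num) hc hχ
  have h1 := hc.s1
  obtain ⟨n, h2⟩ := hc.s2
  rw [key _ (fun χ hχ h0 => by simp [z χ hχ h0])] at h1 h2
  obtain ⟨e1, e2⟩ := a1 χ (Finset.mem_singleton_self _)
  obtain ⟨e3, e4⟩ := a2 ψ (Finset.mem_singleton_self _)
  obtain ⟨y, hy⟩ := hc.dvd ψ (s2 (Finset.mem_singleton_self _)) 2 (by rw [e4]; norm_num)
  simp only [Finset.sum_singleton, e1, e2, e3, e4] at h1 h2
  have : c χ = 4 * y + 1 := by omega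
  obtain ⟨k, rfl⟩ : ∃ k, a = k + 4 := ⟨a - 4, by omega⟩
  rw [this, hy] at h2
  have h3 : (4 * (2 ^ k * n) : ℚ) = 9 * ((y - 1) ^ 2 + 30) := by
    refine mul_left_cancel₀ (a := (4 * 2 ^ (k + 4) : ℚ)) (by positivity) ?_
    push_cast at h2
    linear_combination h2
  have h4 : (4 * (2 ^ k * n) : ℤ) = 9 * ((y - 1) ^ 2 + 30) := by exact_mod_cast h3
  generalize y - 1 = w at h4
  generalize (2 ^ k * n : ℤ) = m at h4
  rcases Int.even_or_odd' w with ⟨t, rfl | rfl⟩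
  · have : (2 * t) ^ 2 = 4 * t ^ 2 := by ring
    omega
  · have : (2 * t + 1) ^ 2 = 4 * (t ^ 2 + t) + 1 := by ring
    omega

theorem Dat.false {a q b N XA XB : ℕ} (hq : q.Prime) (hq2 : q ≠ 2) (hq3 : q ≠ 3)
    (h : Dat S x d (2 ^ a * q ^ b)) {c : ι → ℤ} (hc : Inv2 S x d c a (2 ^ a * q ^ b))
    (hN : (9 * N : ℚ) = (2 ^ a * q ^ b : ℕ) * (1 + ∑ χ ∈ S, (x χ : ℚ) ^ 3 / d χ))
    (h9 : 2 ^ a * q ^ b % 9 = 8) (hA : LocA a q b XA) (hB : LocB a (q ^ b) XB)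
    (hb : N ≤ 43 + XA + XB) : False := by
  have h1 := h.mem_surv hq hq2 hq3 hN h9 hA hB hb
  have h2 := fun v => h.run (v := v) hq (h.three_le hq) hN (le_bnd hA hB hb)
  have h3 : 0 ≤ ∑ χ ∈ S, mark q (q ^ b) (x χ) (d χ) :=
    Finset.sum_nonneg fun _ _ => mark_nonneg _ _ _ _
  simp only [surv, List.mem_cons, Prod.mk.injEq, List.not_mem_nil, or_false] at h1
  rcases h1 with h1 | h1 | h1 | h1 | h1 | h1 | h1 | h1 | h1 | h1 | h1 | h1 | h1 | h1 | h1 | h1 |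
    h1 | h1 <;> obtain ⟨rfl, rfl, rfl⟩ := h1
  · have := h2 _ run1; omega
  · have := h2 _ run2; omega
  · exact h.not5 (by norm_num) hc (h2 _ run3)
  · exact h.not17 hc (h2 _ run4)
  · have := h2 _ run5; omega
  · have := h2 _ run6; omega
  · exact h.not5 (by norm_num) hc (h2 _ run7)
  · have := h2 _ run8; omega
  · have := h2 _ run9; omega
  all_goals norm_num at hq

end Cfsg.Agent.H4.K3
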