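import Cfsg.Agent.H4.K3f
import Cfsg.Agent.H4.K3m

/-! The case of one class of elements of order three is impossible. -/

set_option autoImplicit false
set_option linter.unusedSectionVars false

namespace Cfsg.Agent.H4.K3

open Subgroup Cfsg.Agent.H1

variable {G : Type*} [Group G]

theorem centralizer_ne_top [IsSimpleGroup G] (hnc : ¬ IsMulCommutative G) {z : G} (hz : z ≠ 1) :
    centralizer {z} ≠ ⊤ := fun e => by
  have h1 : z ∈ center G := mem_center_iff.2 fun g =>
    mem_centralizer_singleton_iff.1 (e ▸ mem_top g)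
  rcases Normal.eq_bot_or_eq_top (inferInstance : (center G).Normal) with h | h
  · exact hz (by rwa [h, mem_bot] at h1)
  · exact hnc ⟨⟨fun x y => (mem_center_iff.1 (h ▸ mem_top y) x)⟩⟩

theorem card_sylow_eq [Finite G] {p k m : ℕ} [hp : Fact p.Prime] (P : Sylow p G)
    (h : Nat.card G = m * p ^ k) (hm : ¬ p ∣ m) : Nat.card P = p ^ k := by
  have h0 : m ≠ 0 := by rintro rfl; simp at hm
  rw [P.card_eq_multiplicity, h, Nat.factorization_mul h0 (pow_ne_zero _ hp.out.ne_zero),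
    Nat.Prime.factorization_pow hp.out]
  simp [Nat.factorization_eq_zero_of_not_dvd hm]

section
variable [Finite G] [IsSimpleGroup G] (hnc : ¬ IsMulCommutative G) {q a b : ℕ} [hq : Fact q.Prime]
  (hq2 : q ≠ 2) (hq3 : q ≠ 3) (hcard : Nat.card G = 9 * 2 ^ a * q ^ b)
  (hG : CC G) {r : G} (hr : r ^ 3 = 1) (hr1 : r ≠ 1) (h9 : cc r = 9)
include hq2 hq3 hcard

theorem card_sylow_q (Q : Sylow q G) : Nat.card Q = q ^ b := card_sylow_eq Q hcard fun h => by
  rcases hq.out.dvd_mul.1 h with h | h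
  · exact hq3 ((Nat.prime_dvd_prime_iff_eq hq.out Nat.prime_three).1
      (hq.out.dvd_of_dvd_pow (n := 2) h))
  · exact hq2 ((Nat.prime_dvd_prime_iff_eq hq.out Nat.prime_two).1 (hq.out.dvd_of_dvd_pow h))

theorem card_sylow_two (T : Sylow 2 G) : Nat.card T = 2 ^ a :=
  card_sylow_eq (m := 9 * q ^ b) T (by rw [hcard]; ring) fun h => by
    rcases Nat.prime_two.dvd_mul.1 h with h | h
    · omega
    · exact hq2 ((Nat.prime_dvd_prime_iff_eq Nat.prime_two hq.out).1
        (Nat.prime_two.dvd_of_dvd_pow h)).symm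

theorem Inv.card_dvd {H : Subgroup G} (h : Inv r H) : Nat.card H ∣ 2 ^ a * q ^ b := by
  refine Nat.Coprime.dvd_of_dvd_mul_left (Nat.Coprime.pow_right 2 (Nat.Coprime.symm
    ((Nat.Prime.coprime_iff_not_dvd Nat.prime_three).2 h.t3))) ?_
  rw [← mul_assoc, show 3 ^ 2 = 9 from rfl, ← hcard]
  exact card_subgroup_dvd_card H

theorem Inv.isPGroup {H : Subgroup G} (h : Inv r H) (hd : ¬ q ∣ Nat.card H) : IsPGroup 2 H := by
  obtain ⟨i, -, e⟩ := (Nat.dvd_prime_pow Nat.prime_two).1 (Nat.Coprime.dvd_of_dvd_mul_right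
    (Nat.Coprime.pow_right b ((Nat.Prime.coprime_iff_not_dvd hq.out).2 hd).symm)
    (h.card_dvd hq2 hq3 hcard))
  exact IsPGroup.of_card e

include hnc hG hr hr1 h9

theorem MaxInv.eq_sylow (hN : ¬ q ^ b ∣ Nat.factorial 9) {H : Subgroup G} (h : MaxInv r H)
    (hd : q ∣ Nat.card H) : ∃ Q : Sylow q G, (Q : Subgroup G) = H := by
  obtain ⟨Q, hQ⟩ := h.exists_sylow_le hG hr hr1 hq2 hq3 hd
  by_cases h2 : 2 ∣ Nat.card H
  · exfalso
    obtain ⟨w, hw, hw1, hw2, hwc⟩ := h.exists_central hG hr hr1 h2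
    have p1 : ∀ v : G, v ^ 2 = 1 → IsPGroup 2 (zpowers v) := fun v hv =>
      IsPGroup.of_card_dvd_pow (n := 1) (by
        rw [Nat.card_zpowers]; exact orderOf_dvd_of_pow_eq_one hv)
    have p2 := (p1 w hw2).to_sup_of_normal_right' (p1 (r * w * r⁻¹) (by rw [conj_pow, hw2]; simp))
      (zpowers_le.2 (centralizer_le_normalizer _ (by
        rintro _ ⟨k, rfl⟩
        exact ((hwc _ (h.mem w hw)).zpow_right k).symm)))
    obtain ⟨T, hT⟩ := p2.exists_le_sylow
    have m1 : w ∈ (T : Subgroup G) := hT (mem_sup_left (Subgroup.mem_zpowers _))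
    obtain ⟨z, -, hz1, hz2, hzc⟩ := exists_central T.2 fun e => hw1 (by rwa [e, mem_bot] at m1)
    have hz := h.mem_of_comm hG hr hr1 hw hw1 hwc (hzc _ m1).symm
      (hzc _ (hT (mem_sup_right (Subgroup.mem_zpowers _)))).symm
    have c1 : (T : Subgroup G) ≤ centralizer {z} := fun y hy =>
      mem_centralizer_singleton_iff.2 (hzc y hy).symm
    have c2 : (Q : Subgroup G) ≤ centralizer {z} := fun y hy => by
      obtain ⟨n, hn⟩ := Q.2 ⟨y, hy⟩
      exact mem_centralizer_singleton_iff.2 (h.comm_of_coprime hG hr hr1 (hQ hy) hz (m := q ^ n)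
        (congrArg Subtype.val hn) hz2 (Nat.Coprime.pow_left _
          ((Nat.coprime_primes hq.out Nat.prime_two).2 hq2)))
    have d1 := card_dvd_of_le c1
    have d2 := card_dvd_of_le c2
    rw [card_sylow_two hq2 hq3 hcard] at d1
    rw [card_sylow_q hq2 hq3 hcard] at d2
    obtain ⟨k, hk⟩ := Nat.Coprime.mul_dvd_of_dvd_of_dvd (Nat.coprime_pow_primes _ _
      Nat.prime_two hq.out hq2.symm) d1 d2
    have d3 := (centralizer {z}).index_mul_card
    have d4 : (centralizer {z}).index * k = 9 := Nat.eq_of_mul_eq_mul_right (m := 2 ^ a * q ^ b)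
      (by have := hq.out.pos; positivity) (by rw [← mul_assoc 9, ← hcard, ← d3, hk]; ring)
    refine hN (((Dvd.intro_left _ hcard.symm).trans
      (card_dvd_factorial (centralizer_ne_top hnc hz1))).trans (Nat.factorial_dvd_factorial
        (Nat.le_of_dvd (by norm_num) ⟨k, d4.symm⟩)))
  · refine ⟨Q, eq_of_le_of_card_ge hQ ?_⟩
    rw [card_sylow_q hq2 hq3 hcard]
    exact Nat.le_of_dvd (pow_pos hq.out.pos _) (Nat.Coprime.dvd_of_dvd_mul_left
      (Nat.Coprime.pow_right a ((Nat.Prime.coprime_iff_not_dvd Nat.prime_two).2 h2).symm)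
      (h.card_dvd hq2 hq3 hcard))

omit hnc hq2 hq3 hcard hG in
theorem exists_not_mem : ∃ s, Commute r s ∧ s ∉ zpowers r := by
  have : Fact (Nat.Prime 3) := ⟨Nat.prime_three⟩
  by_contra hc
  push Not at hc
  have := card_le_of_le (show centralizer {r} ≤ zpowers r from fun y hy =>
    hc y (mem_centralizer_singleton_iff.1 hy).symm)
  rw [Nat.card_zpowers, orderOf_eq_prime hr hr1, show Nat.card (centralizer {r}) = 9 from h9] at this
  omega

theorem locA (hN : ¬ q ^ b ∣ Nat.factorial 9) (hconj : ∀ g : G, g ^ 3 = 1 → g ≠ 1 → IsConj r g) :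
    ∃ X, LocA a q b X ∧ {y | y ≠ 1 ∧ ∃ H, MaxInv r H ∧ q ∣ Nat.card H ∧ y ∈ H}.ncard ≤ X := by
  have : Fact (Nat.Prime 3) := ⟨Nat.prime_three⟩
  have hq1 := hq.out.one_lt
  have hmod : ∀ Q : Sylow q G, (normalizer ((Q : Subgroup G) : Set G)).index % q = 1 := fun Q => by
    have := card_sylow_modEq_one q G
    rw [Q.card_eq_index_normalizer] at this
    exact Eq.trans this (Nat.mod_eq_of_lt hq1)
  by_cases hex : ∃ H, MaxInv r H ∧ q ∣ Nat.card H
  · obtain ⟨H, h, hd⟩ := hex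
    obtain ⟨Q, rfl⟩ := h.eq_sylow hnc hq2 hq3 hcard hG hr hr1 h9 hN hd
    have e := card_sylow_q hq2 hq3 hcard Q
    refine ⟨_, Or.inr ⟨rfl, ?_⟩, e ▸ le_trans (Set.ncard_le_ncard ?_) (h.ncard_le hG hr hr1 h9)⟩
    · obtain ⟨s, hs, hs'⟩ := exists_not_mem hr hr1 h9
      have h1 := h.card_le_sq hG hr hr1 hs hs'
      have h2 := h.card_mod hG hr hr1
      have h3 := hmod Q
      have h4 := (normalizer ((Q : Subgroup G) : Set G)).index_mul_card
      have h0 : 0 < q ^ b := pow_pos hq.out.pos _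
      simp only [condA, Bool.and_eq_true, Bool.or_eq_true, beq_iff_eq, decide_eq_true_eq]
      generalize (normalizer ((Q : Subgroup G) : Set G)).index = n at *
      rcases h.card_normalizer hG hr hr1 with e' | e' <;> rw [e', hcard, ← mul_assoc, e] at h4 <;>
        have h5 := Nat.eq_of_mul_eq_mul_right h0 h4 <;> rw [e] at h1 h2
      · obtain rfl : n = 3 * 2 ^ a := by omega
        exact ⟨⟨h2, Or.inl h3⟩, h1⟩
      · rcases a with _ | a
        · omega
        rw [pow_succ] at h5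
        obtain rfl : n = 3 * 2 ^ a := by omega
        refine ⟨⟨h2, Or.inr h3⟩, h1.trans (Nat.pow_le_pow_left ?_ 2)⟩
        rw [pow_succ]; omega
    · rintro y ⟨hy, H, h', hd', m⟩
      obtain ⟨Q', rfl⟩ := h'.eq_sylow hnc hq2 hq3 hcard hG hr hr1 h9 hN hd'
      obtain ⟨g, rfl⟩ := MulAction.exists_smul_eq G Q Q'
      exact ⟨hy, g, h'.toInv, m⟩
  · refine ⟨0, Or.inl ⟨rfl, ?_⟩, ?_⟩
    · obtain ⟨Q⟩ : Nonempty (Sylow q G) := inferInstance
      have e := card_sylow_q hq2 hq3 hcard Q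
      have hb : b ≠ 0 := by rintro rfl; simp at hN
      have h3 : ¬ 3 ∣ Nat.card (normalizer ((Q : Subgroup G) : Set G)) := by
        refine not_three_dvd_iff.2 fun ρ hρ h3 => by_contra fun h1 => hex ?_
        obtain ⟨g, rfl⟩ := isConj_iff.1 (hconj ρ h3 h1).symm
        have i1 : Inv ρ (Q : Subgroup G) := ⟨fun x hx => (mem_normalizer_iff.1 hρ x).1 hx, e ▸ fun h =>
          hq3 ((Nat.prime_dvd_prime_iff_eq Nat.prime_three hq.out).1
            (Nat.prime_three.dvd_of_dvd_pow h)).symm⟩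
        have d1 : q ∣ Nat.card (cj g Q) := by rw [card_cj, e]; exact dvd_pow_self q hb
        obtain ⟨H, h, hle⟩ := exists_maxInv (i1.cj g) fun e => by
          rw [e, card_bot, Nat.dvd_one] at d1; omega
        exact ⟨H, h, d1.trans (card_dvd_of_le hle)⟩
      have h4 := (normalizer ((Q : Subgroup G) : Set G)).index_mul_card
      obtain ⟨k, hk⟩ := card_dvd_of_le (le_normalizer : (Q : Subgroup G) ≤ _)
      rw [hk, e, hcard, mul_comm _ k, ← mul_assoc] at h4
      have h5 := Nat.eq_of_mul_eq_mul_right (pow_pos hq.out.pos _) h4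
      obtain ⟨j, hj, rfl⟩ := (Nat.dvd_prime_pow Nat.prime_two).1 (Nat.Coprime.dvd_of_dvd_mul_left
        (Nat.Coprime.pow_right 2 (Nat.Coprime.symm ((Nat.Prime.coprime_iff_not_dvd
          Nat.prime_three).2 fun h => h3 (hk ▸ Dvd.dvd.mul_left h _)))) (Dvd.intro_left _ h5))
      refine ⟨a - j, Nat.sub_le _ _, ?_⟩
      rw [← hmod Q]
      congr 1
      refine Nat.eq_of_mul_eq_mul_right (pow_pos two_pos j) ?_
      rw [h5, mul_assoc, ← pow_add, Nat.sub_add_cancel hj]
    · rw [Nat.le_zero, Set.ncard_eq_zero, Set.eq_empty_iff_forall_notMem]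
      rintro y ⟨-, H, h, hd, -⟩
      exact hex ⟨H, h, hd⟩

omit hnc in
theorem locB : ∃ X, LocB a (q ^ b) X ∧
    {y | y ≠ 1 ∧ ∃ H, MaxInv r H ∧ (¬ q ∣ Nat.card H ∧ Nat.card H ≠ 4) ∧ y ∈ H}.ncard ≤ X := by
  have : Fact (Nat.Prime 3) := ⟨Nat.prime_three⟩
  by_cases hex : ∃ H, MaxInv r H ∧ ¬ q ∣ Nat.card H ∧ Nat.card H ≠ 4
  · obtain ⟨H, h, hd, h4⟩ := hex
    have hp := h.isPGroup hq2 hq3 hcard hd
    obtain ⟨T, hT⟩ := hp.exists_le_sylow
    have e := card_sylow_two hq2 hq3 hcard T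
    obtain ⟨c1, c2⟩ := h.big hG hr hr1 h4 T.2 hT
    obtain ⟨k, hk, e'⟩ := (Nat.dvd_prime_pow Nat.prime_two).1 (e ▸ card_dvd_of_le hT)
    refine ⟨_, Or.inr ⟨k, ?_, rfl, e' ▸ h.card_mod hG hr hr1, ?_⟩,
      e' ▸ le_trans (Set.ncard_le_ncard ?_) (h.ncard_le hG hr hr1 h9)⟩
    · rw [e, e', ← pow_succ'] at c1
      have := (Nat.pow_le_pow_iff_right (by norm_num)).1 c1
      omega
    · obtain ⟨s, hs, hs'⟩ := exists_not_mem hr hr1 h9
      refine e' ▸ (h.card_le_sq hG hr hr1 hs hs').trans (Nat.pow_le_pow_left ?_ 2)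
      have d1 := card_dvd_of_le c2
      have d2 := (normalizer (H : Set G)).orderOf_dvd_natCard (h.mem_normalizer hr)
      rw [orderOf_eq_prime hr hr1] at d2
      rw [e] at d1
      have d3 := Nat.le_of_dvd Nat.card_pos (Nat.Coprime.mul_dvd_of_dvd_of_dvd
        (Nat.Coprime.pow_right a (by norm_num)) d2 d1)
      have d4 := (normalizer (H : Set G)).index_mul_card
      refine Nat.le_of_mul_le_mul_right ((Nat.mul_le_mul_left _ d3).trans ?_) (by positivity)
      rw [d4, hcard]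
      exact le_of_eq (by ring)
    · rintro y ⟨hy, H', h', ⟨hd', h4'⟩, m⟩
      obtain ⟨T', hT'⟩ := (h'.isPGroup hq2 hq3 hcard hd').exists_le_sylow
      obtain ⟨g, rfl⟩ := MulAction.exists_smul_eq G T T'
      have c3 := (h'.big hG hr hr1 h4' (g • T).2 hT').1
      have e2 := card_sylow_two hq2 hq3 hcard (g • T)
      have e3 : H' = cj g H := by_contra fun hne => h4' (h'.pair hG hr hr1 (by rw [conj_pow, hr]; simp)
        (by simpa using hr1) (h.cj g) (by
          rw [e2]; exact fun e => by simpa using Nat.prime_three.dvd_of_dvd_pow e) hT'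
        (cj_mono g hT) c3 (by rw [card_cj, e2, ← e]; exact c1) hne)
      exact ⟨hy, g, e3 ▸ h'.toInv, e3 ▸ m⟩
  · refine ⟨0, Or.inl rfl, ?_⟩
    rw [Nat.le_zero, Set.ncard_eq_zero, Set.eq_empty_iff_forall_notMem]
    rintro y ⟨-, H, h, hd, -⟩
    exact hex ⟨H, h, hd⟩

omit hq in
theorem eight_false (hq : q.Prime) (hconj : ∀ g : G, g ^ 3 = 1 → g ≠ 1 → IsConj r g) : False := by
  classical
  have := Fact.mk hq
  have : Fact (Nat.Prime 3) := ⟨Nat.prime_three⟩
  have := Fintype.ofFinite G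
  have ho := orderOf_eq_prime hr hr1
  have hi : IsConj r r⁻¹ := hconj _ (by simp [hr]) (by simpa using hr1)
  have ch := fun χ : IrrCharacter G => IsIrrCharacter.isCharacter χ.2
  choose x hx using fun χ => exists_int_three (ch χ) ho hi
  choose d hd hd0 hdd hdi using fun χ : IrrCharacter G => exists_deg χ.2
  have x1 : x (triv G) = 1 := triv_int (hx _)
  have d1 : d (triv G) = 1 := triv_nat (hd _)
  have hne : ∀ χ ∈ supp fun χ => x χ ≠ 0, (χ : G → ℂ) ≠ fun _ => 1 := fun χ hχ e =>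
    (mem_supp.1 hχ).1 (Subtype.ext e)
  have hm : ∀ χ, ∃ m : ℕ, (d χ : ℤ) + 8 * x χ = 9 * m := fun χ => by
    obtain ⟨m, -, -, h1, -⟩ := exists_fix (ch χ) _ _ (le_refl (centralizer {r}))
    rw [← Finset.add_sum_erase _ _ (Finset.mem_univ 1), Finset.sum_congr rfl (g := fun _ => (x χ : ℂ))
      (fun k hk => by
        rw [← hx]
        exact IsClassFunction.of_isConj (IsCharacter.isClassFunction (ch χ)) (hconj _
          (hG.cube r k hr hr1 (mem_centralizer_singleton_iff.1 k.2).symm)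
          fun e => Finset.ne_of_mem_erase hk (Subtype.ext e)).symm), Finset.sum_const,
      Finset.card_erase_of_mem (Finset.mem_univ _), Finset.card_univ, ← Nat.card_eq_fintype_card,
      show Nat.card (centralizer {r}) = 9 from h9, coe_one, hd] at h1
    refine ⟨m, Int.cast_injective (α := ℂ) ?_⟩
    simpa using h1
  have s1 := sum_mul_int hx hx
  have s2 := sum_mul_int (v := fun χ => d χ) hx (by simpa using hd)
  have s3 := cnt_int hx hx (g := r⁻¹) (by simpa using hx) hd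
  have s4 := sum_mul_int (u := fun χ => d χ) (v := fun χ => d χ) (by simpa using hd) (by simpa using hd)
  rw [if_pos (IsConj.refl _), h9] at s1
  rw [if_neg (by simpa using hr1)] at s2
  rw [if_pos (IsConj.refl _), show cc (1 : G) = Nat.card G by
    rw [cc, show centralizer {(1 : G)} = ⊤ by ext; simp [mem_centralizer_iff], card_top]] at s4
  have h8 : 2 ^ a * q ^ b % 9 = 8 := by
    have : (81 : ℤ) ∣ ∑ χ, (d χ * d χ - 2 * (x χ * d χ) + x χ * x χ) := Finset.dvd_sum fun χ _ => by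
      obtain ⟨m, hm⟩ := hm χ
      exact ⟨(m - x χ) ^ 2, by rw [show (d χ : ℤ) = 9 * m - 8 * x χ by omega]; ring⟩
    rw [Finset.sum_add_distrib, Finset.sum_sub_distrib, ← Finset.mul_sum, s1, s2, s4, hcard,
      mul_assoc] at this
    generalize 2 ^ a * q ^ b = M at this
    omega
  rw [sum_split (fun χ => x χ ≠ 0) _ (by simp +contextual), x1] at s1 s2 s3
  rw [d1] at s2 s3
  have D : Dat (supp fun χ => x χ ≠ 0) x d (2 ^ a * q ^ b) :=
    { ne := fun χ hχ => (mem_supp.1 hχ).2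
      dvd := fun χ _ => by rw [← mul_assoc, ← hcard]; exact hdd χ
      sq := fun χ hχ => by rw [← mul_assoc, ← hcard]; exact deg_sq_lt χ.2 (hne χ hχ) (hd χ)
      cong := fun χ _ => by obtain ⟨m, hm⟩ := hm χ; omega
      lt := fun χ hχ => abs_lt_deg hnc χ.2 (hne χ hχ) hr1 (hd χ) (hx χ)
      fix := fun χ _ => by obtain ⟨m, hm⟩ := hm χ; omega
      s1 := by simp only [pow_two]; omega
      s2 := by omega }
  obtain ⟨T⟩ : Nonempty (Sylow 2 G) := inferInstance
  have eT := card_sylow_two hq2 hq3 hcard T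
  obtain ⟨z, -, hz1, hz2, hzc⟩ := exists_central T.2 (T.ne_bot_of_dvd_card (by
    rw [hcard]; exact (Dvd.dvd.mul_left (dvd_pow_self 2 (by have := D.three_le hq; omega)) _).mul_right _))
  have oz := orderOf_eq_prime hz2 hz1
  have c1 : (T : Subgroup G) ≤ centralizer {z} := fun y hy =>
    mem_centralizer_singleton_iff.2 (hzc y hy).symm
  choose c hc using fun χ => exists_int_two (ch χ) oz
  have c0 : c (triv G) = 1 := triv_int (hc _)
  have s5 := sum_mul_int hx hc
  have s6 := cnt_int hc hc (g := r⁻¹) (by simpa using hx) hd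
  rw [if_neg (fun e => hz1 ((pow_eq_one_iff_of_coprime (by norm_num)).1 ⟨hz2, cube_of_isConj hr e⟩))]
    at s5
  rw [sum_split (fun χ => x χ ≠ 0) _ (by simp +contextual), x1, c0] at s5 s6
  have I : Inv2 (supp fun χ => x χ ≠ 0) x d c a (2 ^ a * q ^ b) :=
    { lt := fun χ hχ => abs_lt_deg hnc χ.2 (hne χ hχ) hz1 (hd χ) (hc χ)
      dvd := fun χ _ i hi => by
        have h1 : ((2 ^ i : ℕ) : ℤ) ∣ _ := (Int.natCast_dvd_natCast.2 hi).trans (hdi χ z _ (hc χ))
        have h2 : Nat.Coprime (2 ^ i) (centralizer {z}).index := Nat.Coprime.pow_left _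
          ((Nat.Prime.coprime_iff_not_dvd Nat.prime_two).2 fun h =>
            T.not_dvd_index (h.trans (index_dvd_of_le c1)))
        exact_mod_cast Int.dvd_of_dvd_mul_right_of_gcd_one h1 h2
      s1 := by omega
      s2 := by
        obtain ⟨m, hm⟩ := eT ▸ card_dvd_of_le c1
        refine ⟨cnt z z r⁻¹ * m * m, ?_⟩
        rw [show cc z = 2 ^ a * m from hm, d1, hcard] at s6
        simp only [pow_two]
        push_cast at s6 ⊢
        linear_combination s6 }
  have hN : ¬ q ^ b ∣ Nat.factorial 9 := fun h => by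
    obtain ⟨j, hj, h1⟩ := D.exists_odd hq
    have h2 := (pow_dvd_pow q hj).trans h
    have h3 := (hq.dvd_factorial).1 ((dvd_pow_self q j.succ_ne_zero).trans h2)
    have h5 : q = 5 ∨ q = 7 := by
      clear * - h3 hq hq2 hq3
      interval_cases q <;> first | omega | norm_num at hq
    have h4 : j = 0 := by
      by_contra h0
      have h6 := (pow_dvd_pow q (show 2 ≤ j + 1 by omega)).trans h2
      rcases h5 with rfl | rfl <;> norm_num [Nat.factorial] at h6
    subst h4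
    rcases h5 with rfl | rfl <;> norm_num at h1
  obtain ⟨XA, hA, hA'⟩ := locA hnc hq2 hq3 hcard hG hr hr1 h9 hN hconj
  obtain ⟨XB, hB, hB'⟩ := locB hq2 hq3 hcard hG hr hr1 h9
  refine D.false hq hq2 hq3 I (N := cnt r r r⁻¹) ?_ h8 hA hB ?_
  · rw [h9, hcard] at s3
    simp only [pow_succ, pow_zero, one_mul]
    push_cast at s3 ⊢
    linear_combination s3 / 9
  · have h1 := cnt_le hG hr hr1 h9
    have h2 := ncard_four hG hr hr1 h9
    have h3 := Set.ncard_le_ncard (s := {y | y ≠ 1 ∧ ∃ H, MaxInv r H ∧ y ∈ H})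
      (t := {y | y ≠ 1 ∧ ∃ H, MaxInv r H ∧ q ∣ Nat.card H ∧ y ∈ H} ∪
        {y | y ≠ 1 ∧ ∃ H, MaxInv r H ∧ (¬ q ∣ Nat.card H ∧ Nat.card H ≠ 4) ∧ y ∈ H} ∪
        {y | y ≠ 1 ∧ ∃ H, MaxInv r H ∧ Nat.card H = 4 ∧ y ∈ H}) (by
        rintro y ⟨hy, H, h, m⟩
        by_cases e1 : q ∣ Nat.card H
        · exact Or.inl (Or.inl ⟨hy, H, h, e1, m⟩)
        by_cases e2 : Nat.card H = 4
        · exact Or.inr ⟨hy, H, h, e2, m⟩
        · exact Or.inl (Or.inr ⟨hy, H, h, ⟨e1, e2⟩, m⟩))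
    have h4 := (Set.ncard_union_le _ _).trans' h3
    have h5 := Set.ncard_union_le {y | y ≠ 1 ∧ ∃ H, MaxInv r H ∧ q ∣ Nat.card H ∧ y ∈ H}
      {y | y ≠ 1 ∧ ∃ H, MaxInv r H ∧ (¬ q ∣ Nat.card H ∧ Nat.card H ≠ 4) ∧ y ∈ H}
    omega

end

end Cfsg.Agent.H4.K3
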