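import Cfsg.Agent.H4.K3g

/-! The case of two classes of elements of order three: the group has order 360. -/

set_option autoImplicit false
set_option linter.unusedSectionVars false

namespace Cfsg.Agent.H4.K3

open Subgroup Cfsg.Agent.H1

variable {G : Type*} [Group G]

structure Four (r s h : G) : Prop where
  cc : CC G
  r3 : r ^ 3 = 1
  r1 : r ≠ 1
  c9 : K3.cc r = 9
  comm : Commute r s
  hr : h * r * h⁻¹ = s
  hs : h * s * h⁻¹ = r⁻¹
  nc : ¬ IsConj r (r * s)

/-- powers indexed by `Fin 3` -/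
def pw (r : G) (i : Fin 3) : G := ![1, r, r⁻¹] i

theorem ne_inv {r : G} (hr : r ^ 3 = 1) (hr1 : r ≠ 1) : r ≠ r⁻¹ := fun e => hr1 (by
  rw [← hr, pow_succ, pow_two]
  nth_rw 3 [e]
  simp)

theorem pw_inj {r : G} (hr : r ^ 3 = 1) (hr1 : r ≠ 1) : Function.Injective (pw r) := by
  have := ne_inv hr hr1
  intro i j e
  fin_cases i <;> fin_cases j <;> simp_all [pw, eq_comm (a := (1 : G)), this.symm]

theorem pw_mem (r : G) (i : Fin 3) : pw r i ∈ zpowers r := by fin_cases i <;> simp [pw]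

namespace Four

variable {r s h : G} (H : Four r s h)
include H

theorem s3 : s ^ 3 = 1 := by rw [← H.hr, conj_pow, H.r3]; simp

theorem s1 : s ≠ 1 := by rw [← H.hr]; simpa using H.r1

theorem hr' : h * r⁻¹ * h⁻¹ = s⁻¹ := by rw [← H.hr]; group

theorem hs' : h * s⁻¹ * h⁻¹ = r := by rw [← inv_inv r, ← H.hs]; group

theorem not_mem : s ∉ zpowers r := fun hm => by
  rcases mem_zpowers_three H.r3 hm with e | e | e
  · exact H.s1 e
  · exact ne_inv H.r3 H.r1 (by rw [← H.hs, e, H.hr, e])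
  · have h1 := H.hs'
    rw [e, inv_inv, H.hr, e] at h1
    exact ne_inv H.r3 H.r1 h1.symm

theorem inj : Function.Injective fun p : Fin 3 × Fin 3 => pw r p.1 * pw s p.2 := by
  rintro ⟨i, j⟩ ⟨k, l⟩ e
  have e1 : (pw r k)⁻¹ * pw r i = pw s l * (pw s j)⁻¹ := by
    rw [inv_mul_eq_iff_eq_mul, ← mul_assoc, eq_mul_inv_iff_mul_eq]; exact e
  have h1 : pw s l * (pw s j)⁻¹ ∈ zpowers r := e1 ▸ mul_mem (inv_mem (pw_mem r k)) (pw_mem r i)
  have h2 : pw s l * (pw s j)⁻¹ = 1 := by
    rcases mem_zpowers_three H.s3 (mul_mem (pw_mem s l) (inv_mem (pw_mem s j))) with e | e | e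
    · exact e
    · exact absurd (e ▸ h1) H.not_mem
    · exact absurd (by simpa using (e ▸ h1 : s⁻¹ ∈ zpowers r)) H.not_mem
  rw [h2, inv_mul_eq_one] at e1
  rw [pw_inj H.r3 H.r1 e1, pw_inj H.s3 H.s1 (mul_inv_eq_one.1 h2)]

theorem comm_pw (i j : Fin 3) : Commute r (pw r i * pw s j) := by
  have := H.comm
  refine Commute.mul_right ?_ ?_
  · fin_cases i <;> simp [pw]
  · fin_cases j <;> simp [pw, this]

theorem bij [Finite G] : Function.Bijective fun p : Fin 3 × Fin 3 =>
    (⟨pw r p.1 * pw s p.2, mem_centralizer_singleton_iff.2 (H.comm_pw _ _).symm⟩ :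
      centralizer ({r} : Set G)) := by
  rw [Nat.bijective_iff_injective_and_card]
  exact ⟨fun p p' e => H.inj (congrArg Subtype.val e), by
    rw [show Nat.card (centralizer {r}) = 9 from H.c9]; simp⟩

theorem exists_pw [Finite G] {k : G} (hk : Commute r k) : ∃ i j, k = pw r i * pw s j := by
  obtain ⟨p, hp⟩ := H.bij.2 ⟨k, mem_centralizer_singleton_iff.2 hk.symm⟩
  exact ⟨p.1, p.2, (congrArg Subtype.val hp).symm⟩

theorem c1 : IsConj r s := isConj_iff.2 ⟨h, H.hr⟩
theorem c2 : IsConj r r⁻¹ := H.c1.trans (isConj_iff.2 ⟨h, H.hs⟩)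
theorem c3 : IsConj r s⁻¹ := H.c2.trans (isConj_iff.2 ⟨h, H.hr'⟩)
theorem c4 : IsConj (r * s) (r⁻¹ * s) :=
  isConj_iff.2 ⟨h, by rw [H.comm.inv_left.eq, ← H.hs]; nth_rw 2 [← H.hr]; group⟩
theorem c5 : IsConj (r * s) (r⁻¹ * s⁻¹) :=
  H.c4.trans (isConj_iff.2 ⟨h, by rw [H.comm.inv_inv.eq, ← H.hr']; nth_rw 3 [← H.hs]; group⟩)
theorem c6 : IsConj (r * s) (r * s⁻¹) :=
  H.c5.trans (isConj_iff.2 ⟨h, by
    rw [H.comm.inv_right.eq, show h * (r⁻¹ * s⁻¹) * h⁻¹ = (h * r⁻¹ * h⁻¹) * (h * s⁻¹ * h⁻¹) by group,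
      H.hr', H.hs']⟩)

theorem comm_of_cnt [Finite G] {p : G} (h1 : p ^ 3 = 1) (h2 : IsConj (r * s) (p⁻¹ * r⁻¹)) :
    Commute r p := by
  have w3 : (r * s) ^ 3 = 1 := by rw [H.comm.mul_pow, H.r3, H.s3, mul_one]
  have h3 := inX_of_cnt H.r3 h1 (cube_of_isConj w3 h2)
  rcases h3.dichotomy H.cc H.r3 with h4 | h4
  · simpa using h4.mul_right (Commute.refl r)
  · refine absurd ((h3.inv.isConj H.r3 (by rwa [orderOf_inv])).trans ((isConj_iff.2 ⟨r⁻¹, ?_⟩).trans
      h2.symm)) H.nc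
    have e : r * r = r⁻¹ := by rw [eq_inv_iff_mul_eq_one, ← H.r3, pow_succ, pow_two]
    rw [show r⁻¹ * ((p * r⁻¹)⁻¹ * r) * r⁻¹⁻¹ = p⁻¹ * (r * r) by simp [mul_assoc], e]

theorem cnt1 [Finite G] : cnt r (r * s) r⁻¹ ≤ 2 := by
  have e : r⁻¹ * r⁻¹ = r := by
    rw [← mul_inv_rev, inv_eq_iff_mul_eq_one, ← H.r3, pow_succ, pow_two]
  refine le_trans (Set.ncard_le_ncard (s := {p | IsConj r p ∧ IsConj (r * s) (p⁻¹ * r⁻¹)})
    (t := {s, s⁻¹}) fun p hp => ?_) ((Set.ncard_insert_le _ _).trans (by simp))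
  obtain ⟨h1, h2⟩ := hp
  obtain ⟨i, j, rfl⟩ := H.exists_pw (H.comm_of_cnt (cube_of_isConj H.r3 h1) h2)
  have n1 : ¬ IsConj (r * s) 1 := fun e => H.not_mem (by
    rw [← inv_eq_of_mul_eq_one_right (isConj_one_left.1 e)]; simp)
  fin_cases i <;> fin_cases j <;> simp only [pw, Fin.zero_eta, Fin.mk_one, Fin.reduceFinMk,
    Matrix.cons_val, mul_one, one_mul, inv_inv, mul_inv_cancel, e] at h1 h2 ⊢
  · exact absurd (isConj_one_left.1 h1) H.r1
  · simp
  · simp
  · exact absurd h2.symm H.nc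
  · exact absurd h1 H.nc
  · exact absurd (h1.trans H.c6.symm) H.nc
  · exact absurd h2 n1
  · exact absurd (h1.trans H.c4.symm) H.nc
  · exact absurd (h1.trans H.c5.symm) H.nc

theorem cnt2 [Finite G] : cnt (r * s) (r * s) r⁻¹ ≤ 2 := by
  have w3 : (r * s) ^ 3 = 1 := by rw [H.comm.mul_pow, H.r3, H.s3, mul_one]
  refine le_trans (Set.ncard_le_ncard (s := {p | IsConj (r * s) p ∧ IsConj (r * s) (p⁻¹ * r⁻¹)})
    (t := {r * s, r * s⁻¹}) fun p hp => ?_) ((Set.ncard_insert_le _ _).trans (by simp))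
  obtain ⟨h1, h2⟩ := hp
  obtain ⟨i, j, rfl⟩ := H.exists_pw (H.comm_of_cnt (cube_of_isConj w3 h1) h2)
  have n1 : ¬ IsConj (r * s) 1 := fun e => H.not_mem (by
    rw [← inv_eq_of_mul_eq_one_right (isConj_one_left.1 e)]; simp)
  fin_cases i <;> fin_cases j <;> simp only [pw, Fin.zero_eta, Fin.mk_one, Fin.reduceFinMk,
    Matrix.cons_val, mul_one, one_mul, inv_inv, mul_inv_rev, mul_inv_cancel_right] at h1 h2 ⊢
  · exact absurd h1 n1
  · exact absurd (H.c1.trans h1.symm) H.nc
  · exact absurd (H.c3.trans h1.symm) H.nc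
  · exact absurd h1.symm H.nc
  · simp
  · simp
  · exact absurd (H.c2.trans h1.symm) H.nc
  · exact absurd (H.c3.trans h2.symm) H.nc
  · exact absurd (H.c1.trans h2.symm) H.nc

theorem four_dvd : 4 ∣ orderOf h := by
  have a : ∀ n, h ^ (4 * n) * r = r * h ^ (4 * n) := fun n => by
    rw [pow_mul]
    refine (Commute.pow_left (a := h ^ 4) ?_ n).eq
    rw [Commute, SemiconjBy, ← mul_inv_eq_iff_eq_mul]
    calc h ^ 4 * r * (h ^ 4)⁻¹ = h * (h * (h * (h * r * h⁻¹) * h⁻¹) * h⁻¹) * h⁻¹ := by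
          simp only [pow_succ, pow_zero, one_mul, mul_inv_rev, mul_assoc]
      _ = r := by rw [H.hr, H.hs, H.hr', H.hs']
  have b : h ^ (orderOf h % 4) * r * (h ^ (orderOf h % 4))⁻¹ = r := by
    have e := pow_orderOf_eq_one h
    rw [← Nat.mod_add_div (orderOf h) 4, pow_add] at e
    rw [eq_inv_of_mul_eq_one_left e, inv_inv, mul_assoc, ← a]; simp
  have c : orderOf h % 4 < 4 := Nat.mod_lt _ (by norm_num)
  refine Nat.dvd_of_mod_eq_zero ?_
  generalize orderOf h % 4 = k at b c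
  interval_cases k
  · rfl
  · exact absurd (by rw [← H.hr, ← pow_one h, b]; simp) H.not_mem
  · refine absurd ?_ (ne_inv H.r3 H.r1)
    rw [← H.hs, ← H.hr]
    nth_rw 1 [← b]
    simp [pow_succ, mul_assoc]
  · refine absurd ?_ H.not_mem
    have : s⁻¹ = r := by
      rw [← H.hr', ← H.hs, ← H.hr]
      nth_rw 2 [← b]
      simp [pow_succ, mul_assoc]
    rw [← inv_mem_iff, this]; simp

end Four

theorem term4 {x y d m n k : ℤ} (hx : x * x ≤ 8) (hy : y * y ≤ 8) (hd : 0 < d) (hm : 0 ≤ m)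
    (e1 : d + 4 * x + 4 * y = 9 * m) (e2 : d + 2 * x = 3 * n) (e3 : d + 2 * y = 3 * k) (_h1 : m ≤ n)
    (_h2 : m ≤ k) : 0 ≤ (x * y * x / d + y * y * x / d + (x * x + y * y) / 10 + x * y / 20 : ℚ) := by
  have key : 0 ≤ 20 * (x * y * (x + y)) + d * (2 * (x * x + y * y) + x * y) := by
    have : x < 3 := by nlinarith
    have : -3 < x := by nlinarith
    have : y < 3 := by nlinarith
    have : -3 < y := by nlinarith
    interval_cases x <;> interval_cases y <;> omega
  have h3 : (0 : ℚ) < d := by exact_mod_cast hd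
  have h4 : (0 : ℚ) ≤ 20 * (x * y * (x + y)) + d * (2 * (x * x + y * y) + x * y) := by
    exact_mod_cast key
  have : (x * y * x / d + y * y * x / d + (x * x + y * y) / 10 + x * y / 20 : ℚ) =
      (20 * (x * y * (x + y)) + d * (2 * (x * x + y * y) + x * y)) / (20 * d) := by
    field_simp; ring
  rw [this]; positivity

theorem Four.card_eq [Finite G] [IsSimpleGroup G] {r s h : G} (H : Four r s h) :
    Nat.card G = 360 := by
  classical
  have : Fact (Nat.Prime 3) := ⟨Nat.prime_three⟩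
  have := Fintype.ofFinite G
  have w3 : (r * s) ^ 3 = 1 := by rw [H.comm.mul_pow, H.r3, H.s3, mul_one]
  have w1 : r * s ≠ 1 := fun e => H.not_mem (by rw [← inv_eq_of_mul_eq_one_right e]; simp)
  have wc : Commute r (r * s) := (Commute.refl r).mul_right H.comm
  have w9 : K3.cc (r * s) = 9 := by
    rw [K3.cc, show centralizer {r * s} = centralizer {r} from le_antisymm
      (fun y hy => mem_centralizer_singleton_iff.2 (H.cc.comm _ _ _ w3 w1
        (mem_centralizer_singleton_iff.1 hy).symm wc.symm))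
      (fun y hy => mem_centralizer_singleton_iff.2 (H.cc.comm _ _ _ H.r3 H.r1
        (mem_centralizer_singleton_iff.1 hy).symm wc))]
    exact H.c9
  have o1 := orderOf_eq_prime H.r3 H.r1
  have o2 := orderOf_eq_prime w3 w1
  have i2 : IsConj (r * s) (r * s)⁻¹ := by rw [mul_inv_rev, ← H.comm.inv_inv.eq]; exact H.c5
  have ch := fun χ : IrrCharacter G => IsIrrCharacter.isCharacter χ.2
  choose x hx using fun χ => exists_int_three (ch χ) o1 H.c2
  choose y hy using fun χ => exists_int_three (ch χ) o2 i2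
  choose d hd hd0 _ using fun χ : IrrCharacter G => exists_deg χ.2
  have x1 : x (triv G) = 1 := triv_int (hx _)
  have y1 : y (triv G) = 1 := triv_int (hy _)
  have d1 : d (triv G) = 1 := triv_nat (hd _)
  have hm : ∀ χ, ∃ m n k : ℕ, (d χ : ℤ) + 4 * x χ + 4 * y χ = 9 * m ∧ (d χ : ℤ) + 2 * x χ = 3 * n ∧
      (d χ : ℤ) + 2 * y χ = 3 * k ∧ m ≤ n ∧ m ≤ k := fun χ => by
    have cf := fun g g' => IsClassFunction.of_isConj (IsCharacter.isClassFunction (ch χ)) (x := g)
      (y := g')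
    have e0 : ∑ g : centralizer ({r} : Set G), (χ : G → ℂ) g = d χ + 4 * x χ + 4 * y χ := by
      rw [← H.bij.sum_comp]
      simp only [Fintype.sum_prod_type, Fin.sum_univ_three, pw, Matrix.cons_val, mul_one, one_mul,
        ← cf _ _ H.c1, ← cf _ _ H.c2, ← cf _ _ H.c3, ← cf _ _ H.c4, ← cf _ _ H.c5, ← cf _ _ H.c6,
        hx, hy, hd]
      ring
    obtain ⟨n, m, l1, a1, a2⟩ := exists_fix (ch χ) (zpowers r) (centralizer {r})
      (by simp [mem_centralizer_singleton_iff])
    obtain ⟨k, m', l2, b1, b2⟩ := exists_fix (ch χ) (zpowers (r * s)) (centralizer {r})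
      (zpowers_le.2 (mem_centralizer_singleton_iff.2 wc.symm))
    rw [sum_three (ch χ) o1 H.c2, Nat.card_zpowers, o1, hd, hx] at a1
    rw [sum_three (ch χ) o2 i2, Nat.card_zpowers, o2, hd, hy] at b1
    rw [e0, show Nat.card (centralizer {r}) = 9 from H.c9] at a2 b2
    have : (d χ : ℤ) + 4 * x χ + 4 * y χ = 9 * m := by exact_mod_cast a2
    have : (d χ : ℤ) + 4 * x χ + 4 * y χ = 9 * m' := by exact_mod_cast b2
    exact ⟨m, n, k, by assumption, by exact_mod_cast a1, by exact_mod_cast b1, l1, by omega⟩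
  have s1 := sum_mul_int hx hx
  have s2 := sum_mul_int hy hy
  have s3 := sum_mul_int hx hy
  have s4 := sum_mul_int (v := fun χ => d χ) hx (by simpa using hd)
  have s5 := sum_mul_int (v := fun χ => d χ) hy (by simpa using hd)
  have s6 := sum_mul_int (u := fun χ => d χ) (v := fun χ => d χ) (by simpa using hd) (by simpa using hd)
  have s7 := cnt_int hx hy (g := r⁻¹) (by simpa using hx) hd
  have s8 := cnt_int hy hy (g := r⁻¹) (by simpa using hx) hd
  rw [if_pos (IsConj.refl _), H.c9] at s1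
  rw [if_pos (IsConj.refl _), w9] at s2
  rw [if_neg H.nc] at s3
  rw [if_neg (by simpa using H.r1)] at s4
  rw [if_neg (by rw [isConj_one_left]; exact w1)] at s5
  rw [if_pos (IsConj.refl _), show K3.cc (1 : G) = Nat.card G by
    rw [K3.cc, show centralizer {(1 : G)} = ⊤ by ext; simp [mem_centralizer_iff], card_top]] at s6
  have h81 : Nat.card G % 81 = 36 := by
    have : (81 : ℤ) ∣ ∑ χ, (d χ * d χ + x χ * x χ + 4 * (y χ * y χ) + 2 * (x χ * d χ) -
        4 * (y χ * d χ) - 4 * (x χ * y χ)) := Finset.dvd_sum fun χ _ => by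
      obtain ⟨m, n, k, e1, e2, e3, -⟩ := hm χ
      obtain ⟨t, ht⟩ : (9 : ℤ) ∣ d χ + x χ - 2 * y χ := by omega
      exact ⟨t ^ 2, by rw [show (d χ : ℤ) = 9 * t - x χ + 2 * y χ by omega]; ring⟩
    simp only [Finset.sum_add_distrib, Finset.sum_sub_distrib, ← Finset.mul_sum, s1, s2, s3, s4, s5,
      s6] at this
    omega
  have h720 : Nat.card G ≤ 720 := by
    rw [sum_split (fun _ => True) _ (by simp)] at s1 s2 s3 s7 s8
    simp only [x1, y1, d1, H.c9, w9] at s1 s2 s3 s7 s8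
    have t := Finset.sum_nonneg (s := supp fun _ => True) fun χ hχ => by
      obtain ⟨m, n, k, e1, e2, e3, l1, l2⟩ := hm χ
      have b1 := Finset.single_le_sum (f := fun χ => x χ * x χ) (fun _ _ => mul_self_nonneg _) hχ
      have b2 := Finset.single_le_sum (f := fun χ => y χ * y χ) (fun _ _ => mul_self_nonneg _) hχ
      exact term4 (by omega) (by omega) (by exact_mod_cast hd0 χ) (by positivity) e1 e2 e3
        (by exact_mod_cast l1) (by exact_mod_cast l2)
    have q1 : ∑ χ ∈ supp fun _ => True, (x χ * x χ : ℚ) = 8 := by exact_mod_cast (by omega)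
    have q2 : ∑ χ ∈ supp fun _ => True, (y χ * y χ : ℚ) = 8 := by exact_mod_cast (by omega)
    have q3 : ∑ χ ∈ supp fun _ => True, (x χ * y χ : ℚ) = -1 := by exact_mod_cast (by omega)
    simp only [Finset.sum_add_distrib, ← Finset.sum_div, q1, q2, q3, Int.cast_natCast] at t
    have c1 : (cnt r (r * s) r⁻¹ : ℚ) ≤ 2 := by exact_mod_cast H.cnt1
    have c2 : (cnt (r * s) (r * s) r⁻¹ : ℚ) ≤ 2 := by exact_mod_cast H.cnt2
    have g0 : (0 : ℚ) < Nat.card G := by exact_mod_cast Nat.card_pos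
    have : (Nat.card G : ℚ) ≤ 720 := by
      push_cast at s7 s8
      nlinarith
    exact_mod_cast this
  have h4 := H.four_dvd.trans (orderOf_dvd_natCard h)
  have hi := (centralizer {r}).index_mul_card
  rw [show Nat.card (centralizer {r}) = 9 from H.c9] at hi
  obtain e | e | e : Nat.card G = 36 ∨ Nat.card G = 360 ∨ Nat.card G = 684 := by omega
  · have := card_dvd_factorial (H := centralizer {r}) fun e' => by rw [e', index_top] at hi; omega
    rw [show (centralizer {r}).index = 4 by omega, e] at this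
    norm_num [Nat.factorial] at this
  · exact e
  · exfalso
    have : Fact (Nat.Prime 19) := ⟨by norm_num⟩
    obtain ⟨Q⟩ : Nonempty (Sylow 19 G) := inferInstance
    have e1 := card_sylow_eq (m := 36) (k := 1) Q e (by norm_num)
    have e2 := (Q : Subgroup G).index_mul_card
    rw [e, show Nat.card (Q : Subgroup G) = 19 from e1] at e2
    have e3 := card_sylow_modEq_one 19 G
    have e4 := Q.card_dvd_index
    rw [show (Q : Subgroup G).index = 36 by omega] at e4
    have e5 := Nat.le_of_dvd (by norm_num) e4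
    have e6 : Nat.card (Sylow 19 G) = 1 := by
      generalize Nat.card (Sylow 19 G) = n at *
      have : n = 1 ∨ n = 20 := by unfold Nat.ModEq at e3; omega
      rcases this with rfl | rfl
      · rfl
      · norm_num at e4
    rw [Q.card_eq_index_normalizer, index_eq_one] at e6
    rcases Normal.eq_bot_or_eq_top (normalizer_eq_top_iff.1 e6) with e' | e'
    · rw [e', card_bot] at e1; omega
    · rw [e', card_top] at e1; omega

end Cfsg.Agent.H4.K3
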