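import Cfsg.Agent.H4.K3h
import Cfsg.Agent.H3.Carmichael

/-! Recognition of the alternating group of degree six. -/

set_option autoImplicit false
set_option linter.unusedSectionVars false

namespace Cfsg.Agent.H4.K3

open Subgroup

abbrev Pt := Option (Fin 3 × Fin 3)

def tr (i j : Fin 3) : Pt → Pt := Option.map fun p => (p.1 + i, p.2 + j)

def rot : Pt → Pt := Option.map fun p => (-p.2, p.1)

def cand (i : ℕ) (a b : Pt) : Pt → Pt
  | none => some (0, 0)
  | some (0, 0) => none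
  | some (1, 0) => a
  | some (0, 1) => rot^[i] a
  | some (2, 0) => rot^[i] (rot^[i] a)
  | some (0, 2) => rot^[i] (rot^[i] (rot^[i] a))
  | some (1, 1) => b
  | some (2, 1) => rot^[i] b
  | some (2, 2) => rot^[i] (rot^[i] b)
  | some (1, 2) => rot^[i] (rot^[i] (rot^[i] b))

def tau : Pt → Pt := cand 3 (some (1, 0)) (some (2, 1))

theorem cand_good : ∀ i : Fin 4, ∀ a b : Pt, Function.Injective (cand i a b) →
    (∀ k l m n : Fin 3,
      tr m n (cand i a b (tr k l (cand i a b (tr 1 0 (cand i a b none))))) = none →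
      tr m n (cand i a b (tr k l (cand i a b (tr 1 0 (cand i a b (some (0, 0))))))) = some (0, 0) →
      ∃ j : Fin 4, ∀ p,
        tr m n (cand i a b (tr k l (cand i a b (tr 1 0 (cand i a b p))))) = rot^[j] p) →
    ∃ j : Fin 4, ∀ p, cand i a b (rot^[j] p) = tau p := by decide +kernel

variable {G : Type*} [Group G]

theorem alt_of_action [Finite G] (hc : Nat.card G = 360) (ψ : G → Pt → Pt)
    (hψ : ∀ a b p, ψ (a * b) p = ψ a (ψ b p)) (hi : ∀ a, (∀ p, ψ a p = p) → a = 1) {r s t : G}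
    (hr : ψ r = tr 1 0) (hs : ψ s = tr 0 1) (ht : ψ t = tau) :
    Nonempty (G ≃* alternatingGroup (Fin 6)) := by
  let x : Fin 6 → G := ![r, t * r * t, s * s * t * r * t * s, s * t * r * t * s * s, 1, 1]
  have hx : H3.Carm x (Set.univ \ {4, 5}) := by
    constructor
    · intro i hi'
      refine hi _ ?_
      fin_cases i <;> simp only [x, pow_succ, pow_zero, one_mul, Fin.zero_eta, Fin.mk_one,
        Fin.reduceFinMk, Matrix.cons_val, hψ, hr, hs, ht] <;> first | decide | simp at hi'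
    · intro i hi' j hj' hij
      refine hi _ ?_
      fin_cases i <;> fin_cases j <;> simp only [x, pow_succ, pow_zero, one_mul, Fin.zero_eta,
        Fin.mk_one, Fin.reduceFinMk, Matrix.cons_val, hψ, hr, hs, ht] <;>
        first | decide | exact absurd rfl hij | (exfalso; simp at hi' hj')
  obtain ⟨f, hf, hf'⟩ := H3.carmichael Set.univ (Set.mem_univ 4) (Set.mem_univ 5) (by decide) x hx
  rw [H3.AltOn_univ] at hf
  let φ : alternatingGroup (Fin 6) →* G := MonoidHom.mk' (fun g => f g) fun a b => hf a a.2 b b.2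
  have := alternatingGroup.isSimpleGroup (α := Fin 6) (by simp)
  have h1 : φ.ker = ⊥ := (Normal.eq_bot_or_eq_top inferInstance).resolve_right fun e => by
    have h2 : (⟨H3.c3 0 4 5, Equiv.Perm.mem_alternatingGroup.2 (by decide)⟩ :
      alternatingGroup (Fin 6)) ∈ φ.ker := e ▸ mem_top _
    have h3 : r = 1 := (hf' 0 trivial (by decide) (by decide)).symm.trans h2
    have h4 := hψ r r (some (0, 0))
    rw [h3, mul_one, ← h3, hr] at h4
    exact absurd h4 (by decide)
  refine ⟨(MulEquiv.ofBijective φ ((Nat.bijective_iff_injective_and_card φ).2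
    ⟨φ.ker_eq_bot_iff.1 h1, ?_⟩)).symm⟩
  rw [hc, nat_card_alternatingGroup]
  simp [Nat.factorial]

theorem pw_add {r : G} (hr : r ^ 3 = 1) (i j : Fin 3) : pw r (i + j) = pw r j * pw r i := by
  have e : r * r = r⁻¹ := by rw [eq_inv_iff_mul_eq_one, ← hr, pow_succ, pow_two]
  have e' : r⁻¹ * r⁻¹ = r := by rw [← mul_inv_rev, e, inv_inv]
  fin_cases i <;> fin_cases j <;> simp [pw, e, e']

theorem Four.nine {r s h : G} (H : Four r s h) [Finite G] :
    ∃ h', Four r s h' ∧ h' ^ 4 = 1 := by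
  have a : ∀ x, Commute r x → h ^ 4 * x * (h ^ 4)⁻¹ = x → Commute (h ^ 4) x := fun x _ e =>
    mul_inv_eq_iff_eq_mul.1 e
  have b : Commute r (h ^ 4) := by
    rw [Commute, SemiconjBy, eq_comm, ← mul_inv_eq_iff_eq_mul]
    calc h ^ 4 * r * (h ^ 4)⁻¹ = h * (h * (h * (h * r * h⁻¹) * h⁻¹) * h⁻¹) * h⁻¹ := by
          simp only [pow_succ, pow_zero, one_mul, mul_inv_rev, mul_assoc]
      _ = r := by rw [H.hr, H.hs, H.hr', H.hs']
  have c := H.cc.cube _ _ H.r3 H.r1 b
  have d := H.cc.comm _ _ _ H.r3 H.r1 b H.comm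
  refine ⟨h * (h ^ 4) ^ 2, ⟨H.cc, H.r3, H.r1, H.c9, H.comm, ?_, ?_, H.nc⟩, ?_⟩
  · rw [mul_assoc h, ← (b.pow_right 2).eq, ← H.hr]; group
  · rw [mul_assoc h, (d.pow_left 2).eq, ← H.hs]; group
  · rw [← one_pow 3, ← c]; group

theorem Four.alt [Finite G] [IsSimpleGroup G] {r s h : G} (H : Four r s h) :
    Nonempty (G ≃* alternatingGroup (Fin 6)) := by
  classical
  have hc := H.card_eq
  obtain ⟨h, H, h4⟩ := H.nine
  set R := centralizer ({r} : Set G) with hR
  have mR : ∀ x, x ∈ R ↔ Commute r x := fun x =>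
    mem_centralizer_singleton_iff.trans ⟨fun e => e.symm, fun e => e.symm⟩
  set B := normalizer (R : Set G) with hB
  have mB : ∀ g, Commute r (g * r * g⁻¹) → g ∈ B := fun g hg => mem_normalizer_of fun x hx =>
    (mR _).2 (H.cc.comm (g * r * g⁻¹) _ _ (by rw [conj_pow, H.r3]; simp) (by simpa using H.r1)
      hg.symm (((mR x).1 hx).conj g))
  have hB' : h ∈ B := mB h (H.hr ▸ H.comm)
  have dec : ∀ g ∈ B, ∃ i : Fin 4, ∃ k ∈ R, g = h ^ (i : ℕ) * k := fun g hg => by
    obtain ⟨i, j, e⟩ := H.exists_pw ((mR _).1 ((mem_normalizer_iff.1 hg r).1 ((mR r).2 rfl)))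
    have c : IsConj r (pw r i * pw s j) := isConj_iff.2 ⟨g, e⟩
    have key : ∀ n : Fin 4, g * r * g⁻¹ = h ^ (n : ℕ) * r * (h ^ (n : ℕ))⁻¹ →
        ∃ i : Fin 4, ∃ k ∈ R, g = h ^ (i : ℕ) * k := fun n e =>
      ⟨n, (h ^ (n : ℕ))⁻¹ * g, (mR _).2 (by
        rw [Commute, SemiconjBy, mul_assoc, mul_inv_eq_iff_eq_mul.1 e]; group), by simp⟩
    have e2 : h ^ 2 * r * (h ^ 2)⁻¹ = r⁻¹ := by rw [← H.hs, ← H.hr]; simp [pow_succ, mul_assoc]
    have e3 : h ^ 3 * r * (h ^ 3)⁻¹ = s⁻¹ := by rw [← H.hr', ← e2]; simp [pow_succ, mul_assoc]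
    fin_cases i <;> fin_cases j <;> simp only [pw, Fin.zero_eta, Fin.mk_one, Fin.reduceFinMk,
      Matrix.cons_val, mul_one, one_mul] at c e
    · exact absurd (isConj_one_left.1 c) H.r1
    · exact key 1 (by simp [e, H.hr])
    · exact key 3 (e.trans e3.symm)
    · exact key 0 (by simp [e])
    · exact absurd c H.nc
    · exact absurd (c.trans H.c6.symm) H.nc
    · exact key 2 (e.trans e2.symm)
    · exact absurd (c.trans H.c4.symm) H.nc
    · exact absurd (c.trans H.c5.symm) H.nc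
  have cR : Nat.card R = 9 := H.c9
  have cB : B.index = 10 := by
    have h1 : Nat.card B ≤ 36 := by
      refine le_of_le_of_eq (Nat.card_le_card_of_surjective (fun p : Fin 4 × R =>
        (⟨h ^ (p.1 : ℕ) * p.2, mul_mem (pow_mem hB' _) (le_normalizer p.2.2)⟩ : B)) fun g => ?_)
        (by simp [cR])
      obtain ⟨i, k, hk, e⟩ := dec g g.2
      exact ⟨(i, ⟨k, hk⟩), Subtype.ext e.symm⟩
    have h2 := H.four_dvd.trans (B.orderOf_dvd_natCard hB')
    have h3 : 9 ∣ Nat.card B := cR ▸ card_dvd_of_le le_normalizer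
    have h5 : 0 < Nat.card B := Nat.card_pos
    have h6 := B.index_mul_card
    rw [show Nat.card B = 36 by omega] at h6
    omega
  set w : G ⧸ B := ((1 : G) : G ⧸ B) with hw
  have sw : ∀ g : G, g • w = w ↔ g ∈ B := fun g => by
    rw [hw, MulAction.Quotient.smul_coe, smul_eq_mul, mul_one, eq_comm, QuotientGroup.eq]; simp
  have free : ∀ k ∈ R, ∀ p : G ⧸ B, p ≠ w → k • p = p → k = 1 := fun k hk p hp e => by
    obtain ⟨g, rfl⟩ := QuotientGroup.mk_surjective p
    by_contra k1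
    have k3 := H.cc.cube _ _ H.r3 H.r1 ((mR k).1 hk)
    rw [MulAction.Quotient.smul_coe, smul_eq_mul, eq_comm, QuotientGroup.eq, ← mul_assoc] at e
    have c3 : (g⁻¹ * k * g) ^ 3 = 1 := by simpa [k3] using conj_pow (a := g⁻¹) (b := k) (i := 3)
    have a1 : g⁻¹ * k * g ∈ R := by
      have : Fact (Nat.Prime 3) := ⟨Nat.prime_three⟩
      have pR : IsPGroup 3 R := IsPGroup.of_card (n := 2) cR
      have iR := R.index_mul_card
      have := (IsPGroup.of_card_dvd_pow (G := zpowers (g⁻¹ * k * g)) (n := 1) (by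
        rw [Nat.card_zpowers]; exact orderOf_dvd_of_pow_eq_one c3)).inf_normalizer_sylow
        (pR.toSylow (by rw [cR, hc] at iR; omega))
      exact (this.le ⟨mem_zpowers _, e⟩).2
    have a2 := H.cc.comm _ _ _ c3 (fun e => k1 (eq_one_of_conj e)) ((mR _).1 a1).symm
      (by simpa using ((mR k).1 hk).symm.conj g⁻¹)
    have a3 := mB g⁻¹ (by simpa using a2)
    exact hp (by rw [hw, QuotientGroup.eq]; simpa using a3)
  obtain ⟨o, ho, ho'⟩ : ∃ b ∈ MulAction.fixedPoints (zpowers h) (G ⧸ B), w ≠ b :=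
    (IsPGroup.of_card_dvd_pow (p := 2) (G := zpowers h) (n := 2) (by
      rw [Nat.card_zpowers]; exact orderOf_dvd_of_pow_eq_one h4
      )).exists_fixed_point_of_prime_dvd_card_of_fixed_point (G ⧸ B)
      (by rw [← index_eq_card, cB]; norm_num) (a := w) fun g => (sw g).2 (zpowers_le.2 hB' g.2)
  have ho1 : h • o = o := ho ⟨h, mem_zpowers h⟩
  have mp : ∀ i j, pw r i * pw s j ∈ R := fun i j => (mR _).2 (H.comm_pw i j)
  let e : Pt → G ⧸ B := fun p => p.elim w fun p => (pw r p.1 * pw s p.2) • o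
  have ne : ∀ k ∈ R, k • o ≠ w := fun k hk e => ho' (by
    rw [← inv_smul_eq_iff.2 e.symm, (sw _).2 (le_normalizer (inv_mem hk))])
  have he : Function.Bijective e := by
    rw [Nat.bijective_iff_injective_and_card]
    refine ⟨?_, by rw [← index_eq_card, cB]; simp⟩
    rintro (_ | p) (_ | p') e'
    · rfl
    · exact absurd e'.symm (ne _ (mp _ _))
    · exact absurd e' (ne _ (mp _ _))
    · have := free _ (mul_mem (inv_mem (mp p'.1 p'.2)) (mp p.1 p.2)) o ho'.symm (by
        rw [mul_smul, inv_smul_eq_iff]; exact e')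
      exact congrArg some (H.inj (inv_mul_eq_one.1 this).symm)
  let E := Equiv.ofBijective e he
  let ψ : G → Pt → Pt := fun g p => E.symm (g • e p)
  have ψe : ∀ g p p', ψ g p = p' ↔ g • e p = e p' := fun g p p' => E.symm_apply_eq
  have hψ : ∀ a b p, ψ (a * b) p = ψ a (ψ b p) := fun a b p => by
    rw [ψe, ← (ψe _ _ _).1 rfl, ← (ψe b p _).1 rfl, mul_smul]
  have e0 : e (some (0, 0)) = o := by simp [e, pw]
  have cp : ∀ i j, Commute (pw r i) (pw s j) := fun i j => by
    have := H.comm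
    fin_cases i <;> fin_cases j <;> simp [pw, this]
  have hT : ∀ i j, ψ (pw r i * pw s j) = tr i j := fun i j => funext fun p => by
    rw [ψe]
    rcases p with _ | p
    · exact (sw _).2 (le_normalizer (mp i j))
    · change _ • _ • o = (pw r (p.1 + i) * pw s (p.2 + j)) • o
      rw [← mul_smul, pw_add H.r3, pw_add H.s3, mul_assoc, mul_assoc, ← mul_assoc (pw s j),
        ← (cp _ _).eq, mul_assoc]
  have hH : ψ h = rot := funext fun p => by
    rw [ψe]
    rcases p with _ | p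
    · exact (sw _).2 hB'
    · change _ • _ • o = (pw r (-p.2) * pw s p.1) • o
      have a1 : ∀ i, h * pw r i * h⁻¹ = pw s i := fun i => by
        fin_cases i <;> simp [pw, H.hr, H.hr']
      have a2 : ∀ i, h * pw s i * h⁻¹ = pw r (-i) := fun i => by
        fin_cases i <;> simp [pw, H.hs, H.hs']
      rw [(cp (-p.2) _).eq, ← a2, ← a1 p.1, ← mul_smul]
      nth_rw 2 [← ho1]
      rw [← mul_smul]; congr 1; group
  have hHn : ∀ n, ψ (h ^ n) = rot^[n] := fun n => by
    induction n with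
    | zero => funext p; rw [ψe]; simp
    | succ n ih => funext p; rw [pow_succ, hψ, ih, hH]; rfl
  have stab : ∀ g, ψ g none = none → ψ g (some (0, 0)) = some (0, 0) →
      ∃ j : Fin 4, g = h ^ (j : ℕ) := fun g h1 h2 => by
    rw [ψe] at h1 h2
    obtain ⟨j, k, hk, rfl⟩ := dec g ((sw g).1 h1)
    have a1 : h ^ (j : ℕ) • o = o := ho ⟨_, pow_mem (mem_zpowers h) _⟩
    rw [e0, mul_smul] at h2
    rw [free k hk o ho'.symm (smul_left_cancel _ (h2.trans a1.symm)), mul_one]
    exact ⟨j, rfl⟩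
  have hi : ∀ g, (∀ p, ψ g p = p) → g = 1 := fun g hg => by
    obtain ⟨j, rfl⟩ := stab g (hg _) (hg _)
    have := hg (some (1, 0))
    rw [hHn] at this
    obtain rfl : j = 0 := by clear hg; revert j; decide
    simp
  obtain ⟨t, t1, t2⟩ : ∃ t, ψ t none = some (0, 0) ∧ ψ t (some (0, 0)) = none := by
    obtain ⟨g, hg⟩ := MulAction.exists_smul_eq G w o
    obtain ⟨p, hp⟩ := he.2 (g⁻¹ • w)
    rcases p with _ | p
    · exact absurd (by rw [← hg]; exact (smul_eq_iff_eq_inv_smul g).2 hp) ho'.symm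
    refine ⟨g * (pw r p.1 * pw s p.2), ?_, ?_⟩ <;> rw [ψe, e0, mul_smul]
    · exact (congrArg _ ((sw _).2 (le_normalizer (mp _ _)))).trans hg
    · exact (smul_eq_iff_eq_inv_smul g).2 hp
  have tinv : ∀ p, ψ t⁻¹ (ψ t p) = p := fun p => by rw [← hψ, ψe]; simp
  obtain ⟨i, ei⟩ := stab (t * h * t⁻¹) (by
    rw [hψ, hψ, ← t2, tinv, hH]; rfl) (by rw [hψ, hψ, ← t1, tinv, hH]; rfl)
  have tr' : ∀ p, ψ t (rot p) = rot^[i] (ψ t p) := fun p => by
    rw [← hHn, ← ei, ← hψ, ← hH, ← hψ]; simp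
  have tc : ψ t = cand i (ψ t (some (1, 0))) (ψ t (some (1, 1))) := by
    funext p
    rcases p with _ | ⟨a, b⟩
    · exact t1
    · fin_cases a <;> fin_cases b <;> simp only [cand, Fin.zero_eta, Fin.mk_one, Fin.reduceFinMk,
        ← tr', t2] <;> rfl
  generalize ψ t (some (1, 0)) = a, ψ t (some (1, 1)) = b at tc
  obtain ⟨j, hj⟩ := cand_good i a b (by
    rw [← tc]; exact fun p p' e => by rw [← tinv p, e, tinv]) (by
    intro k l m n h1 h2
    simp only [← tc, ← hT, ← hψ] at h1 h2 ⊢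
    obtain ⟨j, e⟩ := stab _ h1 h2
    exact ⟨j, fun p => by rw [e, hHn]⟩)
  refine alt_of_action hc ψ hψ hi (r := r) (s := s) (t := t * h ^ (j : ℕ))
    (by simpa [pw] using hT 1 0) (by simpa [pw] using hT 0 1) (funext fun p => ?_)
  rw [hψ, hHn, tc, hj]

end Cfsg.Agent.H4.K3
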