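import Mathlib

/-! Arithmetic for simple groups of order `9 * 2 ^ a * q ^ b`: a certified search. -/

set_option autoImplicit false

namespace Cfsg.Agent.H4.K3

abbrev Item := ℕ × ℤ × ℤ × ℤ

/-- all ways to pick items of total weight `w` lead to `P` -/
def ok (P : ℤ → ℤ → ℤ → Bool) (lim K : ℤ) : List Item → ℕ → ℤ → ℤ → ℤ → Bool
  | [], w, s, t, f => w != 0 || P s t f
  | i :: L, w, s, t, f =>
    if w = 0 then P s t f else if lim < t - w * K then true else
      (List.range (w / i.1 + 1)).all fun n =>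
        ok P lim K L (w - n * i.1) (s + n * i.2.1) (t + n * i.2.2.1) (f + n * i.2.2.2)

theorem ok_sound {ι : Type*} (P : ℤ → ℤ → ℤ → Bool) (lim K : ℤ)
    (hP : ∀ s t f, lim < t → P s t f = true) (it : ι → Item) (L : List Item) :
    ∀ (S : Finset ι) (w : ℕ) (s t f : ℤ), (∀ χ ∈ S, it χ ∈ L) → (∀ χ ∈ S, 0 < (it χ).1) →
      (∀ χ ∈ S, -((it χ).1 * K) ≤ (it χ).2.2.1) →
      ∑ χ ∈ S, (it χ).1 = w → ok P lim K L w s t f = true →
      P (s + ∑ χ ∈ S, (it χ).2.1) (t + ∑ χ ∈ S, (it χ).2.2.1) (f + ∑ χ ∈ S, (it χ).2.2.2) = true := by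
  classical
  induction L with
  | nil =>
    intro S w s t f h1 _ _ h3 h4
    have : S = ∅ := Finset.eq_empty_of_forall_notMem fun χ hχ => by simpa using h1 χ hχ
    subst this
    simp only [Finset.sum_empty] at h3
    subst h3
    simpa [ok] using h4
  | cons i L ih =>
    intro S w s t f h1 h2 hK h3 h4
    rw [ok] at h4
    split_ifs at h4 with hw hl
    · have : S = ∅ := Finset.eq_empty_of_forall_notMem fun χ hχ => by
        have := Finset.single_le_sum (f := fun χ => (it χ).1) (fun _ _ => Nat.zero_le _) hχ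
        have := h2 χ hχ
        omega
      subst this
      simpa using h4
    · refine hP _ _ _ (hl.trans_le ?_)
      have := Finset.sum_le_sum hK
      rw [Finset.sum_neg_distrib, ← Finset.sum_mul, ← Nat.cast_sum, h3] at this
      linarith
    · have key : ∀ {M : Type} [AddCommMonoid M] (g : Item → M), ∑ χ ∈ S, g (it χ) =
          (S.filter fun χ => it χ = i).card • g i + ∑ χ ∈ S.filter fun χ => ¬ it χ = i, g (it χ) := by
        intro M _ g
        rw [← Finset.sum_filter_add_sum_filter_not S (fun χ => it χ = i), ← Finset.sum_const]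
        congr 1
        exact Finset.sum_congr rfl fun χ hχ => by rw [(Finset.mem_filter.1 hχ).2]
      set n := (S.filter fun χ => it χ = i).card with hn
      have e1 := key (fun i => i.1)
      rw [h3, smul_eq_mul] at e1
      have hle : n < w / i.1 + 1 := by
        rcases Nat.eq_zero_or_pos n with h | h
        · exact h ▸ Nat.succ_pos _
        · obtain ⟨χ, hχ⟩ := Finset.card_pos.1 h
          have h5 := h2 χ (Finset.mem_filter.1 hχ).1
          rw [(Finset.mem_filter.1 hχ).2] at h5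
          exact Nat.lt_succ_of_le ((Nat.le_div_iff_mul_le h5).2 (by omega))
      have h5 := List.all_eq_true.1 h4 n (List.mem_range.2 hle)
      have h6 := ih (S.filter fun χ => ¬ it χ = i) _ _ _ _
        (fun χ hχ => (List.mem_cons.1 (h1 χ (Finset.mem_filter.1 hχ).1)).resolve_left
          (Finset.mem_filter.1 hχ).2)
        (fun χ hχ => h2 χ (Finset.mem_filter.1 hχ).1)
        (fun χ hχ => hK χ (Finset.mem_filter.1 hχ).1) (by omega) h5
      rw [key (fun i => i.2.1), key (fun i => i.2.2.1), key (fun i => i.2.2.2)]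
      simpa only [nsmul_eq_mul, add_assoc] using h6

/-- the marker of a pair (value, degree) -/
def mark (q D : ℕ) (x : ℤ) (d : ℕ) : ℤ :=
  if d % q ≠ 0 then 0 else if x = -1 ∧ d = D then 1 else if x = 1 ∧ d = 100 then 16 else 256

def item (q D M : ℕ) (x : ℤ) (d : ℕ) : Item :=
  (x.natAbs ^ 2, x * d, x ^ 3 * (M / d : ℕ), mark q D x d)

def adm (M : ℕ) (x : ℤ) (d : ℕ) : Bool :=
  d ^ 2 < 9 * M && (d - x) % 9 == 0 && x.natAbs < d && 0 ≤ d + 8 * x

def items (a q b : ℕ) : List Item :=
  [2, 1, -2, -1].flatMap fun x => (List.range (a + 1)).reverse.flatMap fun i =>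
    (List.range (b + 1)).filterMap fun j =>
      if adm (2 ^ a * q ^ b) x (2 ^ i * q ^ j) then
        some (item q (q ^ b) (2 ^ a * q ^ b) x (2 ^ i * q ^ j)) else none

def leaf (M B : ℕ) (v s t f : ℤ) : Bool :=
  s != -1 || (M + t) % 9 != 0 || 9 * B - M < t || f == v

def condA (a q b : ℕ) : Bool :=
  q ^ b % 3 == 1 && (3 * 2 ^ a % q == 1 || 3 * 2 ^ (a - 1) % q == 1) && q ^ b ≤ (3 * 2 ^ a) ^ 2

def bndB (k n : ℕ) : ℕ := if 2 ^ k % 3 = 1 ∧ 2 ^ k ≤ (3 * n) ^ 2 then 6 * (2 ^ k - 1) else 0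

def bnd (a q b : ℕ) : ℕ :=
  43 + (if condA a q b then 6 * (q ^ b - 1) else 0) + (bndB a (q ^ b) + bndB (a - 1) (q ^ b))

def cond (a q b : ℕ) : Bool :=
  2 ^ a * q ^ b % 9 == 8 && 2 ^ a * q ^ b < 72 * bnd a q b &&
    ((List.range b).any fun j => q ^ (j + 1) % 9 == 1 || q ^ (j + 1) % 9 == 8) &&
    (condA a q b || (List.range (a + 1)).any fun i => 9 * 2 ^ i % q == 1)

def surv : List (ℕ × ℕ × ℕ) :=
  [(3, 7, 3), (3, 17, 2), (6, 5, 3), (6, 17, 1), (6, 71, 1), (9, 307, 1), (12, 5, 3), (12, 71, 1),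
    (18, 431, 1), (6, 35, 1), (6, 143, 1), (6, 287, 1), (12, 35, 1), (12, 143, 1), (12, 287, 1),
    (15, 55, 1), (18, 161, 1), (18, 287, 1)]

theorem cond_surv : ((List.range 1536).all fun q => q < 5 || q % 2 == 0 || q % 3 == 0 ||
    (List.range 10).all fun b => 2359296 < q ^ b || (List.range 27).all fun a =>
      (9 < a && 1024 ≤ q ^ b) || !cond a q b || surv.contains (a, q, b)) = true := by decide +kernel

def run (a q b : ℕ) (v : ℤ) : Bool :=
  ok (leaf (2 ^ a * q ^ b) (bnd a q b) v) (9 * bnd a q b - (2 ^ a * q ^ b : ℕ))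
    (2 ^ (a - 3) * q ^ b : ℕ) (items a q b) 8 0 0 0

theorem run1 : run 3 7 3 (-1) = true := by decide +kernel
theorem run2 : run 3 17 2 (-1) = true := by decide +kernel
theorem run3 : run 6 5 3 17 = true := by decide +kernel
theorem run4 : run 6 17 1 1 = true := by decide +kernel
theorem run5 : run 6 71 1 (-1) = true := by decide +kernel
theorem run6 : run 9 307 1 (-1) = true := by decide +kernel
theorem run7 : run 12 5 3 17 = true := by decide +kernel
theorem run8 : run 12 71 1 (-1) = true := by decide +kernel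
theorem run9 : run 18 431 1 (-1) = true := by decide +kernel

end Cfsg.Agent.H4.K3
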