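import Cfsg.Agent.H4.LSpec

/-! Primes dividing element orders in `PSL_n(q)`. -/

set_option autoImplicit false

namespace Cfsg.Agent.H4

open Function Polynomial Cfsg.Agent.H5

theorem orderOf_cast_dvd_iff {q : ℕ} (hq : 0 < q) (r m : ℕ) :
    orderOf (q : ZMod r) ∣ m ↔ r ∣ q ^ m - 1 := by
  rw [orderOf_dvd_iff_pow_eq_one, ← Nat.cast_pow, ← Nat.cast_one (R := ZMod r),
    ZMod.natCast_eq_natCast_iff, Nat.ModEq.comm, Nat.modEq_iff_dvd' (Nat.one_le_pow _ _ hq)]

theorem orderOf_cast_pos {q r : ℕ} (hr : r.Prime) (h : ¬ r ∣ q) : 0 < orderOf (q : ZMod r) := by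
  have := Fact.mk hr
  rw [orderOf_pos_iff, isOfFinOrder_iff_isUnit, isUnit_iff_ne_zero, Ne, ZMod.natCast_eq_zero_iff]
  exact h

section

variable {F : Type*} [Field F] [Fintype F]

theorem not_dvd_card_of_ne (p : ℕ) [Fact p.Prime] [CharP F p] {r : ℕ} (hr : r.Prime) (h : r ≠ p) :
    ¬ r ∣ Fintype.card F := by
  obtain ⟨n, hp, hn⟩ := FiniteField.card F p
  rw [hn]
  exact fun h' => h ((Nat.prime_dvd_prime_iff_eq hr hp).1 (hr.dvd_of_dvd_pow h'))

theorem card_SL_dvd_card_GL (n : ℕ) :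
    Nat.card (Matrix.SpecialLinearGroup (Fin n) F) ∣ Nat.card (GL (Fin n) F) :=
  Subgroup.card_dvd_of_injective (Matrix.SpecialLinearGroup.toGL (n := Fin n) (R := F))
    Matrix.SpecialLinearGroup.toGL_injective

theorem card_PSL_dvd_card_SL (n : ℕ) :
    Nat.card (Matrix.ProjectiveSpecialLinearGroup (Fin n) F) ∣
      Nat.card (Matrix.SpecialLinearGroup (Fin n) F) :=
  Subgroup.card_quotient_dvd_card _

theorem exists_of_dvd_card_GL {n r : ℕ} (hr : r.Prime) (hq : ¬ r ∣ Fintype.card F)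
    (h : r ∣ Nat.card (GL (Fin n) F)) : ∃ m, 0 < m ∧ m ≤ n ∧ r ∣ Fintype.card F ^ m - 1 := by
  rw [Matrix.card_GL_field] at h
  obtain ⟨i, -, hi⟩ := (hr.prime.dvd_finset_prod_iff _).1 h
  refine ⟨n - i, by omega, by omega, ?_⟩
  have : Fintype.card F ^ n - Fintype.card F ^ (i : ℕ) =
      Fintype.card F ^ (i : ℕ) * (Fintype.card F ^ (n - i) - 1) := by
    rw [Nat.mul_sub_one, ← pow_add, Nat.add_sub_cancel' i.2.le]
  rw [this] at hi
  exact (hr.dvd_mul.1 hi).resolve_left fun h' => hq (hr.dvd_of_dvd_pow h')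

theorem orderOf_le_of_dvd_card_PSL {n r : ℕ} (hr : r.Prime) (hq : ¬ r ∣ Fintype.card F)
    (h : r ∣ Nat.card (Matrix.ProjectiveSpecialLinearGroup (Fin n) F)) :
    orderOf ((Fintype.card F : ℕ) : ZMod r) ≤ n := by
  obtain ⟨m, h0, h1, h2⟩ := exists_of_dvd_card_GL hr hq
    (h.trans ((card_PSL_dvd_card_SL n).trans (card_SL_dvd_card_GL n)))
  exact (Nat.le_of_dvd h0 ((orderOf_cast_dvd_iff Fintype.card_pos r m).2 h2)).trans h1

end

section

variable {K : Type*} [Field K] [DecidableEq K] {p : ℕ} [Fact p.Prime]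

theorem div_of_pow_eq {M : Multiset K} {j : ℕ} (h : ∀ x ∈ M, ∀ y ∈ M, x ^ j = y ^ j) :
    Div p M (p ^ M.card * j) := by
  have hp : p.Prime := Fact.out
  refine ⟨fun x hx y hy => by rw [mul_comm, pow_mul, pow_mul, h x hx y hy], fun x a ha => ?_⟩
  exact (pow_succ_dvd_of_lt hp.one_lt (ha.trans_le (Multiset.count_le_card _ _))
    (Nat.lt_pow_self hp.one_lt).le).mul_right _

theorem div_of_count_le_one {M : Multiset K} {j : ℕ} (h : ∀ x ∈ M, ∀ y ∈ M, x ^ j = y ^ j)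
    (h1 : ∀ x, M.count x ≤ 1) : Div p M j := by
  refine ⟨h, fun x a ha => ?_⟩
  have := h1 x
  have := Nat.one_le_pow a p (Fact.out : p.Prime).pos
  omega

omit [DecidableEq K] in
theorem ne_zero_of_prod_eq_one {M : Multiset K} (h : M.prod = 1) : ∀ x ∈ M, x ≠ 0 :=
  fun x hx h0 => by rw [h0] at hx; simp [Multiset.prod_eq_zero hx] at h

theorem exists_dvd_period {q : ℕ} (hq : 0 < q) {M : Multiset K} (h0 : ∀ x ∈ M, x ≠ 0) {o r : ℕ}
    (hd : ∀ i, Div p M i → o ∣ i) (hr : r.Prime) (hrp : r ≠ p) (hro : r ∣ o) :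
    ∃ x ∈ M, r ∣ q ^ minimalPeriod (tauL q) x - 1 := by
  have hp : p.Prime := Fact.out
  have h1 : ∀ x ∈ M, x ^ (M.map fun x => q ^ minimalPeriod (tauL q) x - 1).prod = 1 := by
    intro x hx
    obtain ⟨c, hc⟩ := Multiset.dvd_prod
      (Multiset.mem_map_of_mem (fun x => q ^ minimalPeriod (tauL q) x - 1) hx)
    rw [hc, pow_mul, (tauL_minimalPeriod_dvd_iff hq (h0 x hx) _).1 dvd_rfl, one_pow]
  have h2 := hro.trans (hd _ (div_of_pow_eq fun x hx y hy => by rw [h1 x hx, h1 y hy]))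
  rcases hr.dvd_mul.1 h2 with h3 | h3
  · exact absurd ((Nat.prime_dvd_prime_iff_eq hr hp).1 (hr.dvd_of_dvd_pow h3)) hrp
  · obtain ⟨a, ha, h4⟩ := hr.prime.exists_mem_multiset_dvd h3
    obtain ⟨x, hx, rfl⟩ := Multiset.mem_map.1 ha
    exact ⟨x, hx, h4⟩

omit [DecidableEq K] in
theorem minimalPeriod_iterate_eq {α : Type*} {τ : α → α} {x : α} (hx : x ∈ periodicPts τ) (k : ℕ) :
    minimalPeriod τ (τ^[k] x) = minimalPeriod τ x := minimalPeriod_apply_iterate hx k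

omit [DecidableEq K] [Fact p.Prime] in
/-- An orbit of a primitive root of unity of order prime to `q - 1`. -/
theorem orb_prim {q m d : ℕ} (hq : 0 < q) {ζ : K} (hζ : IsPrimitiveRoot ζ m) (hm : m ≠ 0)
    (hc : Nat.Coprime m (q - 1)) (hd : m ∣ q ^ d - 1) (h2 : 2 ≤ d) :
    (orb (tauL q) ζ d).map (tauL q) = orb (tauL q) ζ d ∧ (orb (tauL q) ζ d).prod = 1 ∧
      ∀ i, (∀ x ∈ orb (tauL q) ζ d, ∀ y ∈ orb (tauL q) ζ d, x ^ i = y ^ i) → m ∣ i := by
  have h0 : ζ ≠ 0 := hζ.ne_zero hm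
  refine ⟨orb_stable ((tauL_iterate_eq_iff hq h0 d).2 ((hζ.pow_eq_one_iff_dvd _).2 hd)), ?_,
    fun i hi => ?_⟩
  · rw [prod_orb_tauL, hζ.pow_eq_one_iff_dvd]
    exact hc.dvd_of_dvd_mul_right (by rwa [geo_mul hq])
  · have := hi ζ (self_mem_orb ζ (by omega)) (tauL q ζ) (mem_orb.2 ⟨1, by omega, rfl⟩)
    rw [← tauL_pow, eq_comm, tauL_eq_iff hq (pow_ne_zero _ h0), ← pow_mul,
      hζ.pow_eq_one_iff_dvd] at this
    exact hc.dvd_of_dvd_mul_right this

theorem all_eq_of_count {M : Multiset K} {x : K} (h : M.card ≤ M.count x) : ∀ y ∈ M, y = x :=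
  fun y hy => ((Multiset.count_eq_card.1 (le_antisymm (Multiset.count_le_card _ _) h)) y hy).symm

end

section

variable {F : Type*} [Field F] [Fintype F] (p : ℕ) [Fact p.Prime] [CharP F p]

/-- If an element order of `PSL_n(q)` is divisible by `p` and by a prime `r ≠ p`, then
`ord_r(q) + 2 ≤ n`. -/
theorem orderOf_add_two_le {n r : ℕ} (hr : r.Prime) (hrp : r ≠ p)
    (g : Matrix.ProjectiveSpecialLinearGroup (Fin n) F) (h1 : r ∣ orderOf g) (h2 : p ∣ orderOf g) :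
    orderOf ((Fintype.card F : ℕ) : ZMod r) + 2 ≤ n := by
  classical
  obtain ⟨K, _, _, _⟩ := exists_algClosed F
  have hp : p.Prime := Fact.out
  have : CharP K p := charP_ext K p F
  have hτ := tauL_injective (F := F) K
  have hq0 : 0 < Fintype.card F := Fintype.card_pos
  obtain ⟨M, hM, hM1, hMc, hMd, hMe⟩ := psl_ev K p g
  rw [Fintype.card_fin] at hMc
  have h0 := ne_zero_of_prod_eq_one hM1
  obtain ⟨x, hx⟩ := exists_two_le_count (orderOf_pos g).ne' hMd hMe h2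
  obtain ⟨y, hy, hy'⟩ := exists_dvd_period hq0 h0 hMd hr hrp h1
  rw [← orderOf_cast_dvd_iff hq0] at hy'
  have hx' : x ∈ M := Multiset.count_pos.1 (by omega)
  have hpx := minimalPeriod_pos_of_mem_periodicPts (periodic_of_stable hτ hM hx')
  have hpy := minimalPeriod_pos_of_mem_periodicPts (periodic_of_stable hτ hM hy)
  have hk := Nat.le_of_dvd hpy hy'
  have hy1 := Multiset.count_pos.2 hy
  by_cases hxy : ∀ k, (tauL (Fintype.card F))^[k] x ≠ y
  · have := count_mul_period_add_le hτ hM hx' hxy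
    nlinarith
  · push Not at hxy
    obtain ⟨k, rfl⟩ := hxy
    have h3 := count_mul_period_le hτ hM ((tauL (Fintype.card F))^[k] x)
    rw [count_iterate_stable hτ hM] at h3
    by_contra hh
    have h4 : n ≤ 2 := by nlinarith
    have h5 := all_eq_of_count (M := M) (x := x) (by omega)
    have h6 := h1.trans (hMd _ (div_of_pow_eq (j := 1) fun a ha b hb => by rw [h5 a ha, h5 b hb]))
    rw [mul_one] at h6
    exact hrp ((Nat.prime_dvd_prime_iff_eq hr hp).1 (hr.dvd_of_dvd_pow h6))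

end

end Cfsg.Agent.H4
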