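import Cfsg.Agent.H4.Tri

/-! Triangular factorisations with regular unipotent factors: the choice of the pivot. -/

set_option autoImplicit false

namespace Cfsg.Agent.H4

open Module Polynomial

universe u

variable {F : Type u} [Field F]
variable {V : Type*} [AddCommGroup V] [Module F V]

/-- The field has at least four elements. -/
def Four (F : Type u) : Prop := ∀ a b c : F, ∃ s, s ≠ a ∧ s ≠ b ∧ s ≠ c

theorem four_of_cardinal {K : Type u} (h : 4 ≤ Cardinal.mk K) : Four K := by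
  intro a b c
  by_contra hh
  push Not at hh
  have h1 : (Set.univ : Set K) ⊆ {a, b, c} := fun s _ => by
    by_cases h1 : s = a
    · simp [h1]
    by_cases h2 : s = b
    · simp [h2]
    simp [hh s h1 h2]
  have h2 := Cardinal.mk_le_mk_of_subset h1
  rw [Cardinal.mk_univ] at h2
  have h3 : Cardinal.mk ({a, b, c} : Set K) ≤ 3 := by
    refine Cardinal.mk_insert_le.trans ?_
    refine (add_le_add_left Cardinal.mk_insert_le 1).trans ?_
    rw [Cardinal.mk_singleton]; norm_num
  have := h.trans (h2.trans h3)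
  norm_num at this

theorem four_of_card {K : Type u} [Fintype K] (h : 4 ≤ Fintype.card K) : Four K :=
  four_of_cardinal (by rw [Cardinal.mk_fintype]; exact_mod_cast h)

theorem avoid_two {A B : Submodule F V} (hA : A ≠ ⊤) (hB : B ≠ ⊤) : ∃ v, v ∉ A ∧ v ∉ B := by
  obtain ⟨a, ha⟩ : ∃ a, a ∉ A := by simpa [Submodule.eq_top_iff'] using hA
  obtain ⟨b, hb⟩ : ∃ b, b ∉ B := by simpa [Submodule.eq_top_iff'] using hB
  by_cases h1 : a ∈ B
  · by_cases h2 : b ∈ A
    · exact ⟨a + b, fun h => ha ((A.add_mem_iff_left h2).1 h),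
        fun h => hb ((B.add_mem_iff_right h1).1 h)⟩
    · exact ⟨b, h2, hb⟩
  · exact ⟨a, ha, h1⟩

theorem line_avoid {A : Submodule F V} {u w : V} (h : u ∉ A ∨ w ∉ A) :
    ∃ a : F, ∀ s, s ≠ a → u + s • w ∉ A := by
  by_cases hw : w ∈ A
  · exact ⟨0, fun s _ h' => (h.resolve_right (not_not.2 hw))
      ((A.add_mem_iff_left (A.smul_mem s hw)).1 h')⟩
  · by_cases h1 : ∃ a : F, u + a • w ∈ A
    · obtain ⟨a, ha⟩ := h1
      refine ⟨a, fun s hs h' => hw ?_⟩
      have := A.sub_mem h' ha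
      rw [add_sub_add_left_eq_sub, ← sub_smul] at this
      exact (A.smul_mem_iff (sub_ne_zero.2 hs)).1 this
    · exact ⟨0, fun s _ h' => h1 ⟨s, h'⟩⟩

theorem avoid_four (hF : Four F) {A B C D : Submodule F V} (hA : A ≠ ⊤) (hB : B ≠ ⊤) (hC : C ≠ ⊤)
    (hD : D ≠ ⊤) : ∃ v, v ∉ A ∧ v ∉ B ∧ v ∉ C ∧ v ∉ D := by
  obtain ⟨u, h1, h2⟩ := avoid_two hA hB
  obtain ⟨w, h3, h4⟩ := avoid_two hC hD
  obtain ⟨a, ha⟩ := line_avoid (Or.inl h1 : u ∉ A ∨ w ∉ A)
  obtain ⟨b, hb⟩ := line_avoid (Or.inl h2 : u ∉ B ∨ w ∉ B)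
  obtain ⟨c, hc⟩ := line_avoid (Or.inr h3 : u ∉ C ∨ w ∉ C)
  obtain ⟨d, hd⟩ := line_avoid (Or.inr h4 : u ∉ D ∨ w ∉ D)
  by_cases h5 : w ∈ A
  · obtain ⟨s, e1, e2, e3⟩ := hF b c d
    exact ⟨u + s • w, fun h => h1 ((A.add_mem_iff_left (A.smul_mem s h5)).1 h), hb s e1, hc s e2,
      hd s e3⟩
  by_cases h6 : w ∈ B
  · obtain ⟨s, e1, e2, e3⟩ := hF a c d
    exact ⟨u + s • w, ha s e1, fun h => h2 ((B.add_mem_iff_left (B.smul_mem s h6)).1 h), hc s e2,
      hd s e3⟩
  exact ⟨w, h5, h6, h3, h4⟩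

theorem avoid_five (hF : Four F) {A B C D E : Submodule F V} (hA : A ≠ ⊤) (hB : B ≠ ⊤)
    (hC : C ≠ ⊤) (hD : D ≠ ⊤) {c : V} (h1 : c ∈ A) (h2 : c ∈ B) (h3 : c ∉ E) :
    ∃ v, v ∉ A ∧ v ∉ B ∧ v ∉ C ∧ v ∉ D ∧ v ∉ E := by
  obtain ⟨w, e1, e2, e3, e4⟩ := avoid_four hF hA hB hC hD
  obtain ⟨a, ha⟩ := line_avoid (Or.inl e3 : w ∉ C ∨ c ∉ C)
  obtain ⟨b, hb⟩ := line_avoid (Or.inl e4 : w ∉ D ∨ c ∉ D)
  obtain ⟨d, hd⟩ := line_avoid (Or.inr h3 : w ∉ E ∨ c ∉ E)
  obtain ⟨s, f1, f2, f3⟩ := hF a b d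
  exact ⟨w + s • c, fun h => e1 ((A.add_mem_iff_left (A.smul_mem s h1)).1 h),
    fun h => e2 ((B.add_mem_iff_left (B.smul_mem s h2)).1 h), ha s f1, hb s f2, hd s f3⟩

theorem exists_good_vector (hF : Four F) [Module.Finite F V] (N : End F V) {B C : Submodule F V}
    (hB : B ≠ ⊤) (hC : C ≠ ⊤) : ∃ e, e ∉ B ∧ e ∉ C ∧ ∀ h : F[X], h ≠ 0 → aeval N h e = 0 →
      min 3 (minpoly F N).natDegree ≤ h.natDegree := by
  classical
  have hint : IsIntegral F N := Algebra.IsIntegral.isIntegral N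
  have hμ := minpoly.monic hint
  have : Nontrivial V := by
    by_contra h
    rw [not_nontrivial_iff_subsingleton] at h
    exact hB (Subsingleton.elim _ _)
  have hdeg := minpoly.natDegree_pos hint
  set μ := minpoly F N with hμdef
  let P : F[X] → Prop := fun φ => φ.Monic ∧ Irreducible φ ∧ φ ∣ μ
  let W : F[X] → Submodule F V := fun φ => LinearMap.ker (aeval N (μ /ₘ φ))
  have hmul : ∀ φ, P φ → φ * (μ /ₘ φ) = μ := fun φ h => by
    obtain ⟨h1, -, c, hc⟩ := h
    rw [hc, mul_divByMonic_cancel_left _ h1]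
  have hW : ∀ φ, P φ → W φ ≠ ⊤ := by
    intro φ h h1
    have h2 : μ ∣ μ /ₘ φ := minpoly.dvd F N (LinearMap.ker_eq_top.1 h1)
    have h3 : φ * (μ /ₘ φ) ∣ 1 * (μ /ₘ φ) := by rwa [hmul φ h, one_mul]
    have h4 : μ /ₘ φ ≠ 0 := fun h0 => hμ.ne_zero (by rw [← hmul φ h, h0, mul_zero])
    exact h.2.1.not_isUnit (isUnit_of_dvd_one ((mul_dvd_mul_iff_right h4).1 h3))
  have hmon : ∀ a : F[X], a ≠ 0 → ¬ IsUnit a → ∃ φ : F[X], φ.Monic ∧ Irreducible φ ∧ φ ∣ a :=
    fun a _ h => exists_monic_irreducible_factor a h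
  have key : ∀ φ e h, e ∉ W φ → aeval N h e = 0 → ¬ EuclideanDomain.gcd h μ ∣ μ /ₘ φ := by
    rintro φ e h h1 h2 ⟨c, hc⟩
    apply h1
    change aeval N (μ /ₘ φ) e = 0
    rw [hc, EuclideanDomain.gcd_eq_gcd_ab, mul_comm, mul_add, map_add, LinearMap.add_apply,
      mul_comm h, ← mul_assoc, map_mul, Module.End.mul_apply, h2, map_zero, zero_add, mul_left_comm,
      map_mul, hμdef, minpoly.aeval, zero_mul, LinearMap.zero_apply]
  by_cases h3 : ∃ φ1 φ2 φ3, P φ1 ∧ P φ2 ∧ P φ3 ∧ φ1 ≠ φ2 ∧ φ1 ≠ φ3 ∧ φ2 ≠ φ3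
  · obtain ⟨φ1, φ2, φ3, p1, p2, p3, n12, n13, n23⟩ := h3
    obtain ⟨k, ν, hν, hk⟩ := WfDvdMonoid.max_power_factor hμ.ne_zero p3.2.1
    have hcop : IsCoprime φ3 ν := p3.2.1.coprime_iff_not_dvd.2 hν
    obtain ⟨v, hv⟩ : ∃ v, v ∉ W φ3 := by simpa [Submodule.eq_top_iff'] using hW φ3 p3
    have hin : ∀ φ, P φ → φ ≠ φ3 → aeval N ν v ∈ W φ := by
      intro φ p hn
      have c1 := isCoprime_of_ne p.1 p.2.1 p3.1 p3.2.1 hn
      obtain ⟨ν', hν'⟩ : φ ∣ ν := c1.pow_right.dvd_of_dvd_mul_left (hk ▸ p.2.2)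
      change aeval N (μ /ₘ φ) (aeval N ν v) = 0
      rw [← Module.End.mul_apply, ← map_mul, hν', ← mul_assoc, mul_comm _ φ, hmul φ p, map_mul,
        hμdef, minpoly.aeval, zero_mul, LinearMap.zero_apply]
    have hout : aeval N ν v ∉ W φ3 := by
      intro h
      apply hv
      obtain ⟨a, b, hab⟩ := hcop
      change aeval N (μ /ₘ φ3) (aeval N ν v) = 0 at h
      change aeval N (μ /ₘ φ3) v = 0
      rw [← one_mul (μ /ₘ φ3), ← hab, add_mul, mul_assoc, hmul φ3 p3, map_add, map_mul, hμdef,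
        minpoly.aeval, mul_zero, zero_add, mul_assoc, map_mul, Module.End.mul_apply, mul_comm ν,
        map_mul, Module.End.mul_apply, ← hμdef, h, map_zero]
    obtain ⟨e, e1, e2, e3, e4, e5⟩ := avoid_five hF (hW φ1 p1) (hW φ2 p2) hB hC (hin φ1 p1 n13)
      (hin φ2 p2 n23) hout
    refine ⟨e, e3, e4, fun h h0 hh => min_le_of_left_le ?_⟩
    have hd : ∀ φ, P φ → e ∉ W φ → φ ∣ h := by
      intro φ p he
      by_contra hn
      refine key φ e h he hh ?_
      have c1 : IsCoprime φ (EuclideanDomain.gcd h μ) :=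
        p.2.1.coprime_iff_not_dvd.2 fun h' => hn (h'.trans (EuclideanDomain.gcd_dvd_left _ _))
      exact c1.symm.dvd_of_dvd_mul_left (by rw [hmul φ p]; exact EuclideanDomain.gcd_dvd_right _ _)
    have c12 := isCoprime_of_ne p1.1 p1.2.1 p2.1 p2.2.1 n12
    have c13 := isCoprime_of_ne p1.1 p1.2.1 p3.1 p3.2.1 n13
    have c23 := isCoprime_of_ne p2.1 p2.2.1 p3.1 p3.2.1 n23
    have := natDegree_le_of_dvd ((c13.mul_left c23).mul_dvd (c12.mul_dvd (hd φ1 p1 e1)
      (hd φ2 p2 e2)) (hd φ3 p3 e5)) h0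
    rw [(p1.1.mul p2.1).natDegree_mul p3.1, p1.1.natDegree_mul p2.1] at this
    have := p1.2.1.natDegree_pos
    have := p2.2.1.natDegree_pos
    have := p3.2.1.natDegree_pos
    omega
  · obtain ⟨φ1, φ2, p1, p2, hall⟩ : ∃ φ1 φ2, P φ1 ∧ P φ2 ∧ ∀ φ, P φ → φ = φ1 ∨ φ = φ2 := by
      obtain ⟨φ1, p1⟩ := hmon μ hμ.ne_zero (not_isUnit_of_natDegree_pos _ hdeg)
      by_cases h4 : ∃ φ2, P φ2 ∧ φ1 ≠ φ2
      · obtain ⟨φ2, p2, n12⟩ := h4
        refine ⟨φ1, φ2, p1, p2, fun φ p => ?_⟩
        by_contra hh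
        push Not at hh
        exact h3 ⟨φ1, φ2, φ, p1, p2, p, n12, hh.1.symm, hh.2.symm⟩
      · push Not at h4
        exact ⟨φ1, φ1, p1, p1, fun φ p => Or.inl (h4 φ p).symm⟩
    obtain ⟨e, e1, e2, e3, e4⟩ := avoid_four hF (hW φ1 p1) (hW φ2 p2) hB hC
    refine ⟨e, e3, e4, fun h h0 hh => min_le_of_right_le (natDegree_le_of_dvd ?_ h0)⟩
    obtain ⟨g', hg'⟩ := EuclideanDomain.gcd_dvd_right h μ
    by_cases hu : IsUnit g'
    · refine Dvd.dvd.trans ?_ (EuclideanDomain.gcd_dvd_left h μ)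
      conv_lhs => rw [hg']
      exact hu.mul_right_dvd.2 dvd_rfl
    · exfalso
      obtain ⟨φ, m1, m2, g'', hg''⟩ := hmon g' (fun h0 => hμ.ne_zero (by rw [hg', h0, mul_zero])) hu
      have p : P φ := ⟨m1, m2, by rw [hg', hg'']; exact (dvd_mul_right _ _).mul_left _⟩
      refine key φ e h ((hall φ p).elim (fun h => h ▸ e1) fun h => h ▸ e2) hh ⟨g'', ?_⟩
      apply mul_left_cancel₀ m1.ne_zero
      rw [hmul φ p, mul_left_comm, ← hg'', ← hg']

theorem exists_dual_one_zero {p : Submodule F V} {v : V} (h : v ∉ p) :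
    ∃ f : V →ₗ[F] F, f v = 1 ∧ ∀ w ∈ p, f w = 0 := by
  obtain ⟨f, h1, h2⟩ := Submodule.exists_le_ker_of_notMem h
  exact ⟨(f v)⁻¹ • f, by simp [h1], fun w hw => by simp [LinearMap.mem_ker.1 (h2 hw)]⟩

theorem exists_good_dual (hF : Four F) {e b x z : V} (he : e ∉ Submodule.span F {b})
    (hx : x ∉ Submodule.span F {b}) (hz : z ∉ Submodule.span F {b}) (t : F) :
    ∃ f : V →ₗ[F] F, f e = 1 ∧ f b = 0 ∧ f x ≠ 0 ∧ f z ≠ 0 ∧
      (z ∉ Submodule.span F {e, b} → f z ≠ t) := by
  obtain ⟨f0, h1, h2, h3⟩ : ∃ f : V →ₗ[F] F, f e = 1 ∧ f b = 0 ∧ f x ≠ 0 := by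
    obtain ⟨f1, a1, a2⟩ := exists_dual_one_zero he
    obtain ⟨f2, b1, b2⟩ := exists_dual_one_zero hx
    have a3 := a2 b (Submodule.subset_span rfl)
    have b3 := b2 b (Submodule.subset_span rfl)
    by_cases c1 : f1 x = 0
    · by_cases c2 : f2 e = 0
      · exact ⟨f1 + f2, by simp [*], by simp [*], by simp [*]⟩
      · exact ⟨(f2 e)⁻¹ • f2, by simp [*], by simp [*], by simp [*]⟩
    · exact ⟨f1, a1, a3, c1⟩
  by_cases h4 : z ∈ Submodule.span F {e, b}
  · obtain ⟨α, β, rfl⟩ := Submodule.mem_span_pair.1 h4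
    refine ⟨f0, h1, h2, h3, ?_, fun h => absurd h4 h⟩
    have : α ≠ 0 := by
      rintro rfl
      exact hz (by simpa using Submodule.smul_mem _ β (Submodule.mem_span_singleton_self b))
    simpa [h1, h2] using this
  · obtain ⟨ψ, a1, a2⟩ := exists_dual_one_zero h4
    have a3 := a2 e (Submodule.subset_span (by simp))
    have a4 := a2 b (Submodule.subset_span (by simp))
    obtain ⟨s, e1, e2, e3⟩ := hF (-f0 z) (t - f0 z) (-f0 x / ψ x)
    refine ⟨f0 + s • ψ, by simp [*], by simp [*], ?_, ?_, fun _ => ?_⟩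
    · simp only [LinearMap.add_apply, LinearMap.smul_apply, smul_eq_mul]
      intro h
      by_cases h5 : ψ x = 0
      · exact h3 (by simpa [h5] using h)
      · exact e3 (by field_simp; linear_combination h)
    · simp only [LinearMap.add_apply, LinearMap.smul_apply, smul_eq_mul, a1]
      exact fun h => e1 (by linear_combination h)
    · simp only [LinearMap.add_apply, LinearMap.smul_apply, smul_eq_mul, a1]
      exact fun h => e2 (by linear_combination h)

/-- Neither scalar nor a rank one perturbation of the identity. -/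
def Inv (R : End F V) : Prop :=
  (∀ c : F, R ≠ c • 1) ∧ ¬ ∃ a : V, ∀ v, ∃ c : F, R v - v = c • a

theorem exists_transvection_of_rank_le_one {R : End F V} {a : V}
    (h : ∀ v, ∃ c : F, R v - v = c • a) : ∃ φ : V →ₗ[F] F, R = LinearMap.transvection φ a := by
  by_cases ha : a = 0
  · refine ⟨0, LinearMap.ext fun v => ?_⟩
    obtain ⟨c, hc⟩ := h v
    rw [ha, smul_zero, sub_eq_zero] at hc
    simp [hc]
  · obtain ⟨l, hl⟩ := Module.Projective.exists_dual_eq_one F ha
    refine ⟨l ∘ₗ (R - 1), LinearMap.ext fun v => ?_⟩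
    obtain ⟨c, hc⟩ := h v
    rw [LinearMap.transvection.apply, LinearMap.comp_apply, LinearMap.sub_apply,
      Module.End.one_apply, hc, map_smul, hl, smul_eq_mul, mul_one, ← hc, add_sub_cancel]

theorem fixed_of_rank_le_one [Module.Finite F V] {R : End F V} (hd : LinearMap.det R = 1) {a : V}
    (h : ∀ v, ∃ c : F, R v - v = c • a) : R a = a := by
  obtain ⟨φ, rfl⟩ := exists_transvection_of_rank_le_one h
  rw [LinearMap.transvection.det, add_eq_left] at hd
  rw [LinearMap.transvection.apply, hd, zero_smul, add_zero]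

theorem exists_pivot (hF : Four F) [Module.Finite F V] {R : End F V} (hd : LinearMap.det R = 1)
    (hR : Inv R) {x : V} (hx : x ≠ 0) {y : V →ₗ[F] F} (hy : y ≠ 0) :
    ∃ (e : V) (f : V →ₗ[F] F), f e = 1 ∧ f (R e) = 1 ∧ f x ≠ 0 ∧ y e ≠ 0 ∧ R e ≠ e ∧
      (∃ v, f v = 0 ∧ f (R v) ≠ 0) ∧ (3 ≤ finrank F V → ∀ R' : End F (LinearMap.ker f),
        (∀ v, (R' v : V) = R v - f (R v) • R e) → LinearMap.det R' = 1 → Inv R') := by
  obtain ⟨N, rfl⟩ : ∃ N, R = 1 + N := ⟨R - 1, by simp⟩
  have hinj : Function.Injective (1 + N : End F V) :=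
    (LinearMap.isUnit_iff_ker_eq_bot _).1 ((LinearMap.isUnit_iff_isUnit_det _).2
      (hd ▸ isUnit_one)) |> LinearMap.ker_eq_bot.1
  have hrk : ∀ a : V, ∃ w, N w ∉ Submodule.span F {a} := by
    intro a
    by_contra hh
    push Not at hh
    refine hR.2 ⟨a, fun v => ?_⟩
    obtain ⟨c, hc⟩ := Submodule.mem_span_singleton.1 (hh v)
    exact ⟨c, by simp [hc]⟩
  obtain ⟨e, e1, e2, e3⟩ := exists_good_vector hF N (B := LinearMap.ker y)
    (C := (Submodule.span F {x}).comap N) (by rwa [Ne, LinearMap.ker_eq_top])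
    (fun h => by obtain ⟨w, hw⟩ := hrk x; exact hw (h ▸ Submodule.mem_top : w ∈ _))
  have : Nontrivial V := nontrivial_of_ne x 0 hx
  have hint : IsIntegral F N := Algebra.IsIntegral.isIntegral N
  have hdeg : 2 ≤ (minpoly F N).natDegree := by
    rw [minpoly.two_le_natDegree_iff hint]
    rintro ⟨c, hc⟩
    exact hR.1 (1 + c) (by rw [← hc, add_smul, one_smul, Algebra.algebraMap_eq_smul_one])
  have he0 : e ≠ 0 := fun h => e1 (h ▸ zero_mem _)
  have hb : ∀ c : F, N e ≠ c • e := by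
    intro c hc
    have := e3 (X - C c) (X_sub_C_ne_zero c) (by simp [hc])
    rw [natDegree_X_sub_C] at this
    omega
  have hb0 : N e ≠ 0 := by simpa using hb 0
  have heb : e ∉ Submodule.span F {N e} := by
    intro h
    obtain ⟨c, hc⟩ := Submodule.mem_span_singleton.1 h
    have hc0 : c ≠ 0 := by rintro rfl; exact he0 (by simpa using hc.symm)
    exact hb c⁻¹ (by conv_rhs => rw [← hc, smul_smul, inv_mul_cancel₀ hc0, one_smul])
  have hxb : x ∉ Submodule.span F {N e} := by
    intro h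
    obtain ⟨c, hc⟩ := Submodule.mem_span_singleton.1 h
    have hc0 : c ≠ 0 := by rintro rfl; exact hx (by simpa using hc.symm)
    exact e2 (Submodule.mem_span_singleton.2 ⟨c⁻¹, by
      rw [← hc, smul_smul, inv_mul_cancel₀ hc0, one_smul]⟩)
  -- common conclusion
  suffices h : ∃ (f : V →ₗ[F] F) (w : V), f e = 1 ∧ f (N e) = 0 ∧ f x ≠ 0 ∧ f (N w) ≠ 0 ∧
      (3 ≤ finrank F V → ∀ M : End F (LinearMap.ker f),
        (∀ v, (M v : V) = N v - f (N v) • (e + N e)) →
        (∀ c : F, c ≠ -1 → M ≠ c • 1) ∧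
        ¬ ∃ a, M a = 0 ∧ ∀ v, ∃ c : F, M v = c • a) by
    obtain ⟨f, w, h1, h2, h3, h4, h5⟩ := h
    refine ⟨e, f, h1, by simp [h1, h2], h3, e1, by simpa using hb0,
      ⟨w - f w • e, by simp [h1], by simpa [h1, h2] using h4⟩, fun hn R' hR' hd' => ?_⟩
    obtain ⟨h6, h7⟩ := h5 hn (R' - 1) fun v => by
      simp [hR', LinearMap.mem_ker.1 v.2]
      abel
    refine ⟨fun c hc => h6 (c - 1) (fun h => ?_) (by rw [hc]; exact (LinearMap.ext fun v => by simp [sub_smul])), ?_⟩
    · have h8 := finrank_ker_add_one h1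
      rw [hc, LinearMap.det_smul, map_one, show c = 0 by linear_combination h,
        zero_pow (by omega), zero_mul] at hd'
      exact zero_ne_one hd'
    · rintro ⟨a, ha⟩
      exact h7 ⟨a, sub_eq_zero.2 (fixed_of_rank_le_one hd' ha), ha⟩
  rcases hdeg.eq_or_lt with hq | hq
  · -- quadratic case
    obtain ⟨α, β, hN⟩ : ∃ α β : F, ∀ v, N (N v) = α • N v + β • v := by
      have h1 := minpoly.aeval F N
      rw [(minpoly.monic hint).as_sum, ← hq] at h1
      refine ⟨-(minpoly F N).coeff 1, -(minpoly F N).coeff 0, fun v => ?_⟩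
      have := LinearMap.congr_fun h1 v
      simp [Finset.sum_range_succ, pow_two] at this
      linear_combination (norm := module) this
    obtain ⟨w, hw⟩ := hrk (N e)
    obtain ⟨f, h1, h2, h3, h4, -⟩ := exists_good_dual hF heb hxb hw 0
    refine ⟨f, w, h1, h2, h3, h4, fun hn M hM => ?_⟩
    have h8 := finrank_ker_add_one h1
    let b : LinearMap.ker f := ⟨N e, h2⟩
    have hb' : b ≠ 0 := fun h => hb0 (congrArg Subtype.val h)
    have hMb : M b = (α - β) • b := Subtype.ext (by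
      rw [hM]
      simp only [b, hN, map_add, map_smul, h1, h2, smul_eq_mul, Submodule.coe_smul]
      module)
    let v2 : LinearMap.ker f := ⟨w - f w • e, by simp [h1]⟩
    have hv2 : f (N v2) = f (N w) := by simp [v2, h2]
    constructor
    · intro c hc hMc
      have h5 : c = α - β := by
        rw [hMc] at hMb
        exact smul_left_injective F hb' hMb
      have h6 : ∀ v : LinearMap.ker f, (β * (c + 1)) • (v : V) =
          f (N v) • (N (e + N e) - β • (e + N e)) := by
        intro v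
        have h7 := hM v
        rw [hMc, LinearMap.smul_apply, Module.End.one_apply, Submodule.coe_smul] at h7
        have h9 := congrArg N h7
        rw [map_smul, map_sub, hN, map_smul] at h9
        rw [h5] at h7 h9 ⊢
        linear_combination (norm := module) β • h7 - h9
      by_cases hβ : β = 0
      · have := h6 v2
        rw [hβ, zero_mul, zero_smul, zero_smul, sub_zero, hv2, eq_comm, smul_eq_zero] at this
        refine hb0 (hinj ?_)
        simpa using this.resolve_left h4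
      · have h7 : β * (c + 1) ≠ 0 := mul_ne_zero hβ fun h => hc (by linear_combination h)
        have h9 : LinearMap.ker f ≤ Submodule.span F {N (e + N e) - β • (e + N e)} := by
          intro v hv
          rw [← Submodule.smul_mem_iff _ h7, h6 ⟨v, hv⟩]
          exact Submodule.smul_mem _ _ (Submodule.subset_span rfl)
        have := (Submodule.finrank_mono h9).trans (finrank_span_le_card _)
        simp at this
        omega
    · rintro ⟨a, ha, hMa⟩
      have h5 : α = β := by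
        obtain ⟨c, hc⟩ := hMa b
        have := congrArg M hc
        rw [map_smul, ha, smul_zero, hMb, map_smul, hMb, smul_smul, smul_eq_zero,
          mul_self_eq_zero] at this
        exact sub_eq_zero.1 (this.resolve_right hb')
      subst h5
      have h6 := hM a
      rw [ha, Submodule.coe_zero] at h6
      by_cases hβ : α = 0
      · subst hβ
        simp only [zero_smul, add_zero] at hN
        let v1 : LinearMap.ker f := ⟨e - (f (N w))⁻¹ • N w, by simp [h1, h4]⟩
        obtain ⟨c1, hc1⟩ := hMa v1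
        have h7 : N e = c1 • (a : V) := by
          have := hM v1
          rw [hc1] at this
          simpa [v1, hN, h2] using this.symm
        have h9 : N a = 0 := by
          have h10 : c1 ≠ 0 := by rintro rfl; exact hb0 (by simpa using h7)
          have := congrArg N h7
          rw [hN, map_smul, eq_comm, smul_eq_zero] at this
          exact this.resolve_left h10
        obtain ⟨c2, hc2⟩ := hMa v2
        have h10 := congrArg N (hM v2)
        rw [hc2, Submodule.coe_smul, map_smul, h9, hv2] at h10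
        simp [hN, h4, hb0] at h10
      · have h7 : (a : V) = (α⁻¹ * f (N a)) • N e := by
          have h9 := congrArg N h6
          rw [map_zero, map_sub, hN, map_smul, map_add, hN] at h9
          rw [mul_smul, eq_inv_smul_iff₀ hβ]
          linear_combination (norm := module) α • h6 - h9
        have h9 : ∀ v, N v ∈ Submodule.span F {e, N e} := by
          have i1 : e ∈ Submodule.span F {e, N e} := Submodule.subset_span (by simp)
          have i2 : N e ∈ Submodule.span F {e, N e} := Submodule.subset_span (by simp)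
          intro v
          obtain ⟨c, v, rfl⟩ := exists_split_apply h1 v
          obtain ⟨c', hc'⟩ := hMa v
          have h10 := hM v
          rw [hc', Submodule.coe_smul, h7, eq_sub_iff_add_eq] at h10
          rw [map_add, map_smul, ← h10]
          exact add_mem (Submodule.smul_mem _ _ i2) (add_mem (Submodule.smul_mem _ _
            (Submodule.smul_mem _ _ i2)) (Submodule.smul_mem _ _ (add_mem i1 i2)))
        have h10 : (⊤ : Submodule F V) ≤ Submodule.span F {e, N e} := by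
          intro v _
          have := hN v
          rw [← Submodule.smul_mem_iff _ hβ, show α • v = N (N v) - α • N v by rw [this]; abel]
          exact sub_mem (h9 _) (Submodule.smul_mem _ _ (h9 _))
        classical
        have := (Submodule.finrank_mono h10).trans (finrank_span_le_card _)
        rw [finrank_top] at this
        have h11 : ({e, N e} : Set V).toFinset.card ≤ 2 := by
          simpa using Finset.card_le_two
        omega
  · have hz : N (N e) ∉ Submodule.span F {e, N e} := by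
      intro h
      obtain ⟨α, β, h1⟩ := Submodule.mem_span_pair.1 h
      have h2 : (X ^ 2 - C β * X - C α : F[X]).natDegree = 2 := by compute_degree!
      have := e3 (X ^ 2 - C β * X - C α) (fun h => by rw [h] at h2; simp at h2)
        (by simp [pow_two, ← h1])
      omega
    obtain ⟨ψ, a1, a2⟩ := exists_dual_one_zero hz
    have a3 := a2 e (Submodule.subset_span (by simp))
    have a4 := a2 (N e) (Submodule.subset_span (by simp))
    obtain ⟨f, h1, h2, h3, h4, h5⟩ := exists_good_dual hF heb hxb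
      (fun h => hz (Submodule.span_mono (by simp) h)) (ψ (N (N (N e))))
    refine ⟨f, N e, h1, h2, h3, h4, fun hn M hM => ?_⟩
    let b : LinearMap.ker f := ⟨N e, h2⟩
    constructor
    · intro c _ hMc
      have := congrArg ψ (hM b)
      rw [hMc] at this
      simp [b, a1, a3, a4] at this
    · rintro ⟨a, ha, hMa⟩
      obtain ⟨c, hc⟩ := hMa b
      have h6 := congrArg ψ (hM (M b))
      rw [hM b] at h6
      rw [hc, map_smul, ha, smul_zero] at h6
      apply h5 hz
      simp [b, a1, a3, a4] at h6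
      linear_combination h6

end Cfsg.Agent.H4
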