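import Cfsg.Agent.H4.LU

/-! Triangular factorisations with regular unipotent factors: the induction. -/

set_option autoImplicit false

namespace Cfsg.Agent.H4

open Module Polynomial

universe u v

variable {F : Type u} [Field F]
variable {V : Type v} [AddCommGroup V] [Module F V]

theorem exists_schur (R : End F V) {e : V} {f : V →ₗ[F] F} (h : f (R e) = 1) :
    ∃ R' : End F (LinearMap.ker f), ∀ v, (R' v : V) = R v - f (R v) • R e :=
  ⟨LinearMap.codRestrict _ ((R - (f ∘ₗ R).smulRight (R e)) ∘ₗ (LinearMap.ker f).subtype)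
    fun v => by simp [h], fun v => rfl⟩

theorem smul_one_fixed {β : F} (hβ : β ≠ 1) (a : F) (h : (β • (1 : End F F)) a = a) : a = 0 := by
  simp only [LinearMap.smul_apply, Module.End.one_apply, smul_eq_mul] at h
  by_contra h0
  exact hβ (mul_right_cancel₀ h0 (h.trans (one_mul a).symm))

theorem lu_step [Module.Finite F V] {R : End F V} {e : V} {f : V →ₗ[F] F} (h1 : f e = 1)
    (h2 : f (R e) = 1) {R' : End F (LinearMap.ker f)} (hR' : ∀ v, (R' v : V) = R v - f (R v) • R e)
    (W' : End F (LinearMap.ker f)) (β : F) :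
    ∃ W : End F V, W e = β • e ∧ (∀ v : LinearMap.ker f, W v = W' v - f (R (W' v)) • e) ∧
      (∀ v : LinearMap.ker f, R (W v) = R' (W' v)) ∧
      W.charpoly = (X - C β) * W'.charpoly ∧ (R * W).charpoly = (X - C β) * (R' * W').charpoly ∧
      LinearMap.det W = β * LinearMap.det W' ∧
      LinearMap.det (R * W) = β * LinearMap.det (R' * W') ∧
      (β ≠ 1 → Reg W' → Reg W) ∧ (β ≠ 1 → Reg (R' * W') → Reg (R * W)) := by
  let z : LinearMap.ker f →ₗ[F] F := -(f ∘ₗ R ∘ₗ (LinearMap.ker f).subtype ∘ₗ W')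
  obtain ⟨W, a1, a2⟩ := exists_end_split h1 (β • e)
    ((LinearMap.ker f).subtype ∘ₗ W' + z.smulRight e)
  have a3 : ∀ v : LinearMap.ker f, W v = W' v - f (R (W' v)) • e := fun v => by
    simp [a2, z, sub_eq_add_neg]
  have a4 : ∀ v : LinearMap.ker f, R (W v) = R' (W' v) := fun v => by
    rw [a3, hR', map_sub, map_smul]
  have s1 : Sim (tri (β • (1 : End F F)) z W') W := sim_tri_upper h1 a1 a2
  have s2 : Sim (tri (R' * W') (LinearMap.toSpanSingleton F _
      (⟨β • (R e - e), by simp [h1, h2]⟩ : LinearMap.ker f)) (β • (1 : End F F))) (R * W) :=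
    sim_tri_lower h1 (by simp [a1, smul_sub]) a4
  refine ⟨W, a1, a3, a4, ?_, ?_, ?_, ?_, fun hβ h => s1.reg (reg_tri_left _ (smul_one_fixed hβ) h),
    fun hβ h => s2.reg (reg_tri_right _ h (smul_one_fixed hβ))⟩
  · rw [← s1.charpoly_eq, charpoly_tri, charpoly_smul_one]
  · rw [← s2.charpoly_eq, charpoly_tri, charpoly_smul_one, mul_comm]
  · rw [← s1.det_eq, det_tri, det_smul_one]
  · rw [← s2.det_eq, det_tri, det_smul_one, mul_comm]

theorem det_schur [Module.Finite F V] {R : End F V} {e : V} {f : V →ₗ[F] F} (h1 : f e = 1)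
    (h2 : f (R e) = 1) {R' : End F (LinearMap.ker f)}
    (hR' : ∀ v, (R' v : V) = R v - f (R v) • R e) : LinearMap.det R' = LinearMap.det R := by
  obtain ⟨W, -, -, -, -, -, h3, h4, -⟩ := lu_step h1 h2 hR' 1 1
  rw [map_mul, h3] at h4
  simpa using h4.symm

theorem eq_one_of_finrank_eq_one {R : End F V} (h : finrank F V = 1)
    (hd : LinearMap.det R = 1) : R = 1 := by
  obtain ⟨c, rfl, -⟩ := LinearMap.existsUnique_eq_smul_id_of_finrank_eq_one h R
  rw [LinearMap.det_smul, h] at hd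
  simp at hd
  simp [hd, Module.End.one_eq_id]

theorem charpoly_smul_one_of_finrank [Module.Finite F V] (h : finrank F V = 1) (β : F) :
    LinearMap.charpoly (β • (1 : End F V)) = X - C β := by
  rw [← charpoly_smul_one]
  exact Sim.charpoly_eq ⟨LinearEquiv.ofFinrankEq _ _ (by simpa using h), fun v => by simp⟩

theorem reg_of_finrank_le_one [Module.Finite F V] (h : finrank F V ≤ 1) (f : End F V) : Reg f :=
  (Submodule.finrank_le _).trans h

theorem lu_unip (hF : Four F) (n : ℕ) : ∀ {V : Type v} [AddCommGroup V] [Module F V]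
    [Module.Finite F V], finrank F V = n + 1 → ∀ R : End F V, LinearMap.det R = 1 →
    (1 ≤ n → Inv R) → ∀ x : V, x ≠ 0 → ∀ y : V →ₗ[F] F, y ≠ 0 →
    ∃ W : End F V, W.charpoly = (X - C 1) ^ (n + 1) ∧ (R * W).charpoly = (X - C 1) ^ (n + 1) ∧
      (∀ v, W v = v → y v = 0 → v = 0) ∧ ∀ v, ∃ (w : V) (c : F), v = R (W w) - w + c • x := by
  induction n with
  | zero =>
    intro V _ _ _ hV R hd _ x hx y hy
    obtain rfl := eq_one_of_finrank_eq_one hV hd
    have h1 := charpoly_smul_one_of_finrank hV (1 : F)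
    rw [one_smul] at h1
    have h2 := (finrank_eq_one_iff_of_nonzero' x hx).1 hV
    refine ⟨1, by simpa using h1, by simpa using h1, fun v _ hv => ?_, fun v => ?_⟩
    · by_contra h0
      refine hy (LinearMap.ext fun w => ?_)
      obtain ⟨c, rfl⟩ := (finrank_eq_one_iff_of_nonzero' v h0).1 hV w
      simp [hv]
    · obtain ⟨c, rfl⟩ := h2 v
      exact ⟨0, c, by simp⟩
  | succ n ih =>
    intro V _ _ _ hV R hd hR x hx y hy
    obtain ⟨e, f, h1, h2, h3, h4, h5, ⟨v0, h6, h7⟩, h8⟩ := exists_pivot hF hd (hR (by omega)) hx hy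
    obtain ⟨R', hR'⟩ := exists_schur R h2
    have hd' := (det_schur h1 h2 hR').trans hd
    have hV' := finrank_ker_add_one h1
    obtain ⟨W', a1, a2, a3, a4⟩ := ih (V := LinearMap.ker f) (by omega) R' hd'
      (fun hn => h8 (by omega) R' hR' hd') ⟨R e - e, by simp [h1, h2]⟩
      (fun h => h5 (sub_eq_zero.1 (congrArg Subtype.val h)))
      (f ∘ₗ R ∘ₗ (LinearMap.ker f).subtype) (DFunLike.ne_iff.2 ⟨⟨v0, h6⟩, h7⟩)
    obtain ⟨W, b1, b2, b3, b4, b5, -⟩ := lu_step h1 h2 hR' W' 1
    rw [one_smul] at b1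
    refine ⟨W, by rw [b4, a1, ← pow_succ'], by rw [b5, a2, ← pow_succ'], fun v hv hyv => ?_,
      fun v => ?_⟩
    · obtain ⟨c, v, rfl⟩ := exists_split_apply h1 v
      rw [map_add, map_smul, b1, add_right_inj, b2] at hv
      have c1 := congrArg f hv
      rw [map_sub, map_smul, h1, LinearMap.mem_ker.1 v.2, LinearMap.mem_ker.1 (W' v).2, zero_sub,
        smul_eq_mul, mul_one, neg_eq_zero] at c1
      rw [c1, zero_smul, sub_zero, Subtype.coe_inj] at hv
      obtain rfl := a3 v hv (by rw [hv] at c1; exact c1)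
      simpa [h4, (show e ≠ 0 by rintro rfl; simp at h1)] using hyv
    · obtain ⟨w, c, hw⟩ := a4 ⟨v - (f v / f x) • x, by simp [h3]⟩
      refine ⟨c • e + w, f v / f x, ?_⟩
      have := congrArg Subtype.val hw
      simp only [Submodule.coe_add, Submodule.coe_sub, Submodule.coe_smul, ← b3] at this
      rw [map_add, map_smul, b1, map_add, map_smul]
      linear_combination (norm := module) this

theorem reg_of_dual [Module.Finite F V] {W : End F V} (y : V →ₗ[F] F)
    (h : ∀ v, W v = v → y v = 0 → v = 0) : Reg W :=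
  reg_of_injOn (g := (1 : End F F)) (reg_of_finrank_le_one (by simp) _) y (fun _ _ => rfl) h

theorem exists_ne_zero_pair [Module.Finite F V] (h : 0 < finrank F V) :
    ∃ (x : V) (y : V →ₗ[F] F), x ≠ 0 ∧ y ≠ 0 := by
  have := Module.nontrivial_of_finrank_pos h
  obtain ⟨x, hx⟩ := exists_ne (0 : V)
  obtain ⟨y, hy⟩ := Module.Projective.exists_dual_eq_one F hx
  exact ⟨x, y, hx, by rintro rfl; simp at hy⟩

theorem lu_unip' (hF : Four F) [Module.Finite F V] {n : ℕ} (hV : finrank F V = n + 1)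
    {R : End F V} (hd : LinearMap.det R = 1) (hR : 1 ≤ n → Inv R) :
    ∃ W : End F V, W.charpoly = (X - C 1) ^ (n + 1) ∧ (R * W).charpoly = (X - C 1) ^ (n + 1) ∧
      Reg W ∧ Reg (R * W) := by
  obtain ⟨x, y, hx, hy⟩ := exists_ne_zero_pair (F := F) (V := V) (by omega)
  obtain ⟨W, a1, a2, a3, a4⟩ := lu_unip hF n hV R hd hR x hx y hy
  exact ⟨W, a1, a2, reg_of_dual y a3, reg_of_range x a4⟩

theorem lu_one (hF : Four F) [Module.Finite F V] {n : ℕ} (hV : finrank F V = n + 1)
    {R : End F V} (hd : LinearMap.det R = 1) (hR : 1 ≤ n → Inv R) {β : F} (hβ : β ≠ 1) :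
    ∃ W : End F V, W.charpoly = (X - C β) * (X - C 1) ^ n ∧
      (R * W).charpoly = (X - C β) * (X - C 1) ^ n ∧ Reg W ∧ Reg (R * W) := by
  rcases n with _ | n
  · obtain rfl := eq_one_of_finrank_eq_one hV hd
    exact ⟨β • 1, by simpa using charpoly_smul_one_of_finrank hV β,
      by simpa using charpoly_smul_one_of_finrank hV β, reg_of_finrank_le_one hV.le _,
      reg_of_finrank_le_one hV.le _⟩
  · obtain ⟨x, y, hx, hy⟩ := exists_ne_zero_pair (F := F) (V := V) (by omega)
    obtain ⟨e, f, h1, h2, -, -, -, -, h8⟩ := exists_pivot hF hd (hR (by omega)) hx hy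
    obtain ⟨R', hR'⟩ := exists_schur R h2
    have hd' := (det_schur h1 h2 hR').trans hd
    have hV' := finrank_ker_add_one h1
    obtain ⟨W', a1, a2, a3, a4⟩ := lu_unip' hF (V := LinearMap.ker f) (n := n) (by omega) hd'
      (fun hn => h8 (by omega) R' hR' hd')
    obtain ⟨W, -, -, -, b4, b5, -, -, b6, b7⟩ := lu_step h1 h2 hR' W' β
    exact ⟨W, by rw [b4, a1], by rw [b5, a2], b6 hβ a3, b7 hβ a4⟩

theorem IsCyc.reg [Module.Finite F V] {f : End F V} {v : V} (h : IsCyc f v) : Reg f := by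
  refine h.sim_mulX.symm.reg (reg_iff_nul.2 ?_)
  by_cases h1 : (X - C 1 : F[X]) ∣ f.charpoly
  · rw [nul_mulX_of_dvd f.charpoly_monic.ne_zero h1, natDegree_X_sub_C]
  · rw [nul_mulX_of_coprime f.charpoly_monic.ne_zero
      ((irreducible_X_sub_C 1).coprime_iff_not_dvd.2 h1).symm]
    exact zero_le_one

theorem exists_cyc_end [Module.Finite F V] {χ : F[X]} (hχ : χ.Monic)
    (hd : χ.natDegree = finrank F V) : ∃ (W : End F V) (v : V), W.charpoly = χ ∧ IsCyc W v := by
  have := finite_adjoinRoot hχ.ne_zero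
  let e : AdjoinRoot χ ≃ₗ[F] V := LinearEquiv.ofFinrankEq _ _ (by rw [finrank_adjoinRoot, hd])
  obtain ⟨v, hv⟩ := (sim_conj (mulX χ) e).exists_isCyc ⟨1, isCyc_mulX χ⟩
  exact ⟨_, v, by rw [← (sim_conj (mulX χ) e).charpoly_eq, charpoly_mulX hχ], hv⟩

theorem lu_transvection (hF : Four F) [Module.Finite F V] {g : End F V}
    (hd : LinearMap.det g = 1) (hg : ∀ c : F, g ≠ c • 1) (hg' : ¬ Inv g) (β : F) {χ : F[X]}
    (hχ : χ.Monic) (hdeg : χ.natDegree + 1 = finrank F V) :
    ∃ W : End F V, W.charpoly = (X - C β) * χ ∧ (g * W).charpoly = (X - C β) * χ ∧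
      Reg W ∧ Reg (g * W) := by
  obtain ⟨a, ha⟩ : ∃ a : V, ∀ v, ∃ c : F, g v - v = c • a := by
    by_contra h
    exact hg' ⟨hg, h⟩
  have h0 := fixed_of_rank_le_one hd ha
  obtain ⟨φ, hφ⟩ := exists_transvection_of_rank_le_one ha
  have ha0 : a ≠ 0 := by
    rintro rfl
    exact hg 1 (by rw [hφ]; ext; simp)
  obtain ⟨f, hf⟩ := Module.Projective.exists_dual_eq_one F ha0
  have hV' := finrank_ker_add_one hf
  obtain ⟨W', v, a1, a2⟩ := exists_cyc_end (V := LinearMap.ker f) hχ (by omega)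
  let z1 : LinearMap.ker f →ₗ[F] F := φ ∘ₗ (LinearMap.ker f).subtype ∘ₗ W'
  obtain ⟨z, r1, r2⟩ : ∃ z, Reg (tri (β • (1 : End F F)) z W') ∧
      Reg (tri (β • (1 : End F F)) (z + z1) W') := by
    rcases exists_link (A := β • (1 : End F F)) (reg_of_finrank_le_one (by simp) _) a2.reg with
      h | ⟨Λ, h1, h2⟩
    · exact ⟨0, h _, h _⟩
    · obtain ⟨z0, hz0⟩ := DFunLike.ne_iff.1 h1
      obtain ⟨s, e1, e2, -⟩ := hF 0 (-Λ z1 / Λ z0) 0
      refine ⟨s • z0, h2 _ (by simpa [e1] using hz0), h2 _ fun h => e2 ?_⟩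
      rw [map_add, map_smul, smul_eq_mul] at h
      rw [eq_div_iff hz0]
      linear_combination h
  obtain ⟨W, b1, b2⟩ := exists_end_split hf (β • a)
    ((LinearMap.ker f).subtype ∘ₗ W' + z.smulRight a)
  have s1 : Sim (tri (β • (1 : End F F)) z W') W := sim_tri_upper hf b1 b2
  have s2 : Sim (tri (β • (1 : End F F)) (z + z1) W') (g * W) :=
    sim_tri_upper hf (by simp [b1, h0]) fun v => by
      rw [Module.End.mul_apply, b2, LinearMap.add_apply, map_add, LinearMap.smulRight_apply,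
        map_smul, h0, hφ, LinearMap.transvection.apply]
      simp [z1, add_smul]
      abel
  exact ⟨W, by rw [← s1.charpoly_eq, charpoly_tri, charpoly_smul_one, a1],
    by rw [← s2.charpoly_eq, charpoly_tri, charpoly_smul_one, a1], s1.reg r1, s2.reg r2⟩

/-- A non-scalar endomorphism of determinant one is a quotient of two regular unipotent ones. -/
theorem exists_reg_unip (hF : Four F) [Module.Finite F V] {n : ℕ} (hV : finrank F V = n + 1)
    {g : End F V} (hd : LinearMap.det g = 1) (hg : ∀ c : F, g ≠ c • 1) :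
    ∃ W : End F V, W.charpoly = (X - C 1) ^ (n + 1) ∧ (g * W).charpoly = (X - C 1) ^ (n + 1) ∧
      Reg W ∧ Reg (g * W) := by
  by_cases h : Inv g
  · exact lu_unip' hF hV hd fun _ => h
  · simpa only [← pow_succ'] using lu_transvection hF hd hg h 1 ((monic_X_sub_C 1).pow n)
      (by rw [natDegree_pow, natDegree_X_sub_C, mul_one, hV])

theorem exists_reg_two (hF : Four F) [Module.Finite F V] {n : ℕ} (hV : finrank F V = n + 2)
    {g : End F V} (hd : LinearMap.det g = 1) (hg : ∀ c : F, g ≠ c • 1) {β γ : F} (hβ : β ≠ 1)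
    (hγ : γ ≠ 1) :
    ∃ W : End F V, W.charpoly = (X - C β) * (X - C γ) * (X - C 1) ^ n ∧
      (g * W).charpoly = (X - C β) * (X - C γ) * (X - C 1) ^ n ∧ Reg W ∧ Reg (g * W) := by
  by_cases h : Inv g
  · obtain ⟨x, y, hx, hy⟩ := exists_ne_zero_pair (F := F) (V := V) (by omega)
    obtain ⟨e, f, h1, h2, -, -, -, -, h8⟩ := exists_pivot hF hd h hx hy
    obtain ⟨R', hR'⟩ := exists_schur g h2
    have hd' := (det_schur h1 h2 hR').trans hd
    have hV' := finrank_ker_add_one h1
    obtain ⟨W', a1, a2, a3, a4⟩ := lu_one hF (V := LinearMap.ker f) (n := n) (by omega) hd'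
      (fun hn => h8 (by omega) R' hR' hd') hγ
    obtain ⟨W, -, -, -, b4, b5, -, -, b6, b7⟩ := lu_step h1 h2 hR' W' β
    exact ⟨W, by rw [b4, a1, mul_assoc], by rw [b5, a2, mul_assoc], b6 hβ a3, b7 hβ a4⟩
  · simpa only [← mul_assoc] using lu_transvection hF hd hg h β
      ((monic_X_sub_C γ).mul ((monic_X_sub_C 1).pow n)) (by
        rw [(monic_X_sub_C γ).natDegree_mul ((monic_X_sub_C 1).pow n), natDegree_pow,
          natDegree_X_sub_C, natDegree_X_sub_C, hV]
        omega)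

end Cfsg.Agent.H4
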