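import Mathlib
import Cfsg.Agent.H1.SLMin

/-!
# Permutation actions of `SL(E)`: tools for the minimal index
-/

set_option autoImplicit false
set_option linter.unusedSectionVars false

namespace Cfsg.Agent.H4

open Cfsg Cfsg.Agent.H1 Module MulAction

section Perm

variable {G : Type*} [Group G]

/-- permutation character -/
noncomputable def pch (G : Type*) [Group G] (X : Type*) [MulAction G X] : G → ℂ :=
  fun g => (Nat.card (fixedBy X g) : ℂ)

theorem burnside_nat [Fintype G] (X : Type*) [Finite X] [MulAction G X] :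
    ∑ g : G, Nat.card (fixedBy X g) = Nat.card (orbitRel.Quotient G X) * Nat.card G := by
  classical
  have := Fintype.ofFinite X
  have : Fintype (orbitRel.Quotient G X) := Fintype.ofFinite _
  have h := sum_card_fixedBy_eq_card_orbits_mul_card_group G X
  simp only [Nat.card_eq_fintype_card]
  convert h

theorem inner_pch_one [Fintype G] (X : Type*) [Finite X] [MulAction G X] :
    classInner (pch G X) (fun _ => 1) = Nat.card (orbitRel.Quotient G X) := by
  simp only [classInner, pch, map_one, mul_one]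
  rw [← Nat.cast_sum, burnside_nat, Nat.cast_mul, mul_comm, mul_assoc,
    mul_inv_cancel₀ card_ne_zero', mul_one]

/-- pairs of distinct points -/
def offD (G : Type*) [Group G] (X : Type*) [MulAction G X] : SubMulAction G (X × X) where
  carrier := {p | p.1 ≠ p.2}
  smul_mem' g p hp := by
    simpa using hp

theorem card_offDiag (X : Type*) [Finite X] :
    Nat.card {p : X × X // p.1 ≠ p.2} + Nat.card X = Nat.card X * Nat.card X := by
  classical
  have := Fintype.ofFinite X
  rw [← Nat.card_prod, Nat.card_eq_fintype_card, Nat.card_eq_fintype_card,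
    Nat.card_eq_fintype_card, Fintype.card_subtype_compl]
  have h1 : Fintype.card {p : X × X // p.1 = p.2} = Fintype.card X :=
    Fintype.card_congr ⟨fun p => p.1.1, fun x => ⟨(x, x), rfl⟩,
      fun p => Subtype.ext (Prod.ext rfl p.2), fun _ => rfl⟩
  have h2 := Fintype.card_subtype_le (fun p : X × X => p.1 = p.2)
  omega

theorem card_fixed_offD (X : Type*) [Finite X] [MulAction G X] (g : G) :
    Nat.card (fixedBy (offD G X) g) + Nat.card (fixedBy X g) =
      Nat.card (fixedBy X g) * Nat.card (fixedBy X g) := by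
  rw [← card_offDiag]
  congr 1
  refine Nat.card_congr
    ⟨fun p => ⟨(⟨p.1.1.1, congrArg (fun z : offD G X => z.1.1) p.2⟩,
        ⟨p.1.1.2, congrArg (fun z : offD G X => z.1.2) p.2⟩),
        fun h => p.1.2 (congrArg Subtype.val h)⟩,
      fun p => ⟨⟨(p.1.1.1, p.1.2.1), fun h => p.2 (Subtype.ext h)⟩,
        Subtype.ext (Prod.ext p.1.1.2 p.1.2.2)⟩, fun _ => rfl, fun _ => rfl⟩

theorem card_orbits_one (X : Type*) [Finite X] [Nonempty X] [MulAction G X] [IsPretransitive G X] :
    Nat.card (orbitRel.Quotient G X) = 1 := by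
  rw [Nat.card_eq_one_iff_unique]
  refine ⟨⟨fun a b => ?_⟩, ⟨Quotient.mk _ (Classical.arbitrary X)⟩⟩
  induction a using Quotient.inductionOn
  induction b using Quotient.inductionOn
  exact Quotient.sound (mem_orbit_iff.mpr (exists_smul_eq G _ _))

theorem card_dvd_of_orbits_one [Finite G] (X : Type*) [Finite X] [MulAction G X]
    (h : Nat.card (orbitRel.Quotient G X) = 1) : Nat.card X ∣ Nat.card G := by
  obtain ⟨h1, ⟨x⟩⟩ := Nat.card_eq_one_iff_unique.mp h
  induction x using Quotient.inductionOn with | _ x =>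
  have : IsPretransitive G X := ⟨fun a b => by
    have : (Quotient.mk _ b : orbitRel.Quotient G X) = Quotient.mk _ a := Subsingleton.elim _ _
    exact mem_orbit_iff.mp (Quotient.exact this)⟩
  rw [← index_stabilizer_of_transitive G x]
  exact Subgroup.index_dvd_card _

theorem perm_cases [Finite G] {X : Type*} [Finite X] [MulAction G X] [IsPretransitive G X]
    (h2 : 2 ≤ Nat.card X) (D : ℕ)
    (hD : ∀ χ, IsIrrCharacter G χ → χ ≠ (fun _ => 1) → ∀ m : ℕ, χ 1 = m → D ≤ m) :
    D + 1 ≤ Nat.card X ∧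
      (2 * D + 1 ≤ Nat.card X ∨ Nat.card X * (Nat.card X - 1) ∣ Nat.card G) := by
  classical
  have := Fintype.ofFinite G
  have : Nonempty X := (Nat.card_pos_iff.mp (by omega)).1
  have hπ : IsCharacter G (pch G X) := isCharacter_fixedBy X
  have h1 : classInner (pch G X) (fun _ => 1) = 1 := by
    rw [inner_pch_one, card_orbits_one]; simp
  have hπ1 : pch G X 1 = Nat.card X := by simp [pch]
  have ha := IsCharacter.sub_irr hπ isIrrCharacter_one (by rw [h1]; simp)
  set a := pch G X - fun _ => 1 with hadef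
  have ha1 : classInner a (fun _ => 1) = 0 := by
    rw [hadef, classInner_sub_left, h1, IsIrrCharacter.classInner_self isIrrCharacter_one, sub_self]
  have hav : a 1 = (Nat.card X : ℂ) - 1 := by simp [hadef, hπ1]
  have key : ∀ b : G → ℂ, IsCharacter G b → b ≠ 0 → classInner b (fun _ => 1) = 0 →
      ∃ χ, IsIrrCharacter G χ ∧ IsCharacter G (b - χ) ∧ classInner (b - χ) (fun _ => 1) = 0 ∧
        ∃ m : ℕ, D ≤ m ∧ χ 1 = m := by
    intro b hb hb0 hb1
    obtain ⟨χ, hχ, hc⟩ := IsCharacter.exists_constituent hb hb0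
    have hne : χ ≠ fun _ => 1 := by rintro rfl; exact hc hb1
    obtain ⟨m, -, hm⟩ := IsIrrCharacter.exists_one_eq hχ
    refine ⟨χ, hχ, IsCharacter.sub_irr hb hχ hc, ?_, m, hD χ hχ hne m hm, hm⟩
    rw [classInner_sub_left, hb1, IsIrrCharacter.classInner_of_ne hχ isIrrCharacter_one hne,
      sub_self]
  have ha0 : a ≠ 0 := by
    intro h
    rw [h] at hav
    have : (Nat.card X : ℂ) = ((1 : ℕ) : ℂ) := by
      rw [Nat.cast_one, ← sub_eq_zero, ← hav]; rfl
    have := Nat.cast_injective this
    omega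
  obtain ⟨χ, hχ, hb, hb1, m, hm, hχ1⟩ := key a ha ha0 ha1
  obtain ⟨r, hr⟩ := IsCharacter.exists_one_eq hb
  have e1 : Nat.card X = 1 + m + r := by
    have : (Nat.card X : ℂ) = ((1 + m + r : ℕ) : ℂ) := by
      push_cast
      rw [← hr, ← hχ1, Pi.sub_apply, hav]; ring
    exact Nat.cast_injective this
  refine ⟨by omega, ?_⟩
  by_cases hb0 : a - χ = 0
  · right
    have hχa : a = χ := sub_eq_zero.mp hb0
    have hππ : classInner (pch G X) (pch G X) = 2 := by
      have e : pch G X = (fun _ => 1) + χ := by rw [← hχa, hadef]; ring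
      have hχ1' : classInner χ (fun _ => 1) = 0 := hχa ▸ ha1
      have h1χ : classInner (fun _ => 1) χ = 0 := by rw [← classInner_conj, hχ1', map_zero]
      rw [e, classInner_add_left, classInner_add_right, classInner_add_right,
        IsIrrCharacter.classInner_self isIrrCharacter_one, IsIrrCharacter.classInner_self hχ,
        hχ1', h1χ]
      norm_num
    have h3 : classInner (pch G (offD G X)) (fun _ => 1) = 1 := by
      have e : pch G (offD G X) = pch G X * pch G X - pch G X := by
        ext g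
        simp only [pch, Pi.sub_apply, Pi.mul_apply]
        rw [← Nat.cast_mul, ← card_fixed_offD]
        push_cast; ring
      have e2 : classInner (pch G X * pch G X) (fun _ => 1) = classInner (pch G X) (pch G X) := by
        simp [classInner, pch]
      rw [e, classInner_sub_left, e2, hππ, h1]; norm_num
    rw [inner_pch_one] at h3
    have h4 := card_dvd_of_orbits_one (G := G) (offD G X) (by exact_mod_cast h3)
    have h5 : Nat.card (offD G X) + Nat.card X = Nat.card X * Nat.card X := card_offDiag X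
    have h6 : Nat.card (offD G X) = Nat.card X * (Nat.card X - 1) := by
      rw [Nat.mul_sub_one]; omega
    rwa [h6] at h4
  · left
    obtain ⟨χ', -, hb', -, m', hm', hχ1'⟩ := key _ hb hb0 hb1
    obtain ⟨r', hr'⟩ := IsCharacter.exists_one_eq hb'
    have e2 : r = m' + r' := by
      have : (r : ℂ) = ((m' + r' : ℕ) : ℂ) := by
        push_cast
        rw [← hr', ← hχ1', ← hr]; simp
      exact Nat.cast_injective this
    omega

end Perm

section SL

variable {F : Type*} [Field F] [Fintype F] {E : Type*} [AddCommGroup E] [Module F E]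
  [FiniteDimensional F E]

theorem irr_deg_ge (h3 : 3 ≤ finrank F E) {χ : SpecialLinearGroup F E → ℂ}
    (hχ : IsIrrCharacter _ χ) (hne : χ ≠ fun _ => 1) (m : ℕ) (hm : χ 1 = m) :
    Fintype.card F ^ (finrank F E - 1) - 1 ≤ m := by
  obtain ⟨k, ρ, hρ, rfl⟩ := hχ
  have hk : k = m := by simpa using hm
  subst hk
  obtain ⟨ψ, hψ⟩ := exists_psi_complex F
  have : ∃ (w : E) (f : Dual F E), f w = 0 ∧ ρ (tv w f) ≠ 1 := by
    by_contra hc
    push Not at hc
    have h1 := eq_one_of_forall_tv ρ hc
    have h2 := finrank_le_one_of_trivial ρ hρ h1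
    obtain ⟨n, hn, hn'⟩ := IsIrrCharacter.exists_one_eq (isIrrCharacter_of_rep ρ hρ)
    have h4 : k = n := by simpa using hn'
    have h5 : k = 1 := by simp at h2; omega
    apply hne
    ext g
    simp [Representation.character, h1 g, h5]
  obtain ⟨w, f, hf, hne⟩ := this
  have hw : w ≠ 0 := by
    rintro rfl
    exact hne (by rw [tv_zero_left, map_one])
  obtain ⟨y, hy, hb⟩ := exists_Ws_ne_bot ρ hψ hf hne
  have := mul_le_finrank_of_Ws ρ hψ hw (m := 1) (fun y' hy' => by
    refine le_trans ?_ (finrank_Ws_le h3 ρ ψ hy hy' hw hw)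
    rw [Nat.one_le_iff_ne_zero]
    intro h0
    exact hb (Submodule.finrank_eq_zero.mp h0))
  simpa using this

theorem tv_isConj (h3 : 3 ≤ finrank F E) {w w' : E} {f f' : Dual F E} (hf : f w = 0)
    (hf' : f' w' = 0) (hw : w ≠ 0) (hw' : w' ≠ 0) (h0 : f ≠ 0) (h0' : f' ≠ 0) :
    ∃ g, g * tv w f * g⁻¹ = tv w' f' := by
  obtain ⟨g, hg⟩ := exists_move_one (F := F) (by omega) hw hw'
  have h1 : slDual g f w' = 0 := by rw [← hg, slDual_slAct, hf]
  have h2 : slDual g f ≠ 0 := fun h => h0 (rep_injective slDual g (by rw [h, map_zero]))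
  have ha := finrank_ann (F := F) hw'
  obtain ⟨k, hk, e⟩ := move_dual' (actStab slAct w') ⊥ (ann F w') (fun u hu a h1 _ => by
      rw [mem_actStab, tv_apply h1, mem_ann.mp hu]; simp)
    (y := slDual g f) (y' := f') (by simpa using h2) (by simpa using h0')
    (Submodule.sub_mem _ hf' h1) (by
      rw [bot_sup_eq]
      exact exists_not_mem_of_finrank_lt (by have := finrank_span_le (F := F) (slDual g f); omega))
  refine ⟨k * g, ?_⟩
  rw [tv_conj _ hf, act_mul_apply, act_mul_apply, hg, mem_actStab.mp hk, e, mul_inv_cancel_right]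

variable {X : Type*} [Finite X] [MulAction (SpecialLinearGroup F E) X]

theorem card_fixedBy_conj {G : Type*} [Group G] {X : Type*} [MulAction G X] (g t : G) :
    Nat.card (fixedBy X (g * t * g⁻¹)) = Nat.card (fixedBy X t) := by
  refine (Nat.card_congr ((toPerm g).subtypeEquiv fun x => ?_)).symm
  simp [mem_fixedBy, mul_smul]

theorem tv_fixed_dvd (h3 : 3 ≤ finrank F E) {w : E} {f : Dual F E} (hf : f w = 0)
    (hw : w ≠ 0) (h0 : f ≠ 0) :
    Fintype.card F ^ (finrank F E - 1) ∣ Nat.card X - Nat.card (fixedBy X (tv w f)) := by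
  classical
  have : Finite E := Module.finite_of_finite F
  have : Finite (Dual F E) := Module.finite_of_finite F
  have := Fintype.ofFinite (ann F w)
  let φ : Multiplicative (ann F w) →* SpecialLinearGroup F E :=
    MonoidHom.mk' (fun u => tv w (Multiplicative.toAdd u).1) (fun u v =>
      tv_add_right (mem_ann.mp (Multiplicative.toAdd u).2) (mem_ann.mp (Multiplicative.toAdd v).2))
  let _ : MulAction (Multiplicative (ann F w)) X := MulAction.compHom X φ
  have hb := burnside_nat (G := Multiplicative (ann F w)) X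
  have hc : Fintype.card (ann F w) = Fintype.card F ^ (finrank F E - 1) := by
    rw [Module.card_eq_pow_finrank (K := F), ← finrank_ann (F := F) hw]; simp
  rw [← Finset.add_sum_erase _ _ (Finset.mem_univ 1)] at hb
  have e1 : ∀ u ∈ Finset.univ.erase (1 : Multiplicative (ann F w)),
      Nat.card (fixedBy X u) = Nat.card (fixedBy X (tv w f)) := by
    intro u hu
    have hu0 : (Multiplicative.toAdd u).1 ≠ 0 := fun h => (Finset.mem_erase.mp hu).1 (by
      have : Multiplicative.toAdd u = 0 := Subtype.ext h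
      exact toAdd_eq_zero.mp this)
    obtain ⟨g, hg⟩ := tv_isConj h3 hf (mem_ann.mp (Multiplicative.toAdd u).2) hw hw h0 hu0
    rw [← card_fixedBy_conj g, hg]
    rfl
  rw [Finset.sum_congr rfl e1, Finset.sum_const, Finset.card_erase_of_mem (Finset.mem_univ _),
    Finset.card_univ, Nat.card_eq_fintype_card (α := Multiplicative _), Fintype.card_multiplicative,
    hc, fixedBy_one_eq_univ, Nat.card_univ, smul_eq_mul] at hb
  have hle : Nat.card (fixedBy X (tv w f)) ≤ Nat.card X := Finite.card_subtype_le _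
  have hp : 1 ≤ Fintype.card F ^ (finrank F E - 1) := Nat.one_le_pow _ _ Fintype.card_pos
  generalize Fintype.card F ^ (finrank F E - 1) = Q at *
  generalize Nat.card (fixedBy X (tv w f)) = a at *
  obtain ⟨Q, rfl⟩ : ∃ R, Q = R + 1 := ⟨Q - 1, by omega⟩
  obtain ⟨c, hc⟩ : ∃ c, Nat.card X = a + c := ⟨Nat.card X - a, by omega⟩
  rw [hc, Nat.add_sub_cancel] at hb
  rw [hc, Nat.add_sub_cancel_left]
  have : (Q + 1) * a + c = Nat.card (orbitRel.Quotient (Multiplicative (ann F w)) X) * (Q + 1) := by
    rw [← hb]; ring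
  exact (Nat.dvd_add_right (Dvd.intro _ rfl)).mp (this ▸ Dvd.intro_left _ rfl)

theorem tv_fixed_lt [IsPretransitive (SpecialLinearGroup F E) X] (h2 : 2 ≤ Nat.card X)
    (h3 : 3 ≤ finrank F E) {w : E} {f : Dual F E} (hf : f w = 0) (hw : w ≠ 0) (h0 : f ≠ 0) :
    Nat.card (fixedBy X (tv w f)) < Nat.card X := by
  by_contra hc
  have hall : ∀ x : X, tv w f • x = x := by
    intro x
    have : fixedBy X (tv w f) = Set.univ := by
      refine Set.eq_of_subset_of_ncard_le (Set.subset_univ _) ?_
      rw [Set.ncard_univ, ← Nat.card_coe_set_eq]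
      omega
    have h1 : x ∈ fixedBy X (tv w f) := this ▸ Set.mem_univ x
    exact h1
  have htop := eq_top_of_tv (toPermHom (SpecialLinearGroup F E) X).ker (fun w' f' hf' => by
    by_cases hw' : w' = 0
    · rw [hw', tv_zero_left]; exact one_mem _
    by_cases h0' : f' = 0
    · rw [h0', tv_zero_right]; exact one_mem _
    obtain ⟨g, hg⟩ := tv_isConj h3 hf hf' hw hw' h0 h0'
    rw [← hg]
    refine (MonoidHom.normal_ker _).conj_mem _ ?_ g
    ext x
    exact hall x)
  have : Nontrivial X := Finite.one_lt_card_iff_nontrivial.mp (by omega)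
  obtain ⟨x, y, hxy⟩ := exists_pair_ne X
  obtain ⟨g, hg⟩ := exists_smul_eq (SpecialLinearGroup F E) x y
  have h1 : g ∈ (toPermHom (SpecialLinearGroup F E) X).ker := htop ▸ Subgroup.mem_top g
  have h4 : g • x = x := DFunLike.congr_fun (MonoidHom.mem_ker.mp h1) x
  exact hxy (h4.symm.trans hg)

theorem no_fixed_of_card [IsPretransitive (SpecialLinearGroup F E) X]
    (h3 : 3 ≤ finrank F E) (hX : Nat.card X = Fintype.card F ^ (finrank F E - 1))
    {w : E} {f : Dual F E} (hf : f w = 0) (hw : w ≠ 0) (h0 : f ≠ 0) (x : X) :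
    tv w f • x ≠ x := by
  intro hx
  have h2 : 2 ≤ Nat.card X := by
    rw [hX]
    exact Nat.one_lt_pow (by omega) Fintype.one_lt_card
  have h4 := tv_fixed_lt (X := X) h2 h3 hf hw h0
  have h5 := tv_fixed_dvd (X := X) h3 hf hw h0
  rw [← hX] at h5
  have h6 := Nat.le_of_dvd (by omega) h5
  have : Nonempty (fixedBy X (tv w f)) := ⟨⟨x, hx⟩⟩
  have := Nat.card_pos (α := fixedBy X (tv w f))
  omega

theorem card_ge_pow [IsPretransitive (SpecialLinearGroup F E) X] (h2 : 2 ≤ Nat.card X)
    (h3 : 3 ≤ finrank F E) : Fintype.card F ^ (finrank F E - 1) ≤ Nat.card X := by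
  obtain ⟨w, -, hw⟩ := exists_not_mem_of_finrank_lt (S := (⊥ : Submodule F E)) (T := ⊤)
    (by rw [finrank_top, finrank_bot]; omega)
  replace hw : w ≠ 0 := by simpa using hw
  have ha := finrank_ann (F := F) hw
  obtain ⟨f, hf, h0⟩ := exists_not_mem_of_finrank_lt (S := (⊥ : Submodule F (Dual F E)))
    (T := ann F w) (by rw [finrank_bot]; omega)
  replace h0 : f ≠ 0 := by simpa using h0
  have h4 := tv_fixed_lt (X := X) h2 h3 (mem_ann.mp hf) hw h0
  have h5 := tv_fixed_dvd (X := X) h3 (mem_ann.mp hf) hw h0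
  have h6 := Nat.le_of_dvd (by omega) h5
  omega

theorem exists_tv_of_involution (h3 : finrank F E = 3) (h2 : (2 : F) = 0)
    {t : SpecialLinearGroup F E} (ht : orderOf t = 2) :
    ∃ (w : E) (f : Dual F E), f w = 0 ∧ w ≠ 0 ∧ f ≠ 0 ∧ t = tv w f := by
  set N : Module.End F E := slAct t - 1 with hN
  have ht2 : ∀ x, slAct t (slAct t x) = x := fun x => by
    rw [← act_mul_apply, ← pow_two, ← ht, pow_orderOf_eq_one, map_one]; rfl
  have hNN : ∀ x, N (N x) = 0 := fun x => by
    simp only [hN, LinearMap.sub_apply, Module.End.one_apply, map_sub, ht2]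
    have : (2 : F) • (x - slAct t x) = 0 := by rw [h2, zero_smul]
    rw [← this]
    module
  have hN0 : N ≠ 0 := by
    intro h
    have : t = 1 := sl_ext fun x => by
      have := DFunLike.congr_fun h x
      simp only [hN, LinearMap.sub_apply, Module.End.one_apply, LinearMap.zero_apply] at this
      rw [sub_eq_zero.mp this, map_one]; rfl
    rw [this, orderOf_one] at ht
    omega
  have h4 := LinearMap.finrank_range_add_finrank_ker N
  have h5 : finrank F (LinearMap.range N) ≤ finrank F (LinearMap.ker N) :=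
    Submodule.finrank_mono (by rintro _ ⟨x, rfl⟩; exact hNN x)
  obtain ⟨x0, hx0⟩ := DFunLike.ne_iff.mp hN0
  replace hx0 : N x0 ≠ 0 := hx0
  have h6 : LinearMap.range N = F ∙ N x0 := by
    symm
    refine Submodule.eq_of_le_of_finrank_le
      ((Submodule.span_singleton_le_iff_mem _ _).mpr ⟨x0, rfl⟩) ?_
    rw [finrank_span_singleton hx0]; omega
  obtain ⟨e, he, -⟩ := sep_vec (F := F) ⊥ (N x0) (by simpa using hx0)
  have hw : (e ∘ₗ N) (N x0) = 0 := by simp [hNN]
  refine ⟨N x0, e ∘ₗ N, hw, hx0, fun h => ?_, sl_ext fun x => ?_⟩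
  · have := DFunLike.congr_fun h x0
    simp [he] at this
  · rw [tv_apply hw]
    have : N x ∈ F ∙ N x0 := h6 ▸ ⟨x, rfl⟩
    obtain ⟨c, hc⟩ := Submodule.mem_span_singleton.mp this
    have h7 : (e ∘ₗ N) x = c := by
      rw [LinearMap.comp_apply, ← hc, map_smul, he, smul_eq_mul, mul_one]
    rw [h7, hc]
    simp [hN]

theorem not_card_three_two [IsPretransitive (SpecialLinearGroup F E) X]
    (h3 : finrank F E = 3) (h2 : (2 : F) = 0) (hX : Nat.card X = Fintype.card F ^ 2)
    (hG : 2 * Nat.card X ∣ Nat.card (SpecialLinearGroup F E)) : False := by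
  have := finite_SL (F := F) (E := E)
  have hpos : 0 < Nat.card X := by rw [hX]; exact pow_pos Fintype.card_pos _
  obtain ⟨x⟩ : Nonempty X := (Nat.card_pos_iff.mp hpos).1
  have h1 := (stabilizer (SpecialLinearGroup F E) x).card_mul_index
  rw [index_stabilizer_of_transitive] at h1
  rw [← h1] at hG
  have h4 := Nat.dvd_of_mul_dvd_mul_right hpos hG
  have : Fact (Nat.Prime 2) := ⟨Nat.prime_two⟩
  obtain ⟨t, ht⟩ := exists_prime_orderOf_dvd_card' 2 h4
  obtain ⟨w, f, hf, hw, h0, e⟩ := exists_tv_of_involution h3 h2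
    (t := t.1) (by rw [Subgroup.orderOf_coe, ht])
  exact no_fixed_of_card (X := X) (by omega) (by rw [hX, h3]) hf hw h0 x (e ▸ t.2)

end SL

section TwentySeven

variable {F : Type*} [Field F] [Fintype F]

theorem no_27 (hF : Fintype.card F = 3) {X : Type*} [Finite X] (hX : Nat.card X = 27)
    (u : Matrix (Fin 2) (Fin 2) F → X → X) (hadd : ∀ A B x, u (A + B) x = u A (u B x))
    (hs : ∀ A x, A ≠ 0 → A.det = 0 → u A x ≠ x)
    (hc : ∀ A B, A.det = B.det → A.det ≠ 0 → (∃ x, u A x = x) → ∃ x, u B x = x) : False := by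
  classical
  have := Fintype.ofFinite X
  have h3 : (3 : F) = 0 := by
    have := FiniteField.cast_card_eq_zero F
    rw [hF] at this; exact_mod_cast this
  have hcube : ∀ s : F, s ^ 3 = s := fun s => by rw [← hF]; exact FiniteField.pow_card s
  have hsub : ∀ A B x y, u A x = y → u B x = y → u (A - B) y = y := by
    intro A B x y ha hb
    conv_lhs => rw [← hb, ← hadd, sub_add_cancel, ha]
  have heq : ∀ A B x y, u A x = y → u B x = y → (A - B).det = 0 → A = B := by
    intro A B x y ha hb hd
    by_contra hne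
    exact hs _ y (sub_ne_zero.mpr hne) hd (hsub A B x y ha hb)
  have h9 : ∀ A, (∃ x, u A x = x) → 9 ≤ (Finset.univ.filter fun x => u A x = x).card := by
    rintro A ⟨x, hx⟩
    have : (Finset.univ : Finset (F × F)).card = 9 := by
      rw [Finset.card_univ, Fintype.card_prod, hF]
    rw [← this]
    refine Finset.card_le_card_of_injOn (fun c => u !![0, c.1; 0, c.2] x) (fun c _ => ?_)
      (fun c _ c' _ h => ?_)
    · simp only [Finset.coe_filter, Finset.mem_univ, true_and, Set.mem_ofPred_eq]
      rw [← hadd, add_comm, hadd, hx]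
    · have := heq _ _ x _ h rfl (by simp [Matrix.det_fin_two])
      exact Prod.ext (by simpa using congrFun (congrFun this 0) 1)
        (by simpa using congrFun (congrFun this 1) 1)
  obtain ⟨x0⟩ : Nonempty X := (Nat.card_pos_iff.mp (by omega)).1
  obtain ⟨A, B, hAB, he⟩ := Fintype.exists_ne_map_eq_of_card_lt (fun A => u A x0) (by
    rw [← Nat.card_eq_fintype_card, hX]
    have : Fintype.card (Matrix (Fin 2) (Fin 2) F) = Fintype.card (Fin 2 → Fin 2 → F) :=
      Fintype.card_congr Matrix.of.symm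
    rw [this]
    simp [hF])
  have hfix := hsub A B x0 _ he rfl
  set d := (A - B).det with hd
  have hd0 : d ≠ 0 := fun h => hs _ _ (sub_ne_zero.mpr hAB) h hfix
  have hdd : d ^ 2 = 1 := by
    have := hcube d
    have h1 : d * (d ^ 2 - 1) = 0 := by linear_combination this
    exact sub_eq_zero.mp ((mul_eq_zero.mp h1).resolve_left hd0)
  have cover : ∀ C : F → Matrix (Fin 2) (Fin 2) F, (∀ y, (C y).det = d) →
      (∀ y y', (C y - C y').det = 0) → Function.Injective C → ∀ x, ∃ y, u (C y) x = x := by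
    intro C h1 h2 h4 x
    have hdisj : ((Finset.univ : Finset F) : Set F).PairwiseDisjoint
        (fun y => Finset.univ.filter fun x => u (C y) x = x) := by
      intro y _ y' _ hne
      rw [Function.onFun, Finset.disjoint_left]
      intro z hz hz'
      exact hne (h4 (heq _ _ z z (Finset.mem_filter.mp hz).2 (Finset.mem_filter.mp hz').2 (h2 _ _)))
    have hcard := Finset.card_biUnion hdisj
    have hge : ∑ _y : F, 9 ≤ ∑ y : F, (Finset.univ.filter fun x => u (C y) x = x).card :=
      Finset.sum_le_sum fun y _ => h9 _ (hc _ _ (h1 y).symm hd0 ⟨_, hfix⟩)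
    rw [Finset.sum_const, Finset.card_univ, hF, ← hcard] at hge
    have huniv := Finset.eq_univ_of_card _ (le_antisymm (Finset.card_le_univ _)
      (show Fintype.card X ≤ _ by rw [← Nat.card_eq_fintype_card, hX]; exact hge))
    have : x ∈ Finset.univ.biUnion (fun y => Finset.univ.filter fun x => u (C y) x = x) := by
      rw [huniv]; exact Finset.mem_univ x
    obtain ⟨y, -, hy⟩ := Finset.mem_biUnion.mp this
    exact ⟨y, (Finset.mem_filter.mp hy).2⟩
  have cA := cover (fun y => !![1, y; 0, d]) (fun y => by simp [Matrix.det_fin_two])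
    (fun y y' => by simp [Matrix.det_fin_two])
    (fun y y' h => by simpa using congrFun (congrFun h 0) 1)
  have cB := cover (fun z => !![0, -d; 1, z]) (fun y => by simp [Matrix.det_fin_two])
    (fun y y' => by simp [Matrix.det_fin_two])
    (fun y y' h => by simpa using congrFun (congrFun h 1) 1)
  obtain ⟨y, hy⟩ := cA x0
  obtain ⟨z, hz⟩ := cB x0
  have hp : u (!![1, y; 0, d] + !![0, -d; 1, z]) x0 = x0 := by rw [hadd, hz, hy]
  have hm := hsub _ _ _ _ hy hz
  have hp0 : (!![1, y; 0, d] + !![0, -d; 1, z] : Matrix (Fin 2) (Fin 2) F).det ≠ 0 := fun h =>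
    hs _ _ (fun e => by simpa using congrFun (congrFun e 0) 0) h hp
  have hm0 : (!![1, y; 0, d] - !![0, -d; 1, z] : Matrix (Fin 2) (Fin 2) F).det ≠ 0 := fun h =>
    hs _ _ (fun e => by simpa using congrFun (congrFun e 0) 0) h hm
  have ep : (!![1, y; 0, d] + !![0, -d; 1, z] : Matrix (Fin 2) (Fin 2) F).det = (z - y) - d := by
    simp [Matrix.det_fin_two]; linear_combination d * h3
  have em : (!![1, y; 0, d] - !![0, -d; 1, z] : Matrix (Fin 2) (Fin 2) F).det = -((z - y) + d) := by
    simp [Matrix.det_fin_two]; linear_combination d * h3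
  have hzy : z - y = 0 := by
    have h1 : (z - y) * ((z - y - d) * (z - y + d)) = 0 := by
      linear_combination hcube (z - y) - (z - y) * hdd
    rw [ep] at hp0
    rw [em, neg_ne_zero] at hm0
    exact (mul_eq_zero.mp h1).resolve_right (mul_ne_zero hp0 hm0)
  obtain ⟨x1, hx1⟩ := hc _ !![1, 0; 0, -d] (by rw [ep, hzy]; simp [Matrix.det_fin_two]) hp0 ⟨_, hp⟩
  obtain ⟨y1, hy1⟩ := cA x1
  have := heq _ _ _ _ hx1 hy1 (by simp [Matrix.det_fin_two])
  have h4 : -d = d := by simpa using congrFun (congrFun this 1) 1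
  apply hd0
  linear_combination d * h3 + h4

/-- the unipotent radical element -/
def rad4 (A : Matrix (Fin 2) (Fin 2) F) : Matrix.SpecialLinearGroup (Fin 4) F :=
  ⟨!![1, 0, A 0 0, A 0 1; 0, 1, A 1 0, A 1 1; 0, 0, 1, 0; 0, 0, 0, 1], by
    simp [Matrix.det_succ_row_zero, Fin.sum_univ_succ, Fin.succAbove]⟩

/-- Levi element -/
def lev4 (A : Matrix (Fin 2) (Fin 2) F) (h : A.det = 1) : Matrix.SpecialLinearGroup (Fin 4) F :=
  ⟨!![A 0 0, A 0 1, 0, 0; A 1 0, A 1 1, 0, 0; 0, 0, 1, 0; 0, 0, 0, 1], by
    rw [Matrix.det_fin_two] at h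
    simp [Matrix.det_succ_row_zero, Fin.sum_univ_succ, Fin.succAbove]
    linear_combination h⟩

theorem rad4_add (A B : Matrix (Fin 2) (Fin 2) F) : rad4 (A + B) = rad4 A * rad4 B := by
  ext i j
  rw [Matrix.SpecialLinearGroup.coe_mul]
  fin_cases i <;> fin_cases j <;> simp [rad4, Matrix.mul_apply, Fin.sum_univ_four, add_comm]

theorem rad4_zero : rad4 (0 : Matrix (Fin 2) (Fin 2) F) = 1 := by
  ext i j
  fin_cases i <;> fin_cases j <;> simp [rad4]

theorem lev4_mul (A B : Matrix (Fin 2) (Fin 2) F) (h : A.det = 1) :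
    lev4 A h * rad4 B = rad4 (A * B) * lev4 A h := by
  ext i j
  rw [Matrix.SpecialLinearGroup.coe_mul, Matrix.SpecialLinearGroup.coe_mul]
  fin_cases i <;> fin_cases j <;>
    simp [rad4, lev4, Matrix.mul_apply, Fin.sum_univ_four, Fin.sum_univ_two]

theorem exists_rank_one (A : Matrix (Fin 2) (Fin 2) F) (h0 : A ≠ 0) (h : A.det = 0) :
    ∃ c r : Fin 2 → F, c ≠ 0 ∧ r ≠ 0 ∧ ∀ i j, A i j = c i * r j := by
  obtain ⟨i0, j0, hij⟩ : ∃ i j, A i j ≠ 0 := by
    by_contra hc
    push Not at hc
    exact h0 (Matrix.ext hc)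
  rw [Matrix.det_fin_two] at h
  refine ⟨fun i => A i j0, fun j => A i0 j / A i0 j0, fun e => hij (congrFun e i0),
    fun e => ?_, fun i j => ?_⟩
  · have := congrFun e j0
    simp [hij] at this
  · field_simp
    fin_cases i <;> fin_cases j <;> fin_cases i0 <;> fin_cases j0 <;> simp <;>
      first | ring1 | linear_combination h | linear_combination -h

theorem not_card_four_three (hF : Fintype.card F = 3) {X : Type*} [Finite X]
    [MulAction (SpecialLinearGroup F (Fin 4 → F)) X]
    [IsPretransitive (SpecialLinearGroup F (Fin 4 → F)) X] (hX : Nat.card X = 27) : False := by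
  classical
  let e := Matrix.SpecialLinearGroup.toLin'_equiv (n := Fin 4) (R := F)
  refine no_27 hF hX (fun A x => e (rad4 A) • x) (fun A B x => by
    simp only [rad4_add, map_mul, mul_smul])
    (fun A x h0 hd => ?_) (fun A B hd h0 ⟨x, hx⟩ => ?_)
  · obtain ⟨c, r, hc, hr, hA⟩ := exists_rank_one A h0 hd
    let w : Fin 4 → F := ![c 0, c 1, 0, 0]
    let f : Dual F (Fin 4 → F) := r 0 • LinearMap.proj 2 + r 1 • LinearMap.proj 3
    have hf : f w = 0 := by simp [f, w]
    have : e (rad4 A) = tv w f := sl_ext fun v => by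
      rw [tv_apply hf]
      change (rad4 A).1.mulVec v = _
      ext i
      fin_cases i <;> simp [rad4, Matrix.mulVec, dotProduct, Fin.sum_univ_four, f, w, hA] <;> ring
    simp only [this]
    refine no_fixed_of_card (by simp) (by simp [hX, hF]) hf (fun h => hc ?_) (fun h => hr ?_) x
    · ext i
      fin_cases i
      · simpa [w] using congrFun h 0
      · simpa [w] using congrFun h 1
    · ext i
      fin_cases i
      · simpa [f] using DFunLike.congr_fun h (Pi.single 2 1)
      · simpa [f] using DFunLike.congr_fun h (Pi.single 3 1)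
  · have hu : IsUnit A.det := h0.isUnit
    have h1 : (B * A⁻¹).det = 1 := by
      rw [Matrix.det_mul, Matrix.det_nonsing_inv, ← hd, Ring.mul_inverse_cancel _ hu]
    have h2 := lev4_mul (B * A⁻¹) A h1
    rw [Matrix.nonsing_inv_mul_cancel_right _ _ hu] at h2
    refine ⟨e (lev4 _ h1) • x, ?_⟩
    rw [← mul_smul, ← map_mul, ← h2, map_mul, mul_smul, hx]

end TwentySeven

end Cfsg.Agent.H4
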