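import Cfsg.Agent.L0.PA.A
import Cfsg.Prelude.Def_EvenType

/-! Small pieces of the reduction: extension of normal complements, the prime two, the hypothesis class. -/

set_option autoImplicit false

namespace Cfsg.Agent.H4.PD0

open Subgroup Cfsg.Agent.H2 Cfsg.Agent.H1.CA Cfsg.Agent.L0.PA

universe u

theorem npc_ext {G : Type*} [Group G] [Finite G] {p : ℕ} [Fact p.Prime] (M : Subgroup G) [M.Normal]
    (hq : NPC p (⊤ : Subgroup (G ⧸ M))) (hc : ∀ x : G, ¬ p ∣ orderOf x → x ∈ centralizer (M : Set G)) :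
    NPC p (⊤ : Subgroup G) := by
  let C : Subgroup G := centralizer (M : Set G) ⊓ hq.comp.comap (QuotientGroup.mk' M)
  have hC : NPC p C := by
    refine npc_of_central C M (fun x hx m hm => (mem_centralizer_iff.mp hx.1 m hm).symm) (fun x hx => ?_)
    refine ⟨orderOf (QuotientGroup.mk' M x), hx.2.2, ?_⟩
    rw [← QuotientGroup.eq_one_iff]
    change QuotientGroup.mk' M _ = 1
    rw [map_pow, pow_orderOf_eq_one]
  have h5 : ∀ x : G, ¬ p ∣ orderOf x → x ∈ C := fun x hx =>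
    ⟨hc x hx, trivial, fun h6 => hx (h6.trans (orderOf_map_dvd _ x))⟩
  exact fun x _ y _ hx hy => hC x (h5 x hx) y (h5 y hy) hx hy

theorem npc_two (H : Part2.{u}) {G : Type u} [Group G] [Finite G] {r : ℕ} {φ : MulAut G} (h : Cls r φ)
    (hD : ∀ X : Subgroup G, IsPGroup 2 X → (∀ x ∈ X, φ x ∈ X) → ∀ g ∈ normalizer (X : Set G), ¬ 2 ∣ orderOf g →
      g ∈ centralizer (X : Set G)) : NPC 2 (⊤ : Subgroup G) := by
  have := Nat.fact_prime_two
  induction' hn : Nat.card G using Nat.strong_induction_on with n ih generalizing G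
  subst hn
  refine H G r φ ⟨h.pr, h.r2, h.pow, h.ndvd, fun a b => h.uniq, fun X h1 h2 h3 => ?_⟩
  have h4 : ∀ x ∈ X, φ x ∈ X := fun x hx => h3 ▸ (⟨x, hx, rfl⟩ : φ x ∈ im φ X)
  by_cases hN : normalizer (X : Set G) = ⊤
  · have hXn : X.Normal := normalizer_eq_top_iff.mp hN
    rw [hN]
    refine npc_ext X (ih _ (card_quot_lt _ h2) (h.quot X h4) (fun Y k1 k2 g k3 k4 => ?_) rfl) fun x hx =>
      hD X h1 h4 x (hN ▸ mem_top x) hx
    obtain ⟨x, rfl⟩ := QuotientGroup.mk'_surjective X g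
    obtain ⟨j, k5, k6⟩ := exists_pprime_lift (p := 2) (QuotientGroup.mk' X) x k4
    have := hD (Y.comap (QuotientGroup.mk' X)) (k1.comap_of_ker_isPGroup _ (by rwa [QuotientGroup.ker_mk']))
      (fun y hy => k2 _ hy) _ (mem_norm_of fun y hy => by
        rw [mem_comap, map_mul, map_mul, map_inv, k6]; exact nconj k3 hy) k5
    refine cent_iff.2 fun y hy => ?_
    obtain ⟨y, rfl⟩ := QuotientGroup.mk'_surjective X y
    rw [← k6, ← map_mul, ← map_mul, cent_iff.1 this y hy]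
  · refine npc_of_top (ih _ ?_ (h.res _ (inv_norm h4)) (fun Y k1 k2 g k3 k4 => ?_) rfl)
    · rw [← card_top (G := G)]
      exact card_lt_of_lt (lt_top_iff_ne_top.mpr hN)
    · have := hD (Y.map (Subgroup.subtype _)) (k1.map _) (by rintro _ ⟨y, hy, rfl⟩; exact ⟨_, k2 y hy, rfl⟩) g
        (le_normalizer_map _ (mem_map_of_mem _ k3)) (by rwa [orderOf_coe])
      exact cent_iff.2 fun y hy => Subtype.ext (cent_iff.1 this y ⟨y, hy, rfl⟩)

theorem mem_of_dvd {C : Type*} [Group C] [Finite C] [IsCyclic C] {x y : C} (h : orderOf x ∣ orderOf y) :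
    x ∈ zpowers y := by
  let _ : CommGroup C := IsCyclic.commGroup
  have hc := IsCyclic.card_powMonoidHom_ker (G := C) (orderOf y)
  have : zpowers y = (powMonoidHom (orderOf y) : C →* C).ker := eq_of_le_of_card_ge
    (zpowers_le.2 (pow_orderOf_eq_one y)) (by rw [hc, Nat.card_zpowers]; exact Nat.gcd_le_right _ (orderOf_pos y))
  rw [this]; exact orderOf_dvd_iff_pow_eq_one.1 h

theorem cls_of {G : Type*} [Group G] [Finite G] (φ : MulAut G) (r : ℕ) (hr : r.Prime) (hr2 : r ≠ 2)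
    (hφ : orderOf φ = r) (hcyc : IsCyclic ↥(Cfsg.fixedSubgroup φ)) (h2 : IsPGroup 2 ↥(Cfsg.fixedSubgroup φ)) :
    Cls r φ := by
  classical
  have := Nat.fact_prime_two
  have := Fact.mk hr
  have := Fintype.ofFinite G
  have h1 : φ ^ r = 1 := hφ ▸ pow_orderOf_eq_one φ
  refine ⟨hr, hr2, h1, fun h => ?_, fun x hx => ?_, fun x y hx hy => ?_⟩
  · have h3 := Equiv.Perm.card_fixedPoints_modEq (f := (φ : G → G)) (p := r) (n := 1) (funext fun x => by
      rw [pow_one]; exact (pow_apply φ r x).symm.trans (by rw [h1]; rfl))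
    obtain ⟨k, hk⟩ := h2.exists_card_eq
    rw [← Nat.card_eq_fintype_card, ← Nat.card_eq_fintype_card] at h3
    have h4 : r ∣ 2 ^ k := hk ▸ (h3.dvd_iff dvd_rfl).1 h
    exact hr2 ((Nat.prime_dvd_prime_iff_eq hr Nat.prime_two).1 (hr.dvd_of_dvd_pow h4))
  · exact (h2 ⟨x, hx⟩).imp fun k hk => congrArg Subtype.val hk
  · obtain ⟨a, ha⟩ := IsPGroup.iff_orderOf.1 h2 ⟨x, hx⟩
    obtain ⟨b, hb⟩ := IsPGroup.iff_orderOf.1 h2 ⟨y, hy⟩
    refine (le_total a b).imp (fun h => ?_) fun h => ?_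
    · obtain ⟨i, hi⟩ := mem_of_dvd (ha ▸ hb ▸ pow_dvd_pow 2 h : orderOf (⟨x, hx⟩ : fixedSubgroup φ) ∣ orderOf ⟨y, hy⟩)
      exact ⟨i, congrArg Subtype.val hi⟩
    · obtain ⟨i, hi⟩ := mem_of_dvd (ha ▸ hb ▸ pow_dvd_pow 2 h : orderOf (⟨y, hy⟩ : fixedSubgroup φ) ∣ orderOf ⟨x, hx⟩)
      exact ⟨i, congrArg Subtype.val hi⟩

end Cfsg.Agent.H4.PD0
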