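import Cfsg.Agent.H4.RegU

/-! Pole placement: prescribing the characteristic polynomial of a product with a cyclic
endomorphism. -/

set_option autoImplicit false

namespace Cfsg.Agent.H4

open Module Polynomial

universe u v

variable {F : Type u} [Field F]
variable {V : Type v} [AddCommGroup V] [Module F V]

theorem aeval_mem_of_invariant {f : End F V} {S : Submodule F V} (hS : ∀ w ∈ S, f w ∈ S)
    (p : F[X]) {v : V} (hv : v ∈ S) : aeval f p v ∈ S := by
  induction p using Polynomial.induction_on' with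
  | add p q hp hq => rw [map_add]; exact S.add_mem hp hq
  | monomial n c =>
    rw [aeval_monomial, Module.End.mul_apply, Module.algebraMap_end_apply]
    exact S.smul_mem _ (Module.End.pow_apply_mem_of_forall_mem n hS v hv)

theorem isCyc_iff {f : End F V} {v : V} :
    IsCyc f v ↔ ∀ S : Submodule F V, v ∈ S → (∀ w ∈ S, f w ∈ S) → S = ⊤ := by
  constructor
  · intro h S hv hS
    rw [eq_top_iff]
    intro w _
    obtain ⟨p, rfl⟩ := h w
    exact aeval_mem_of_invariant hS p hv
  · intro h w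
    have := h (LinearMap.range ((LinearMap.applyₗ v) ∘ₗ (aeval f : F[X] →ₐ[F] End F V).toLinearMap))
      ⟨1, by simp⟩ (by
        rintro _ ⟨p, rfl⟩
        exact ⟨X * p, by simp⟩)
    exact LinearMap.range_eq_top.1 this w

theorem Sim.trace_eq {W : Type*} [AddCommGroup W] [Module F W] {f : End F V} {g : End F W}
    (h : Sim f g) : LinearMap.trace F V f = LinearMap.trace F W g := by
  obtain ⟨e, he⟩ := h
  rw [Sim.eq_conj he, LinearMap.trace_conj']

theorem exists_canon_basis [Module.Finite F V] {T : End F V} {a : V} (h : IsCyc T a) {m : ℕ}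
    (hm : finrank F V = m + 1) : ∃ b : Basis (Fin (m + 1)) F V, b (Fin.last m) = a ∧
      T (b 0) = -T.charpoly.coeff 0 • a ∧
      ∀ i : Fin m, T (b i.succ) = b i.castSucc - T.charpoly.coeff (i + 1) • a := by
  let d : ℕ → V := fun i => aeval T (divX^[i] T.charpoly) a
  have hc : ∀ (i : ℕ) (p : F[X]) (j : ℕ), (divX^[i] p).coeff j = p.coeff (j + i) := by
    intro i
    induction i with
    | zero => simp
    | succ i ih =>
      intro p j
      rw [Function.iterate_succ_apply', coeff_divX, ih, add_assoc, add_comm 1]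
  have hd : ∀ i, T (d (i + 1)) = d i - T.charpoly.coeff i • a := by
    intro i
    have h1 := congrArg (fun p => aeval T p a) (X_mul_divX_add (divX^[i] T.charpoly))
    simp only [map_add, map_mul, aeval_X, aeval_C, LinearMap.add_apply, Module.End.mul_apply,
      Module.algebraMap_end_apply, hc, zero_add] at h1
    simp only [d]
    rw [Function.iterate_succ_apply', eq_sub_iff_add_eq, h1]
  have h0 : d 0 = 0 := by simp [d, LinearMap.aeval_self_charpoly]
  have hlast : d (m + 1) = a := by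
    have : divX^[m + 1] T.charpoly = 1 := by
      have key : ∀ (i : ℕ) (p : F[X]), p.Monic → p.natDegree = i → divX^[i] p = 1 := by
        intro i
        induction i with
        | zero => intro p hp h; exact hp.natDegree_eq_zero.1 h
        | succ i ih =>
          intro p hp h
          rw [Function.iterate_succ_apply]
          have h1 : p.divX.natDegree = i := by rw [natDegree_divX_eq_natDegree_tsub_one, h]; rfl
          exact ih _ (by rw [Monic, leadingCoeff, h1, coeff_divX, ← h]; exact hp) h1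
      exact key _ _ T.charpoly_monic (by rw [LinearMap.charpoly_natDegree, hm])
    simp [d, this]
  have hspan : ⊤ ≤ Submodule.span F (Set.range fun i : Fin (m + 1) => d (i + 1)) := by
    have ha : a ∈ Submodule.span F (Set.range fun i : Fin (m + 1) => d (i + 1)) :=
      Submodule.subset_span ⟨Fin.last m, hlast⟩
    refine (isCyc_iff.1 h _ ha fun w hw => ?_).ge
    refine (Submodule.span_le (p := (Submodule.span F _).comap T)).2 ?_ hw
    rintro _ ⟨i, rfl⟩
    rw [SetLike.mem_coe, Submodule.mem_comap, hd]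
    refine sub_mem ?_ (Submodule.smul_mem _ _ ha)
    refine Fin.cases (by simp [h0]) (fun j => Submodule.subset_span ⟨j.castSucc, rfl⟩) i
  refine ⟨basisOfTopLeSpanOfCardEqFinrank _ hspan (by simp [hm]), by simpa using hlast, ?_,
    fun i => ?_⟩
  · simp [hd, h0]
  · simp [hd]

theorem pole_placement [Module.Finite F V] {T : End F V} {a : V} (h : IsCyc T a) {χ : F[X]}
    (hχ : χ.Monic) (hd : χ.natDegree = finrank F V) (hV : 0 < finrank F V) :
    ∃ κ : V →ₗ[F] F, (T + κ.smulRight a).charpoly = χ ∧ IsCyc (T + κ.smulRight a) a := by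
  obtain ⟨m, hm⟩ : ∃ m, finrank F V = m + 1 := ⟨_, (Nat.succ_pred_eq_of_pos hV).symm⟩
  obtain ⟨T', a', rfl, h'⟩ := exists_cyc_end hχ hd
  obtain ⟨b, b1, b2, b3⟩ := exists_canon_basis h hm
  obtain ⟨c, c1, c2, c3⟩ := exists_canon_basis h' hm
  let κ : V →ₗ[F] F := b.constr F fun i => T.charpoly.coeff i - T'.charpoly.coeff i
  have he : ∀ v, c.equiv b (Equiv.refl _) (T' v) = (T + κ.smulRight a) (c.equiv b (Equiv.refl _) v) := by
    suffices (c.equiv b (Equiv.refl _)).toLinearMap ∘ₗ T' =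
        (T + κ.smulRight a) ∘ₗ (c.equiv b (Equiv.refl _)).toLinearMap from
      fun v => LinearMap.congr_fun this v
    refine c.ext fun i => ?_
    refine Fin.cases ?_ (fun j => ?_) i
    · simp [c2, b2, ← c1, b1, κ, sub_smul]
      abel
    · simp [c3, b3, ← c1, b1, κ, sub_smul]
  refine ⟨κ, (Sim.charpoly_eq ⟨_, he⟩).symm, ?_⟩
  have := h'.map (c.equiv b (Equiv.refl _)).toLinearMap he (LinearEquiv.surjective _)
  simpa [← c1, b1] using this

theorem exists_compress (g : End F V) {a : V} {f : V →ₗ[F] F} (h : f a = 1) :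
    ∃ g' : End F (LinearMap.ker f), ∀ v, (g' v : V) = g v - f (g v) • a :=
  ⟨LinearMap.codRestrict _ ((g - (f ∘ₗ g).smulRight a) ∘ₗ (LinearMap.ker f).subtype)
    fun v => by simp [h], fun v => rfl⟩

theorem IsCyc.compress {g : End F V} {a : V} (hg : IsCyc g a) {f : V →ₗ[F] F} (h : f a = 1)
    (h' : f (g a) = 0) {g' : End F (LinearMap.ker f)} (hg' : ∀ v, (g' v : V) = g v - f (g v) • a) :
    IsCyc g' ⟨g a, h'⟩ := by
  rw [isCyc_iff] at hg ⊢
  intro S h1 h2
  let π : V →ₗ[F] LinearMap.ker f := LinearMap.snd F _ _ ∘ₗ (splitEquiv a f h).symm.toLinearMap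
  have hπ : ∀ v, (π v : V) = v - f v • a := fun v => rfl
  have h3 := hg (S.comap π) (by
    rw [Submodule.mem_comap, show π a = 0 from Subtype.ext (by simp [hπ, h])]; exact S.zero_mem)
    fun w hw => by
      rw [Submodule.mem_comap] at hw ⊢
      have : π (g w) = g' (π w) + f w • ⟨g a, h'⟩ := Subtype.ext (by simp [hπ, hg', h']; abel)
      rw [this]
      exact S.add_mem (h2 _ hw) (S.smul_mem _ h1)
  rw [eq_top_iff]
  intro v _
  have h4 : (v : V) ∈ S.comap π := h3 ▸ Submodule.mem_top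
  rwa [Submodule.mem_comap,
    show π v = v from Subtype.ext (by simp [hπ, LinearMap.mem_ker.1 v.2])] at h4

theorem IsCyc.feedback {T : End F V} {a : V} {f : V →ₗ[F] F} (h : f a = 1)
    {T' : End F (LinearMap.ker f)} {w : LinearMap.ker f} (hT' : IsCyc T' w) {z : F}
    {c : LinearMap.ker f → F} (h1 : T a = z • a + w)
    (h2 : ∀ v : LinearMap.ker f, T v = T' v + c v • a) : IsCyc T a := by
  rw [isCyc_iff] at hT' ⊢
  intro S ha hS
  have h3 := hT' (S.comap (LinearMap.ker f).subtype) (by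
    have := hS a ha
    rw [h1] at this
    exact (S.add_mem_iff_right (S.smul_mem _ ha)).1 this) fun v hv => by
      have := hS v hv
      rw [h2] at this
      exact (S.add_mem_iff_left (S.smul_mem _ ha)).1 this
  rw [eq_top_iff]
  intro v _
  obtain ⟨s, v, rfl⟩ := exists_split_apply h v
  have h4 : v ∈ S.comap (LinearMap.ker f).subtype := h3 ▸ Submodule.mem_top
  exact S.add_mem (S.smul_mem _ ha) h4

theorem trace_split [Module.Finite F V] {T : End F V} {a : V} {f : V →ₗ[F] F} (h : f a = 1)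
    {T' : End F (LinearMap.ker f)} {w : LinearMap.ker f} {z : F}
    {c : LinearMap.ker f →ₗ[F] F} (h1 : T a = z • a + w)
    (h2 : ∀ v : LinearMap.ker f, T v = T' v + c v • a) :
    LinearMap.trace F V T = z + LinearMap.trace F _ T' := by
  have s1 : Sim (tri (z • (1 : End F F)) c T') (T - f.smulRight (w : V)) :=
    sim_tri_upper h (by simp [h1, h]) fun v => by simp [h2, LinearMap.mem_ker.1 v.2]
  have := s1.trace_eq
  rw [trace_tri, map_sub, LinearMap.trace_smulRight, LinearMap.mem_ker.1 w.2] at this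
  simpa using this.symm

theorem IsCyc.exists_dual [Module.Finite F V] {g : End F V} {a : V} (hg : IsCyc g a)
    (hV : 2 ≤ finrank F V) : (∃ f : V →ₗ[F] F, f a = 1 ∧ f (g a) = 0) ∧ g a ≠ 0 := by
  have h1 : g a ∉ Submodule.span F {a} := by
    intro h
    have := isCyc_iff.1 hg (Submodule.span F {a}) (Submodule.subset_span rfl) fun w hw => by
      obtain ⟨c, rfl⟩ := Submodule.mem_span_singleton.1 hw
      rw [map_smul]; exact Submodule.smul_mem _ _ h
    have h2 := finrank_span_le_card (R := F) ({a} : Set V)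
    rw [this, finrank_top] at h2
    simp at h2; omega
  have h2 : a ∉ Submodule.span F {g a} := by
    intro h
    obtain ⟨c, hc⟩ := Submodule.mem_span_singleton.1 h
    have hc0 : c ≠ 0 := by
      rintro rfl
      rw [zero_smul] at hc
      exact h1 (by rw [← hc, map_zero]; exact zero_mem _)
    exact h1 (Submodule.mem_span_singleton.2 ⟨c⁻¹, by
      conv_lhs => rw [← hc, smul_smul, inv_mul_cancel₀ hc0, one_smul]⟩)
  obtain ⟨f, a1, a2⟩ := exists_dual_one_zero h2
  exact ⟨⟨f, a1, a2 _ (Submodule.subset_span rfl)⟩, fun h => h1 (h ▸ zero_mem _)⟩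

theorem pp_step [Module.Finite F V] {g : End F V} {a : V} {f : V →ₗ[F] F} (h : f a = 1)
    (h' : f (g a) = 0) (h0 : g a ≠ 0) {g' : End F (LinearMap.ker f)}
    (hg' : ∀ v, (g' v : V) = g v - f (g v) • a) {W' : End F (LinearMap.ker f)}
    (hW' : IsCyc (W' * g') (W' ⟨g a, h'⟩)) (z : F)
    (hz : ∀ Z : LinearMap.ker f →ₗ[F] F, Z ⟨g a, h'⟩ = z → ∀ b, W' b = b → Z b = 0 → b = 0) :
    ∃ W : End F V, W a = a ∧ IsCyc (W * g) a ∧
      LinearMap.trace F V (W * g) = z + LinearMap.trace F _ (W' * g') ∧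
      ∀ κ : V →ₗ[F] F, κ a = 0 → κ (g a) = 0 →
        (W + κ.smulRight a).charpoly = W'.charpoly * (X - C 1) ∧ Reg (W + κ.smulRight a) := by
  obtain ⟨l, hl⟩ := Module.Projective.exists_dual_eq_one F
    (show (⟨g a, h'⟩ : LinearMap.ker f) ≠ 0 from fun h => h0 (congrArg Subtype.val h))
  obtain ⟨W, a1, a2⟩ := exists_end_split h a
    ((LinearMap.ker f).subtype ∘ₗ W' + (z • l).smulRight a)
  have b1 : (W * g) a = z • a + W' ⟨g a, h'⟩ := by
    have := a2 ⟨g a, h'⟩
    simpa [hl, add_comm] using this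
  have b2 : ∀ v : LinearMap.ker f, (W * g) v = (W' * g') v +
      ((z • l) ∘ₗ g' + f ∘ₗ g ∘ₗ (LinearMap.ker f).subtype) v • a := by
    intro v
    have := hg' v
    rw [eq_sub_iff_add_eq] at this
    rw [Module.End.mul_apply, ← this, map_add, map_smul, a1, a2]
    simp [add_smul, add_assoc]
  refine ⟨W, a1, hW'.feedback h b1 b2, trace_split h b1 b2, fun κ k1 k2 => ?_⟩
  have s1 : Sim (tri ((1 : F) • (1 : End F F)) (z • l + κ ∘ₗ (LinearMap.ker f).subtype) W')
      (W + κ.smulRight a) :=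
    sim_tri_upper h (by simp [a1, k1]) fun v => by simp [a2, add_smul, add_assoc]
  refine ⟨by rw [← s1.charpoly_eq, charpoly_tri, charpoly_smul_one, mul_comm],
    s1.reg (reg_tri_link (reg_of_finrank_le_one (by simp) _) fun b hb c hc => ?_)⟩
  exact hz (z • l + κ ∘ₗ (LinearMap.ker f).subtype) (by simp [hl, k2]) b hb (by simpa using hc)

/-- The base case of the construction. -/
def PBase (σ : F[X]) (r : ℕ) : Prop :=
  ∀ (V : Type v) [AddCommGroup V] [Module F V] [Module.Finite F V], finrank F V = r →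
    ∀ (g : End F V) (a : V), IsCyc g a → ∃ W : End F V, W.charpoly = σ ∧ IsCyc (W * g) (W a)

theorem fixed_eq_zero [Module.Finite F V] {W : End F V} (h : W.charpoly.eval 1 ≠ 0) (b : V)
    (hb : W b = b) : b = 0 := by
  by_contra h0
  exact h ((Module.End.hasEigenvalue_iff_isRoot_charpoly W 1).1
    (Module.End.hasEigenvalue_of_hasEigenvector ⟨by simpa using hb, h0⟩))

theorem pp_ind {σ : F[X]} {r : ℕ} (hr : 0 < r) (hσ : σ.eval 1 ≠ 0) (hB : PBase.{u, v} σ r)
    (k : ℕ) : ∀ {V : Type v} [AddCommGroup V] [Module F V] [Module.Finite F V],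
    finrank F V = k + 1 + r → ∀ (g : End F V) (a : V), IsCyc g a → ∀ θ : F,
    ∃ W : End F V, W a = a ∧ IsCyc (W * g) a ∧ LinearMap.trace F V (W * g) = θ ∧
      ∀ κ : V →ₗ[F] F, κ a = 0 → κ (g a) = 0 →
        (W + κ.smulRight a).charpoly = σ * (X - C 1) ^ (k + 1) ∧ Reg (W + κ.smulRight a) := by
  induction k with
  | zero =>
    intro V _ _ _ hV g a hg θ
    obtain ⟨⟨f, h, h'⟩, h0⟩ := hg.exists_dual (by omega)
    obtain ⟨g', hg'⟩ := exists_compress g h
    have hV' := finrank_ker_add_one h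
    obtain ⟨W', a1, a2⟩ := hB (LinearMap.ker f) (by omega) g' _ (hg.compress h h' hg')
    obtain ⟨W, b1, b2, b3, b4⟩ := pp_step h h' h0 hg' a2 (θ - LinearMap.trace F _ (W' * g'))
      fun _ _ b hb _ => fixed_eq_zero (by rwa [a1]) b hb
    exact ⟨W, b1, b2, by rw [b3, sub_add_cancel], by simpa [a1] using b4⟩
  | succ k ih =>
    intro V _ _ _ hV g a hg θ
    obtain ⟨⟨f, h, h'⟩, h0⟩ := hg.exists_dual (by omega)
    obtain ⟨g', hg'⟩ := exists_compress g h
    have hV' := finrank_ker_add_one h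
    obtain ⟨W', a1, a2, a3, a4⟩ := ih (V := LinearMap.ker f) (by omega) g' _
      (hg.compress h h' hg') (θ - 1)
    obtain ⟨a5, a6⟩ := a4 0 rfl rfl
    rw [LinearMap.zero_smulRight, add_zero] at a5 a6
    obtain ⟨W, b1, b2, b3, b4⟩ := pp_step h h' h0 hg' (by rwa [a1]) 1 fun Z hZ b hb hZb => by
      obtain ⟨v0, -, hv0⟩ := a6.exists_span
      obtain ⟨c, rfl⟩ := hv0 b hb
      obtain ⟨c', hc'⟩ := hv0 _ a1
      rw [← hc', map_smul, smul_eq_mul] at hZ
      rw [map_smul, smul_eq_mul, mul_eq_zero] at hZb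
      rw [hZb.resolve_right (right_ne_zero_of_mul_eq_one hZ), zero_smul]
    exact ⟨W, b1, b2, by rw [b3, a3, add_sub_cancel], by simpa only [a5, mul_assoc, ← pow_succ]
      using b4⟩

theorem sim_mul_comm {g W : End F V} (hg : IsUnit g) : Sim (W * g) (g * W) :=
  ⟨LinearEquiv.ofBijective g ((Module.End.isUnit_iff g).1 hg), fun _ => rfl⟩

theorem pp_main [Module.Finite F V] {σ : F[X]} {r : ℕ} (hr : 0 < r) (hσ : σ.eval 1 ≠ 0)
    (hσ0 : σ.coeff 0 ≠ 0) (hB : PBase.{u, v} σ r) {k : ℕ} (hV : finrank F V = k + 1 + r)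
    {g : End F V} {a : V} (hg : IsCyc g a) (hd : LinearMap.det g ≠ 0) {χ : F[X]} (hχ : χ.Monic)
    (hdeg : χ.natDegree = finrank F V)
    (h0 : χ.coeff 0 = (σ * (X - C 1) ^ (k + 1)).coeff 0 * LinearMap.det g) :
    ∃ W : End F V, W.charpoly = σ * (X - C 1) ^ (k + 1) ∧ (g * W).charpoly = χ ∧ Reg W ∧
      Reg (g * W) := by
  have hu : IsUnit g := (LinearMap.isUnit_iff_isUnit_det _).2 (isUnit_iff_ne_zero.2 hd)
  obtain ⟨W0, a1, a2, a3, a4⟩ := pp_ind hr hσ hB k hV g a hg (LinearMap.trace F _ (mulX χ))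
  obtain ⟨κ', b1, b2⟩ := pole_placement a2 hχ hdeg (by omega)
  obtain ⟨gi, hgi⟩ := hu.exists_left_inv
  have c0 : ∀ v, gi (g v) = v := fun v => LinearMap.congr_fun hgi v
  have c1 : W0 * g + κ'.smulRight a = (W0 + (κ' ∘ₗ gi).smulRight a) * g :=
    LinearMap.ext fun v => by simp [c0]
  have c2 : κ' a = 0 := by
    have := b2.sim_mulX.trace_eq
    rw [b1, map_add, a3, LinearMap.trace_smulRight] at this
    simpa using this
  have c3 : κ' (gi a) = 0 := by
    obtain ⟨a5, -⟩ := a4 0 rfl rfl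
    rw [LinearMap.zero_smulRight, add_zero] at a5
    have d1 : W0 + (κ' ∘ₗ gi).smulRight a = W0 * LinearMap.transvection (κ' ∘ₗ gi) a :=
      LinearMap.ext fun v => by simp [LinearMap.transvection.apply, a1]
    have d2 := det_eq_charpoly (W0 * g + κ'.smulRight a)
    rw [b1, c1, d1, map_mul, map_mul, LinearMap.transvection.det, h0, ← mul_assoc, ← a5,
      ← det_eq_charpoly, mul_left_inj' hd] at d2
    have d3 : LinearMap.det W0 ≠ 0 := by
      rw [det_eq_charpoly, a5, mul_coeff_zero]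
      refine mul_ne_zero (pow_ne_zero _ (neg_ne_zero.2 one_ne_zero)) (mul_ne_zero hσ0 ?_)
      simp [coeff_zero_eq_eval_zero]
    simpa [d3] using d2
  obtain ⟨a5, a6⟩ := a4 (κ' ∘ₗ gi) c3 (by simp [c0, c2])
  rw [c1] at b1 b2
  exact ⟨_, a5, by rw [← (sim_mul_comm hu).charpoly_eq, b1], a6, (sim_mul_comm hu).reg b2.reg⟩

theorem pBase_one {β : F} (hβ : β ≠ 0) : PBase.{u, v} (X - C β) 1 := by
  intro V _ _ _ hV g a hg
  refine ⟨β • 1, charpoly_smul_one_of_finrank hV β, isCyc_iff.2 fun S h1 _ => ?_⟩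
  have h2 : a ∈ S := (S.smul_mem_iff hβ).1 h1
  have h3 : a ≠ 0 := by
    rintro rfl
    have := isCyc_iff.1 hg ⊥ (zero_mem _) (by simp)
    have h4 := congrArg (fun S : Submodule F V => finrank F S) this
    simp [hV] at h4
  rw [eq_top_iff]
  intro v _
  obtain ⟨c, rfl⟩ := (finrank_eq_one_iff_of_nonzero' a h3).1 hV v
  exact S.smul_mem _ h2

theorem IsCyc.exists_basis_two [Module.Finite F V] {g : End F V} {a : V} (hg : IsCyc g a)
    (hV : finrank F V = 2) : ∃ b : Basis (Fin 2) F V, b 0 = a ∧ b 1 = g a := by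
  obtain ⟨⟨f, h, h'⟩, h0⟩ := hg.exists_dual hV.ge
  have : LinearIndependent F ![a, g a] := LinearIndependent.pair_iff.2 fun s t hst => by
    have h1 : s = 0 := by simpa [h, h'] using congrArg f hst
    exact ⟨h1, by simpa [h1, h0] using hst⟩
  exact ⟨basisOfLinearIndependentOfCardEqFinrank this (by simp [hV]), by simp, by simp⟩

theorem pBase_two (τ : F) {δ : F} (hδ : δ ≠ 0) : PBase.{u, v} (X ^ 2 - C τ * X + C δ) 2 := by
  intro V _ _ _ hV g a hg
  obtain ⟨b, b0, b1⟩ := hg.exists_basis_two hV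
  set t := b.repr (g (g a)) 1
  have ht : g (g a) = b.repr (g (g a)) 0 • a + t • g a := by
    have := b.sum_repr (g (g a))
    rw [Fin.sum_univ_two, b0, b1] at this
    exact this.symm
  let M : Matrix (Fin 2) (Fin 2) F := !![1 - t, (1 - t) * (τ - (1 - t)) - δ; 1, τ - (1 - t)]
  have hdet : M.det = δ := by simp [M, Matrix.det_fin_two]
  refine ⟨Matrix.toLin b b M, ?_, isCyc_iff.2 fun S h1 h2 => ?_⟩
  · rw [Matrix.charpoly_toLin, Matrix.charpoly_fin_two, hdet]
    simp [M, Matrix.trace_fin_two]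
  · have h3 : Matrix.toLin b b M a = (1 - t) • a + g a := by
      rw [← b0, Matrix.toLin_self, Fin.sum_univ_two, b1, b0]; simp [M]
    have h4 := h2 _ h1
    have h5 : g ((1 - t) • a + g a) = g a + b.repr (g (g a)) 0 • a := by
      rw [map_add, map_smul]
      conv_lhs => rw [ht]
      module
    rw [Module.End.mul_apply, h3, h5, map_add, map_smul] at h4
    have h6 := (S.add_mem_iff_left (S.smul_mem _ h1)).1 h4
    have h7 : IsUnit (Matrix.toLin b b M) := by
      rw [LinearMap.isUnit_iff_isUnit_det, LinearMap.det_toLin, hdet]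
      exact isUnit_iff_ne_zero.2 hδ
    rw [eq_top_iff]
    intro v _
    obtain ⟨v, rfl⟩ := ((Module.End.isUnit_iff _).1 h7).2 v
    rw [← b.sum_repr v, Fin.sum_univ_two, b0, b1, map_add, map_smul, map_smul]
    exact S.add_mem (S.smul_mem _ h1) (S.smul_mem _ h6)

end Cfsg.Agent.H4
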