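import Cfsg.Agent.H6.StMult
import Cfsg.Agent.H2.PSL2
import Cfsg.Agent.H4.GLOrd

/-! The exceptional isomorphisms `L₂(4) ≅ L₂(5)` and `L₂(7) ≅ L₃(2)`. -/

set_option autoImplicit false
set_option linter.unusedSectionVars false

namespace Cfsg.Agent.H4.TL

open Cfsg.Agent.H6 Cfsg.Agent.H2
open scoped MatrixGroups LinearAlgebra.Projectivization

theorem quot_congr {G H : Type*} [Group G] [Group H] (e : G ≃* H) :
    Nonempty (G ⧸ Subgroup.center G ≃* H ⧸ Subgroup.center H) := by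
  refine ⟨QuotientGroup.congr _ _ e (le_antisymm ?_ fun h hh => ⟨e.symm h, ?_, by simp⟩)⟩
  · rintro _ ⟨g, hg, rfl⟩
    refine Subgroup.mem_center_iff.2 fun h => ?_
    obtain ⟨h, rfl⟩ := e.surjective h
    simpa using congrArg e (Subgroup.mem_center_iff.1 hg h)
  · refine Subgroup.mem_center_iff.2 fun g => e.injective ?_
    simpa using Subgroup.mem_center_iff.1 hh (e g)

theorem psl_congr {F F' : Type*} [Field F] [Fintype F] [Field F'] [Fintype F'] (h : Fintype.card F = Fintype.card F')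
    (n : ℕ) : Nonempty (PSL(n, F) ≃* PSL(n, F')) := by
  let e := FiniteField.ringEquivOfCardEq h
  refine quot_congr (MonoidHom.toMulEquiv (Matrix.SpecialLinearGroup.map e.toRingHom)
    (Matrix.SpecialLinearGroup.map e.symm.toRingHom) ?_ ?_) <;> ext <;> simp

theorem card_psl2 (F : Type*) [Field F] [Fintype F] : Nat.card PSL(2, F) * Nat.gcd 2 (Fintype.card F - 1) =
    Fintype.card F * (Fintype.card F - 1) * (Fintype.card F + 1) := by
  classical
  rw [← Nat.card_eq_fintype_card, ← card_SL2', ← card_center_eq_gcd]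
  exact (Subgroup.card_eq_card_quotient_mul_card_subgroup _).symm

theorem hom_of_rel {p : ℕ} [hp : Fact p.Prime] (h4 : 4 ≤ p) {G : Type*} [Group G] (x y : ZMod p → G)
    (hA : ∀ t u, x (t + u) = x t * x u) (hB : ∀ t u, y (t + u) = y t * y u) (h1 : x 1 ≠ 1)
    (hz : (x 1 * y (-1) * x 1) * (x 1 * y (-1) * x 1) = 1)
    (h : ∀ t s u : ZMod p, t * s = 1 → x t * y (-s) * x t * x u = y (-(s ^ 2 * u)) * (x t * y (-s) * x t)) :
    ∃ φ : PSL(2, ZMod p) →* G, Function.Injective φ := by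
  have H : IsR1 x y := ⟨hA, hB, fun t ht u => by
    rw [mul_inv_eq_iff_eq_mul]
    exact h t t⁻¹ u (mul_inv_cancel₀ ht)⟩
  obtain ⟨ψ, hψ⟩ := H.isSt_fin_two.exists_hom
  have e1 : ψ (slX _ 0 1 1) = x 1 := hψ 0 1 (by decide) 1
  have e2 : ψ (slX _ 1 0 (-1)) = y (-1) := hψ 1 0 (by decide) (-1)
  have e3 : ψ (-1) = 1 := by
    rw [← hz, ← e2, ← e1, ← map_mul, ← map_mul, ← map_mul]
    congr 1
    ext i j
    fin_cases i <;> fin_cases j <;>
      simp [slX_val, Matrix.transvection, Matrix.mul_apply, Fin.sum_univ_two, Matrix.one_apply]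
  let φ : PSL(2, ZMod p) →* G := QuotientGroup.lift _ ψ fun g hg => by
    rcases pj_eq_iff.1 (show pj _ g = pj _ 1 from (QuotientGroup.eq_one_iff g).2 hg) with rfl | rfl
    · exact map_one ψ
    · exact e3
  have := Matrix.ProjectiveSpecialLinearGroup.rank_two_simple (F := ZMod p) (by simpa using h4)
  refine ⟨φ, (MonoidHom.ker_eq_bot_iff φ).1 ((MonoidHom.normal_ker φ).eq_bot_or_eq_top.resolve_right fun e => h1 ?_)⟩
  rw [← e1]
  exact (e ▸ Subgroup.mem_top _ : pj _ (slX _ 0 1 1) ∈ φ.ker)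

theorem alt_of_hom {G : Type*} [Group G] (hG : Nat.card G = 60) (φ : G →* Equiv.Perm (Fin 5))
    (hφ : Function.Injective φ) : Nonempty (G ≃* alternatingGroup (Fin 5)) := by
  have h := φ.range.card_mul_index
  rw [← Nat.card_congr (MonoidHom.ofInjective hφ).toEquiv, hG, Nat.card_perm, Nat.card_fin] at h
  exact ⟨(MonoidHom.ofInjective hφ).trans (MulEquiv.subgroupCongr
    (Equiv.Perm.eq_alternatingGroup_of_index_eq_two (by simp [Nat.factorial] at h; omega)))⟩

instance fact5 : Fact (Nat.Prime 5) := ⟨by norm_num⟩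
instance fact7 : Fact (Nat.Prime 7) := ⟨by norm_num⟩

/-- A five-cycle. -/
def pA : Equiv.Perm (Fin 5) := ⟨![1, 2, 3, 4, 0], ![4, 0, 1, 2, 3], by decide, by decide⟩

/-- A five-cycle. -/
def pB : Equiv.Perm (Fin 5) := ⟨![1, 3, 0, 4, 2], ![2, 0, 4, 1, 3], by decide, by decide⟩

theorem alt_five {F : Type*} [Field F] [Fintype F] (h : Fintype.card F = 5) :
    Nonempty (PSL(2, F) ≃* alternatingGroup (Fin 5)) := by
  obtain ⟨e⟩ := psl_congr (F := F) (F' := ZMod 5) (by simp [h]) 2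
  obtain ⟨φ, hφ⟩ := hom_of_rel (p := 5) (by norm_num) (G := Equiv.Perm (Fin 5))
    (fun t => pA ^ t.val)
    (fun t => pB ^ t.val) (by decide +kernel) (by decide +kernel)
    (by decide +kernel) (by decide +kernel) (by decide +kernel)
  have := card_psl2 F
  rw [h] at this
  exact alt_of_hom (by norm_num at this; omega) (φ.comp e.toMonoidHom) (hφ.comp e.injective)

theorem alt_four {F : Type*} [Field F] [Fintype F] (h : Fintype.card F = 4) :
    Nonempty (PSL(2, F) ≃* alternatingGroup (Fin 5)) := by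
  have := card_psl2 F
  rw [h] at this
  have h5 : Nat.card (ℙ F (Fin 2 → F)) = 5 := by
    rw [Projectivization.card_of_finrank_two F _ (by simp), Nat.card_eq_fintype_card, h]
  exact alt_of_hom (by norm_num at this; omega)
    ((Finite.equivFinOfCardEq h5).permCongrHom.toMonoidHom.comp (MulAction.toPermHom _ _))
    fun a b e => MulAction.toPerm_injective ((Finite.equivFinOfCardEq h5).permCongrHom.injective e)

theorem iso45 {F F' : Type*} [Field F] [Fintype F] [Field F'] [Fintype F'] (h : Fintype.card F = 4)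
    (h' : Fintype.card F' = 5) : Nonempty (PSL(2, F) ≃* PSL(2, F')) :=
  (alt_four h).elim fun e => (alt_five h').elim fun e' => ⟨e.trans e'.symm⟩

/-- Powers of an element of order seven. -/
def mA : Fin 7 → Matrix (Fin 3) (Fin 3) (ZMod 2) := ![!![1, 0, 0; 0, 1, 0; 0, 0, 1],
    !![0, 0, 1; 0, 1, 1; 1, 1, 0],
    !![1, 1, 0; 1, 0, 1; 0, 1, 0],
    !![0, 1, 0; 1, 1, 1; 0, 1, 1],
    !![0, 1, 1; 1, 0, 0; 1, 0, 1],
    !![1, 0, 1; 0, 0, 1; 1, 1, 1],
    !![1, 1, 1; 1, 1, 0; 1, 0, 0]]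

/-- Powers of an element of order seven. -/
def mB : Fin 7 → Matrix (Fin 3) (Fin 3) (ZMod 2) := ![!![1, 0, 0; 0, 1, 0; 0, 0, 1],
    !![0, 1, 0; 0, 0, 1; 1, 1, 0],
    !![0, 0, 1; 1, 1, 0; 0, 1, 1],
    !![1, 1, 0; 0, 1, 1; 1, 1, 1],
    !![0, 1, 1; 1, 1, 1; 1, 0, 1],
    !![1, 1, 1; 1, 0, 1; 1, 0, 0],
    !![1, 0, 1; 1, 0, 0; 0, 1, 0]]

theorem det_mA : ∀ t, (mA t).det = 1 := by decide +kernel

theorem det_mB : ∀ t, (mB t).det = 1 := by decide +kernel

/-- Decidable equality. -/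
@[reducible] def decSL : DecidableEq SL(3, ZMod 2) := fun a b =>
  decidable_of_iff ((a : Matrix (Fin 3) (Fin 3) (ZMod 2)) = b) Subtype.ext_iff.symm

/-- Root subgroup. -/
def xA (t : ZMod 7) : SL(3, ZMod 2) := ⟨mA t, det_mA t⟩

/-- Root subgroup. -/
def xB (t : ZMod 7) : SL(3, ZMod 2) := ⟨mB t, det_mB t⟩

attribute [local instance] decSL in
theorem hom72 : ∃ φ : PSL(2, ZMod 7) →* SL(3, ZMod 2), Function.Injective φ :=
  hom_of_rel (p := 7) (by norm_num) xA xB (by decide +kernel)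
    (by decide +kernel) (by decide +kernel) (by decide +kernel) (by decide +kernel)

theorem iso72 {F F' : Type*} [Field F] [Fintype F] [Field F'] [Fintype F'] (h : Fintype.card F = 7)
    (h' : Fintype.card F' = 2) : Nonempty (PSL(2, F) ≃* PSL(3, F')) := by
  obtain ⟨e⟩ := psl_congr (F := F) (F' := ZMod 7) (by simp [h]) 2
  obtain ⟨e'⟩ := psl_congr (F := F') (F' := ZMod 2) (by simp [h']) 3
  obtain ⟨φ, hφ⟩ := hom72
  have h1 := card_psl2 (ZMod 7)
  have h2 := card_SL_mul (F := ZMod 2) (ι := Fin 3)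
  rw [Matrix.card_GL_field] at h2
  simp only [ZMod.card, Fin.prod_univ_three] at h1 h2
  have h3 : Function.Bijective φ := (Nat.bijective_iff_injective_and_card φ).2 ⟨hφ, by
    norm_num [-Nat.card_eq_fintype_card] at h1 h2; omega⟩
  have h4 : Function.Bijective (QuotientGroup.mk' (Subgroup.center SL(3, ZMod 2))) := by
    refine ⟨(injective_iff_map_eq_one _).2 fun g hg => ?_, QuotientGroup.mk'_surjective _⟩
    obtain ⟨r, h5, h6⟩ := Matrix.SpecialLinearGroup.mem_center_iff.1 ((QuotientGroup.eq_one_iff g).1 hg)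
    obtain rfl : r = 1 := by revert h5; generalize r = s; revert s; decide
    exact Subtype.ext (by simpa using h6.symm)
  exact ⟨e.trans ((MulEquiv.ofBijective φ h3).trans ((MulEquiv.ofBijective _ h4).trans e'.symm))⟩

end Cfsg.Agent.H4.TL
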