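import Cfsg.Agent.H4.TL3
import Cfsg.Agent.H4.TL4
import Cfsg.Agent.H1.SL2Table
import Cfsg.Agent.S2140

/-! Two-transitive actions of the linear groups. -/

set_option autoImplicit false
set_option linter.unusedSectionVars false

namespace Cfsg.Agent.H4.TL

open MulAction Cfsg.Agent.H7 Cfsg.Agent.H1 Cfsg.Agent.H2 Module
open scoped MatrixGroups LinearAlgebra.Projectivization

theorem root_cases {η : ℂ} (h0 : η ≠ 0) (h1 : ‖η‖ = 1) {m : ℕ} (h : (m : ℂ) - 1 = -(η + η⁻¹)) :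
    η ^ 6 = 1 ∨ η ^ 4 = 1 := by
  have h2 : ‖(m : ℂ) - 1‖ ≤ 2 := by
    rw [h, norm_neg]
    refine (norm_add_le _ _).trans ?_
    rw [norm_inv, h1]; norm_num
  have h3 : (m : ℝ) ≤ 3 := by
    have := norm_sub_norm_le (m : ℂ) 1
    rw [Complex.norm_natCast, norm_one] at this
    linarith
  have h4 : m ≤ 3 := by exact_mod_cast h3
  have h5 : η ^ 2 + (m - 1) * η + 1 = 0 := by rw [h]; field_simp; ring
  interval_cases m
  · left; linear_combination (η ^ 4 + η ^ 3 - η - 1) * h5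
  · right; linear_combination (η ^ 2 - 1) * h5
  · left; linear_combination (η ^ 4 - η ^ 3 + η - 1) * h5
  · have : η + 1 = 0 := pow_eq_zero_iff two_ne_zero |>.1 (by linear_combination h5)
    right; linear_combination (η ^ 3 - η ^ 2 + η - 1) * this

variable {F : Type} [Field F] [Fintype F] [DecidableEq F] {Ω : Type*} [Finite Ω]

theorem cusp_case {E : Type*} [Field E] [Fintype E] [DecidableEq E] [Algebra F E] (Q : QuadEmb F E) (θ : MulChar E ℂ)
    (hq : 4 ≤ Fintype.card F) (h : ∀ g : SL(2, F), ∃ m : ℕ, (m : ℂ) - 1 = resSL (cusp Q θ) g) :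
    Fintype.card F = 5 ∨ Fintype.card F = 7 ∨ Fintype.card F = 11 := by
  have key : ∀ ξ : E, ξ ^ (Fintype.card F + 1) = 1 → ξ ^ 2 ≠ 1 → ∃ m : ℕ, (m : ℂ) - 1 = -(θ ξ + (θ ξ)⁻¹) := by
    intro ξ h1 h2
    have h3 : (Q.ι ξ).det = 1 := (algebraMap F E).injective (by rw [Q.det_eq, h1, map_one])
    obtain ⟨m, hm⟩ := h ⟨Q.ι ξ, h3⟩
    refine ⟨m, hm.trans ((cusp_ell Q θ (ξ := ξ) (fun e => h2 ?_) rfl rfl).trans ?_)⟩
    swap
    · rw [← mulChar_inv, ← eq_inv_of_mul_eq_one_left (a := ξ ^ Fintype.card F) (by rw [← pow_succ, h1])]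
    rw [← h1, pow_succ ξ (Fintype.card F), (QuadEmb.pow_card_eq_iff ξ).2 ((Q.isScal_iff' ξ).1 e), sq]
  obtain ⟨γ, hγ⟩ := IsCyclic.exists_ofOrder_eq_natCard (α := Eˣ)
  rw [Nat.card_eq_fintype_card, Fintype.card_units, Q.card_E] at hγ
  have h1 : orderOf (γ ^ (orderOf γ / (Fintype.card F + 1))) = Fintype.card F + 1 :=
    orderOf_pow_orderOf_div (orderOf_pos γ).ne' (hγ ▸ Nat.sq_sub_sq _ 1 ▸ dvd_mul_right _ _)
  generalize γ ^ (orderOf γ / (Fintype.card F + 1)) = ξ at h1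
  have h2 : ∀ k, (ξ : E) ^ k = 1 ↔ Fintype.card F + 1 ∣ k := fun k => by
    rw [← h1, orderOf_dvd_iff_pow_eq_one, ← Units.val_pow_eq_pow_val, Units.val_eq_one]
  have h3 : ∀ k, θ ξ ^ k = 1 → Fintype.card F + 1 ∣ k * 2 := fun k hk => by
    rw [← h2, pow_mul]
    by_contra h4
    obtain ⟨m, hm⟩ := key (ξ ^ k) (by rw [← pow_mul, h2]; exact dvd_mul_left _ _) h4
    rw [map_pow, hk] at hm
    have : ((m + 1 : ℕ) : ℂ) = 0 := by push_cast; linear_combination hm
    exact Nat.succ_ne_zero m (Nat.cast_eq_zero.1 this)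
  obtain ⟨m, hm⟩ := key ξ ((h2 _).2 dvd_rfl) fun e => by have := Nat.le_of_dvd two_pos ((h2 _).1 e); omega
  generalize Fintype.card F = q at *
  rcases root_cases (mulChar_ne_zero θ ξ.ne_zero) (norm_mulChar θ ξ.ne_zero) hm with h4 | h4
  · have := h3 _ h4
    have := Nat.le_of_dvd (by norm_num) this
    have : q ≤ 11 := by omega
    interval_cases q <;> omega
  · have := h3 _ h4
    have := Nat.le_of_dvd (by norm_num) this
    have : q ≤ 7 := by omega
    interval_cases q <;> omega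

theorem half_case (h2 : (2 : F) ≠ 0) {s : ℂ} (hs : s ^ 2 = eta F (-1) * Fintype.card F) {c : ℕ}
    (h : ∀ b : F, b ≠ 0 → ∃ m : ℕ, (2 * m : ℂ) = c + eta F b * s) : ∃ k, k ≤ c ∧ Fintype.card F = k ^ 2 := by
  obtain ⟨b, hb⟩ := FiniteField.exists_nonsquare (F := F) (fun e => h2 (by
    have := ringChar.Nat.cast_ringChar (R := F)
    rw [e] at this
    exact_mod_cast this))
  obtain ⟨m, hm⟩ := h 1 one_ne_zero
  obtain ⟨m', hm'⟩ := h b (by rintro rfl; exact hb IsSquare.zero)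
  rw [map_one, one_mul] at hm
  rw [eta_of_not_isSquare hb] at hm'
  have h3 : m + m' = c := by
    have : ((m + m' : ℕ) : ℂ) = c := by push_cast; linear_combination (hm + hm') / 2
    exact_mod_cast this
  have h4 : s = ((m - m' : ℤ) : ℂ) := by push_cast; linear_combination (hm' - hm) / 2
  refine ⟨(m - m' : ℤ).natAbs, by omega, ?_⟩
  have h5 := congrArg (‖·‖) hs
  simp only [h4, norm_pow, norm_mul, norm_mulChar (eta F) (a := -1) (by simp), one_mul, Complex.norm_natCast,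
    Complex.norm_intCast] at h5
  have : ((Fintype.card F : ℕ) : ℝ) = ((m - m' : ℤ).natAbs ^ 2 : ℕ) := by
    rw [← h5]; push_cast; rw [Nat.cast_natAbs]; push_cast; rfl
  exact_mod_cast this

theorem sl_two [MulAction SL(2, F) Ω] (hq : 4 ≤ Fintype.card F) (hT : TT SL(2, F) Ω) :
    Nat.card Ω = Fintype.card F + 1 ∨ Fintype.card F = 4 ∧ Nat.card Ω = 6 ∨ Fintype.card F = 9 ∧ Nat.card Ω = 6 ∨
      Nat.card Ω = Fintype.card F ∧ (Fintype.card F = 5 ∨ Fintype.card F = 7 ∨ Fintype.card F = 11) := by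
  obtain ⟨E, _, _, _, ⟨Q⟩⟩ := exists_quadEmb F
  classical
  obtain ⟨hχ, h0⟩ := hT.irr
  have hv : ∀ g : SL(2, F), (pch SL(2, F) Ω - fun _ => 1 : SL(2, F) → ℂ) g = (Nat.card (fixedBy Ω g) : ℂ) - 1 :=
    fun _ => rfl
  have h1 : (pch SL(2, F) Ω - fun _ => 1 : SL(2, F) → ℂ) 1 = Nat.card Ω - 1 := by simp [pch]
  generalize (pch SL(2, F) Ω - fun _ => 1 : SL(2, F) → ℂ) = χ at hχ h0 hv h1
  rcases irr_SL2_cases_deg Q hχ with ⟨-, e⟩ | ⟨e, -⟩ | ⟨e, -⟩ | ⟨e, θ, -, h⟩ | ⟨e, h2, h⟩ | ⟨-, h2, θ, -, -, h⟩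
  · rw [e, IsIrrCharacter.classInner_self isIrrCharacter_one] at h0
    exact absurd h0 one_ne_zero
  · exact .inl (Nat.cast_injective (R := ℂ) (by push_cast; linear_combination e - h1))
  · have h2 : Nat.card Ω = Fintype.card F + 2 := Nat.cast_injective (R := ℂ) (by push_cast; linear_combination e - h1)
    have h3 := hT.card_mul_dvd
    rw [h2, H2.card_SL2', Nat.card_eq_fintype_card] at h3
    have h4 := Nat.dvd_of_mul_dvd_mul_right (Nat.succ_pos _) h3
    obtain ⟨k, hk⟩ : ∃ k, Fintype.card F = k + 4 := ⟨Fintype.card F - 4, by omega⟩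
    rw [hk, show (k + 4) * (k + 4 - 1) = (k + 4 + 2) * (k + 1) + 6 by rw [show k + 4 - 1 = k + 3 from rfl]; ring,
      Nat.dvd_add_right (dvd_mul_right _ _)] at h4
    have := Nat.le_of_dvd (by norm_num) h4
    exact .inr (.inl ⟨by omega, by omega⟩)
  · exact .inr (.inr (.inr ⟨Nat.cast_injective (R := ℂ) (by linear_combination e - h1),
      cusp_case Q θ hq fun g => ⟨_, h ▸ (hv g).symm⟩⟩))
  · obtain ⟨s, hs, h3⟩ := h.ps_unip h2
    obtain ⟨k, h4, h5⟩ := half_case h2 hs (c := 3) fun b hb =>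
      ⟨Nat.card (fixedBy Ω (uSL b)), by push_cast; linear_combination 2 * (h3 b hb) - 2 * hv _⟩
    have h6 := odd_card_of_two_ne_zero h2
    rw [Nat.card_eq_fintype_card, h5] at h6
    rw [h5] at hq e
    have h7 : k = 3 := by interval_cases k <;> omega
    subst h7
    exact .inr (.inr (.inl ⟨h5, Nat.cast_injective (R := ℂ) (by push_cast at e ⊢; linear_combination e - h1)⟩))
  · obtain ⟨s, hs, h3⟩ := h.cusp_unip Q h2
    obtain ⟨k, h4, h5⟩ := half_case h2 hs (c := 1) fun b hb =>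
      ⟨Nat.card (fixedBy Ω (uSL b)), by push_cast; linear_combination 2 * (h3 b hb) - 2 * hv _⟩
    interval_cases k <;> omega

end Cfsg.Agent.H4.TL

namespace Cfsg.Agent.H4.TL

open MulAction Cfsg.Agent.H7 Cfsg.Agent.H1 Module
open scoped MatrixGroups LinearAlgebra.Projectivization

instance fact2 : Fact (Nat.Prime 2) := ⟨Nat.prime_two⟩

/-- The two-transitive actions of the linear groups. -/
theorem pieceL {F : Type} [Field F] [Fintype F] {d : ℕ} (hd : 2 ≤ d) (h4 : d = 2 → 4 ≤ Fintype.card F) {Ω : Type*}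
    [Finite Ω] [MulAction PSL(d, F) Ω] (hT : TT PSL(d, F) Ω) : TTConcl PSL(d, F) (Nat.card Ω) := by
  classical
  rcases hd.eq_or_lt with rfl | h3
  · let _ := MulAction.compHom Ω (H2.pj F)
    let _ := Fintype.ofFinite (GaloisField 2 2)
    have hG : Fintype.card (GaloisField 2 2) = 4 := by
      rw [← Nat.card_eq_fintype_card, GaloisField.card 2 2 two_ne_zero]; rfl
    rcases sl_two (h4 rfl) (hT.comp _ H2.pj_surjective) with h | ⟨h, h'⟩ | ⟨h, h'⟩ | ⟨h', h | h | h⟩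
    · exact .inr (.inl ⟨F, _, _, h4 rfl, ⟨MulEquiv.refl _⟩, h⟩)
    · exact .inr (.inl ⟨ZMod 5, inferInstance, inferInstance, by simp, iso45 h (by simp), by simp [-Nat.card_eq_fintype_card, h']⟩)
    · exact .inr (.inr (.inr (.inr (.inr (.inl ⟨F, _, _, h, ⟨MulEquiv.refl _⟩, h'⟩)))))
    · exact .inr (.inl ⟨GaloisField 2 2, inferInstance, inferInstance, hG.ge, (iso45 hG h).map MulEquiv.symm, by rw [h', h, hG]⟩)
    · exact .inl ⟨ZMod 2, inferInstance, inferInstance, 3, le_rfl, iso72 h (by simp), by simp [-Nat.card_eq_fintype_card, h', h]⟩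
    · exact .inr (.inr (.inr (.inr (.inr (.inr (.inl ⟨F, _, _, h, ⟨MulEquiv.refl _⟩, h'.trans h⟩))))))
  let e := Matrix.SpecialLinearGroup.toLin'_equiv (n := Fin d) (R := F)
  let φ : SpecialLinearGroup F (Fin d → F) →* PSL(d, F) := (QuotientGroup.mk' _).comp e.symm.toMonoidHom
  let _ := MulAction.compHom Ω φ
  have hT' : TT (SpecialLinearGroup F (Fin d → F)) Ω :=
    hT.comp φ ((QuotientGroup.mk'_surjective _).comp e.symm.surjective)
  have hE : finrank F (Fin d → F) = d := by simp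
  have hP := Projectivization.card F (Fin d → F)
  have hP' := Projectivization.card'' F (Fin d → F)
  rw [Nat.card_fun, Nat.card_eq_fintype_card (α := F), Nat.card_fin] at hP hP'
  have := hT'.pre
  rcases sl_main (by omega) hT' (by
    rw [hE, hP']
    by_cases h : d = 4 ∧ Fintype.card F = 2
    · exact .inr h
    · exact .inl (S2140.main d h3 h hT'.two_le)) with h | ⟨h | h, h1, h2⟩
  · exact .inl ⟨F, _, _, d, h3, ⟨MulEquiv.refl _⟩, by rw [h, hP]⟩
  · obtain rfl : d = 4 := hE ▸ h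
    exact .inr (.inr (.inr (.inr (.inr (.inr (.inr (.inl ⟨F, _, _, h1, ⟨MulEquiv.refl _⟩, h2⟩)))))))
  · obtain rfl : d = 3 := hE ▸ h
    exact .inr (.inl ⟨ZMod 7, inferInstance, inferInstance, by simp, (iso72 (by simp) h1).map MulEquiv.symm,
      by simp [-Nat.card_eq_fintype_card, h2]⟩)

end Cfsg.Agent.H4.TL
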