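import Cfsg.Agent.H4.SLConj

/-! Block triangular endomorphisms, endomorphisms with at most a line of fixed vectors, and
commutators with prescribed determinants. -/

set_option autoImplicit false

namespace Cfsg.Agent.H4

open Module Polynomial

universe u

variable {F : Type u} [Field F]
variable {V : Type*} {W : Type*} [AddCommGroup V] [Module F V] [AddCommGroup W] [Module F W]

section tri

/-- The block upper triangular endomorphism. -/
def tri (A : End F V) (Z : W →ₗ[F] V) (B : End F W) : End F (V × W) :=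
  (A.coprod Z).prod (B ∘ₗ LinearMap.snd F V W)

@[simp] theorem tri_apply (A : End F V) (Z : W →ₗ[F] V) (B : End F W) (v : V × W) :
    tri A Z B v = (A v.1 + Z v.2, B v.2) := rfl

theorem tri_mul (A A' : End F V) (Z Z' : W →ₗ[F] V) (B B' : End F W) :
    tri A Z B * tri A' Z' B' = tri (A * A') (A ∘ₗ Z' + Z ∘ₗ B') (B * B') := by
  refine LinearMap.ext fun v => ?_
  simp [add_assoc]

theorem tri_zero (A : End F V) (B : End F W) : tri A 0 B = A.prodMap B := by
  refine LinearMap.ext fun v => ?_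
  simp [Prod.map]

theorem toMatrix_tri {ι κ : Type*} [Fintype ι] [Fintype κ] [DecidableEq ι] [DecidableEq κ]
    (b : Basis ι F V) (c : Basis κ F W) (A : End F V) (Z : W →ₗ[F] V) (B : End F W) :
    LinearMap.toMatrix (b.prod c) (b.prod c) (tri A Z B) =
      Matrix.fromBlocks (LinearMap.toMatrix b b A) (LinearMap.toMatrix c b Z) 0
        (LinearMap.toMatrix c c B) := by
  ext (i | i) (j | j) <;> simp [LinearMap.toMatrix_apply]

theorem charpoly_tri [Module.Finite F V] [Module.Finite F W] (A : End F V) (Z : W →ₗ[F] V)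
    (B : End F W) : (tri A Z B).charpoly = A.charpoly * B.charpoly := by
  classical
  rw [← LinearMap.charpoly_toMatrix _ ((Module.finBasis F V).prod (Module.finBasis F W)),
    toMatrix_tri, Matrix.charpoly_fromBlocks_zero₂₁, LinearMap.charpoly_toMatrix,
    LinearMap.charpoly_toMatrix]

theorem det_tri [Module.Finite F V] [Module.Finite F W] (A : End F V) (Z : W →ₗ[F] V)
    (B : End F W) : LinearMap.det (tri A Z B) = LinearMap.det A * LinearMap.det B := by
  classical
  rw [← LinearMap.det_toMatrix ((Module.finBasis F V).prod (Module.finBasis F W)),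
    toMatrix_tri, Matrix.det_fromBlocks_zero₂₁, LinearMap.det_toMatrix, LinearMap.det_toMatrix]

theorem trace_tri [Module.Finite F V] [Module.Finite F W] (A : End F V) (Z : W →ₗ[F] V)
    (B : End F W) :
    LinearMap.trace F _ (tri A Z B) = LinearMap.trace F _ A + LinearMap.trace F _ B := by
  classical
  rw [LinearMap.trace_eq_matrix_trace F ((Module.finBasis F V).prod (Module.finBasis F W)),
    toMatrix_tri, LinearMap.trace_eq_matrix_trace F (Module.finBasis F V),
    LinearMap.trace_eq_matrix_trace F (Module.finBasis F W)]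
  simp [Matrix.trace]

theorem charpoly_smul_one (β : F) : LinearMap.charpoly (β • (1 : End F F)) = X - C β := by
  rw [← LinearMap.charpoly_toMatrix _ (Basis.singleton Unit F)]
  simp [Matrix.charpoly, LinearMap.toMatrix_apply]

theorem det_smul_one (β : F) : LinearMap.det (β • (1 : End F F)) = β := by simp

end tri

section reg

/-- At most a line of fixed vectors. -/
def Reg (f : End F V) : Prop := finrank F (LinearMap.ker (f - 1)) ≤ 1

theorem reg_iff_nul {f : End F V} : Reg f ↔ nul f (X - C 1) ≤ 1 := by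
  have : aeval f (X - C 1 : F[X]) = f - 1 := by simp
  rw [nul, this, Reg]

theorem Reg.nul_le {f : End F V} (h : Reg f) : nul f (X - C 1) ≤ 1 := reg_iff_nul.1 h

theorem Sim.reg {f : End F V} {g : End F W} (h : Sim f g) (hf : Reg f) : Reg g := by
  rwa [reg_iff_nul, ← h.nul_eq, ← reg_iff_nul]

theorem reg_of_span {f : End F V} (v0 : V) (h : ∀ v, f v = v → ∃ c : F, c • v0 = v) : Reg f := by
  have h1 : LinearMap.ker (f - 1) ≤ Submodule.span F {v0} := fun v hv =>
    Submodule.mem_span_singleton.2 (h v (sub_eq_zero.1 hv))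
  exact (Submodule.finrank_mono h1).trans (finrank_span_le_card _ |>.trans (by simp))

theorem reg_of_injOn [Module.Finite F W] {f : End F V} {g : End F W} (hg : Reg g) (π : V →ₗ[F] W)
    (h1 : ∀ v, f v = v → g (π v) = π v) (h2 : ∀ v, f v = v → π v = 0 → v = 0) : Reg f := by
  refine le_trans (LinearMap.finrank_le_finrank_of_injective (f := π.restrict
    (p := LinearMap.ker (f - 1)) (q := LinearMap.ker (g - 1))
    fun v hv => LinearMap.mem_ker.2 (sub_eq_zero.2 (h1 v (sub_eq_zero.1 hv)))) ?_) hg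
  rw [injective_iff_map_eq_zero]
  rintro ⟨v, hv⟩ h
  exact Subtype.ext (h2 v (sub_eq_zero.1 hv) (congrArg Subtype.val h))

theorem reg_of_range [Module.Finite F V] {f : End F V} (x : V)
    (h : ∀ v, ∃ (w : V) (c : F), v = f w - w + c • x) : Reg f := by
  have h1 : LinearMap.range (f - 1) ⊔ Submodule.span F {x} = ⊤ := by
    rw [eq_top_iff]
    intro v _
    obtain ⟨w, c, rfl⟩ := h v
    exact Submodule.add_mem_sup ⟨w, rfl⟩ (Submodule.smul_mem _ _ (Submodule.subset_span rfl))
  have h2 := Submodule.finrank_add_le_finrank_add_finrank (LinearMap.range (f - 1))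
    (Submodule.span F {x})
  have h3 : finrank F (Submodule.span F {x}) ≤ 1 := finrank_span_le_card _ |>.trans (by simp)
  have h4 := LinearMap.finrank_range_add_finrank_ker (f - 1)
  rw [h1, finrank_top] at h2
  rw [Reg]
  omega

theorem Reg.exists_span [Module.Finite F V] {f : End F V} (h : Reg f) :
    ∃ v0 : V, f v0 = v0 ∧ ∀ v, f v = v → ∃ c : F, c • v0 = v := by
  obtain ⟨⟨v0, h0⟩, h1⟩ := finrank_le_one_iff.1 h
  refine ⟨v0, sub_eq_zero.1 h0, fun v hv => ?_⟩
  obtain ⟨c, hc⟩ := h1 ⟨v, sub_eq_zero.2 hv⟩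
  exact ⟨c, congrArg Subtype.val hc⟩

theorem reg_tri_left [Module.Finite F W] {A : End F V} (Z : W →ₗ[F] V) {B : End F W}
    (hA : ∀ a, A a = a → a = 0) (hB : Reg B) : Reg (tri A Z B) :=
  reg_of_injOn hB (LinearMap.snd F V W) (fun _ hv => congrArg Prod.snd hv) fun v hv h => by
    obtain ⟨a, b⟩ := v
    obtain rfl : b = 0 := h
    have := congrArg Prod.fst hv
    simp only [tri_apply, map_zero, add_zero] at this
    rw [hA a this]; rfl

theorem reg_tri_link [Module.Finite F V] {A : End F V} {Z : W →ₗ[F] V} {B : End F W}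
    (hA : Reg A) (hB : ∀ b, B b = b → ∀ a, A a + Z b = a → b = 0) : Reg (tri A Z B) := by
  have h : ∀ v, tri A Z B v = v → v.2 = 0 := fun v hv =>
    hB v.2 (congrArg Prod.snd hv) v.1 (congrArg Prod.fst hv)
  refine reg_of_injOn hA (LinearMap.fst F V W) (fun v hv => ?_) fun v hv h' => Prod.ext h' (h v hv)
  have := congrArg Prod.fst hv
  simpa [h v hv] using this

theorem reg_tri_right [Module.Finite F V] {A : End F V} (Z : W →ₗ[F] V) {B : End F W}
    (hA : Reg A) (hB : ∀ b, B b = b → b = 0) : Reg (tri A Z B) :=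
  reg_tri_link hA fun b hb _ _ => hB b hb

/-- The linking condition is the non-vanishing of one linear functional. -/
theorem exists_link [Module.Finite F V] [Module.Finite F W] {A : End F V} {B : End F W}
    (hA : Reg A) (hB : Reg B) : (∀ Z, Reg (tri A Z B)) ∨
      ∃ Λ : (W →ₗ[F] V) →ₗ[F] F, Λ ≠ 0 ∧ ∀ Z, Λ Z ≠ 0 → Reg (tri A Z B) := by
  by_cases h1 : ∀ a, A a = a → a = 0
  · exact Or.inl fun Z => reg_tri_left Z h1 hB
  obtain ⟨b0, -, hb0⟩ := hB.exists_span
  by_cases h2 : b0 = 0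
  · refine Or.inl fun Z => reg_tri_right Z hA fun b hb => ?_
    obtain ⟨c, rfl⟩ := hb0 b hb
    rw [h2, smul_zero]
  right
  have h3 : LinearMap.range (A - 1) < ⊤ := by
    rw [lt_top_iff_ne_top, Ne, LinearMap.range_eq_top, ← LinearMap.injective_iff_surjective,
      injective_iff_map_eq_zero]
    exact fun h => h1 fun a ha => h a (sub_eq_zero.2 ha)
  obtain ⟨l, hl0, hl⟩ := Submodule.exists_le_ker_of_lt_top _ h3
  obtain ⟨a0, ha0⟩ := DFunLike.ne_iff.1 hl0
  obtain ⟨φ, hφ⟩ := Module.Projective.exists_dual_eq_one F h2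
  refine ⟨l ∘ₗ LinearMap.applyₗ b0, DFunLike.ne_iff.2 ⟨φ.smulRight a0, by simpa [hφ] using ha0⟩,
    fun Z hZ => reg_tri_link hA fun b hb a ha => ?_⟩
  obtain ⟨c, rfl⟩ := hb0 b hb
  have h4 : l (A a - a) = 0 := hl ⟨a, rfl⟩
  have h5 : A a - a = -(c • Z b0) := by
    rw [← map_smul, eq_neg_iff_add_eq_zero, sub_add_eq_add_sub, ha, sub_self]
  rw [h5, map_neg, map_smul, neg_eq_zero, smul_eq_zero] at h4
  rw [h4.resolve_right hZ, zero_smul]

theorem Good.eq_of_distinct {s t : Multiset (F[X] × ℕ)} (hs : Good s) (ht : Good t)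
    (hs' : ∀ y s', s = y ::ₘ s' → ∀ z ∈ s', z.1 ≠ y.1)
    (ht' : ∀ y s', t = y ::ₘ s' → ∀ z ∈ s', z.1 ≠ y.1) (h : chi s = chi t) : s = t := by
  classical
  have key : ∀ {s : Multiset (F[X] × ℕ)}, Good s → ∀ φ : F[X], φ.Monic → Irreducible φ →
      φ ∣ chi s → ∃ z ∈ s, z.1 = φ := by
    intro s hs φ hm hφ h
    obtain ⟨a, ha, h1⟩ := hφ.prime.exists_mem_multiset_dvd h
    obtain ⟨z, hz, rfl⟩ := Multiset.mem_map.1 ha
    exact ⟨z, hz, (eq_of_monic_of_associated hm (hs z hz).1
      (hφ.associated_of_dvd (hs z hz).2.1 (hφ.prime.dvd_of_dvd_pow h1))).symm⟩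
  have mult : ∀ {s : Multiset (F[X] × ℕ)}, Good s →
      (∀ y s', s = y ::ₘ s' → ∀ z ∈ s', z.1 ≠ y.1) → ∀ y ∈ s,
      emultiplicity y.1 (chi s) = y.2 := by
    intro s hs hs' y hy
    obtain ⟨s', rfl⟩ := Multiset.exists_cons_of_mem hy
    have h1 : ¬ y.1 ∣ chi s' := fun h => by
      obtain ⟨z, hz, h2⟩ := key (fun z hz => hs z (Multiset.mem_cons_of_mem hz)) y.1 (hs y hy).1
        (hs y hy).2.1 h
      exact hs' y s' rfl z hz h2
    rw [chi, Multiset.map_cons, Multiset.prod_cons, emultiplicity_mul (hs y hy).2.1.prime,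
      emultiplicity_pow_self_of_prime (hs y hy).2.1.prime, ← chi, emultiplicity_eq_zero.2 h1, add_zero]
  have sub : ∀ {s t : Multiset (F[X] × ℕ)}, Good s → Good t →
      (∀ y s', s = y ::ₘ s' → ∀ z ∈ s', z.1 ≠ y.1) →
      (∀ y s', t = y ::ₘ s' → ∀ z ∈ s', z.1 ≠ y.1) → chi s = chi t → ∀ y ∈ s, y ∈ t := by
    intro s t hs ht hs' ht' h y hy
    have h1 : y.1 ∣ chi t := h ▸ (dvd_pow_self _ (hs y hy).2.2.ne').trans
      (Multiset.dvd_prod (Multiset.mem_map_of_mem (fun y : F[X] × ℕ => y.1 ^ y.2) hy))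
    obtain ⟨z, hz, h2⟩ := key ht y.1 (hs y hy).1 (hs y hy).2.1 h1
    have h3 := mult hs hs' y hy
    rw [h, ← h2, mult ht ht' z hz, Nat.cast_inj] at h3
    rwa [← Prod.ext h2 h3]
  have nd : ∀ {s : Multiset (F[X] × ℕ)}, (∀ y s', s = y ::ₘ s' → ∀ z ∈ s', z.1 ≠ y.1) →
      s.Nodup := by
    intro s hs'
    rw [Multiset.nodup_iff_ne_cons_cons]
    intro a t h
    exact hs' a _ h a (Multiset.mem_cons_self _ _) rfl
  exact ((nd hs').ext (nd ht')).2 fun y => ⟨sub hs ht hs' ht' h y, sub ht hs ht' hs' h.symm y⟩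

theorem HasType.distinct_of_reg [Module.Finite F V] {f : End F V} {s : Multiset (F[X] × ℕ)}
    (h : HasType f s) {σ : F[X]} (hσ : Squarefree σ) {k : ℕ}
    (hc : f.charpoly = σ * (X - C 1) ^ k) (hr : Reg f) :
    ∀ y s', s = y ::ₘ s' → ∀ z ∈ s', z.1 ≠ y.1 := by
  classical
  rintro y s' rfl z hz hzy
  obtain ⟨s'', rfl⟩ := Multiset.exists_cons_of_mem hz
  have hy := h.good y (Multiset.mem_cons_self _ _)
  have hz' := h.good z (Multiset.mem_cons_of_mem hz)
  by_cases h1 : y.1 = X - C 1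
  · have h2 := h.nul_pow (monic_X_sub_C 1) (irreducible_X_sub_C 1) 1
    have h3 := hr.nul_le
    rw [pow_one] at h2
    simp only [h2, Multiset.map_cons, Multiset.sum_cons, hzy, h1, if_true, natDegree_X_sub_C,
      mul_one] at h3
    have := hy.2.2
    have := hz'.2.2
    omega
  · have h2 : y.1 * y.1 ∣ σ * (X - C 1) ^ k := by
      rw [← hc, h.charpoly_eq, chi, Multiset.map_cons, Multiset.map_cons, Multiset.prod_cons,
        Multiset.prod_cons, hzy, ← mul_assoc]
      exact (mul_dvd_mul (dvd_pow_self _ hy.2.2.ne') (dvd_pow_self _ hz'.2.2.ne')).mul_right _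
    have h3 := isCoprime_of_ne hy.1 hy.2.1 (monic_X_sub_C 1) (irreducible_X_sub_C 1) h1
    exact hy.2.1.not_isUnit (hσ _ ((h3.mul_left h3).pow_right.dvd_of_dvd_mul_right h2))

theorem sim_of_reg [Module.Finite F V] [Module.Finite F W] {f : End F V} {g : End F W}
    {σ : F[X]} (hσ : Squarefree σ) {k : ℕ} (hf : f.charpoly = σ * (X - C 1) ^ k)
    (hg : g.charpoly = σ * (X - C 1) ^ k) (hf' : Reg f) (hg' : Reg g) : Sim f g := by
  obtain ⟨s, hs⟩ := exists_hasType f
  obtain ⟨t, ht⟩ := exists_hasType g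
  obtain rfl := hs.good.eq_of_distinct ht.good (hs.distinct_of_reg hσ hf hf')
    (ht.distinct_of_reg hσ hg hg') (by rw [← hs.charpoly_eq, ← ht.charpoly_eq, hf, hg])
  exact hs.sim ht

theorem exists_commute_det_of_simple [Finite F] [Module.Finite F V] {f : End F V} {σ : F[X]}
    (hσ : Squarefree σ) (hσ1 : σ.eval 1 ≠ 0) (hd : 0 < σ.natDegree) {k : ℕ}
    (hc : f.charpoly = σ * (X - C 1) ^ k) (μ : F) :
    ∃ c : End F V, c * f = f * c ∧ LinearMap.det c = μ := by
  obtain ⟨s, hs⟩ := exists_hasType f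
  obtain ⟨φ, hφ, h1⟩ := exists_irreducible_of_natDegree_pos hd
  have h2 : φ ∣ chi s := by rw [← hs.charpoly_eq, hc]; exact h1.mul_right _
  obtain ⟨a, ha, h3⟩ := hφ.prime.exists_mem_multiset_dvd h2
  obtain ⟨z, hz, rfl⟩ := Multiset.mem_map.1 ha
  have hz' := hs.good z hz
  have h4 := hφ.associated_of_dvd hz'.2.1 (hφ.prime.dvd_of_dvd_pow h3)
  have h5 : z.1 ≠ X - C 1 := fun h => hσ1 (dvd_iff_isRoot.1 (h ▸ h4.symm.dvd.trans h1))
  have h6 := isCoprime_of_ne hz'.1 hz'.2.1 (monic_X_sub_C 1) (irreducible_X_sub_C 1) h5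
  have h7 : z.1 ^ z.2 ∣ σ * (X - C 1) ^ k := by
    rw [← hc, hs.charpoly_eq]
    exact Multiset.dvd_prod ha
  have h8 : z.2 = 1 := by
    by_contra hh
    have h9 : z.1 * z.1 ∣ z.1 ^ z.2 := by
      rw [← pow_two]; exact pow_dvd_pow _ (by have := hz'.2.2; omega)
    exact hz'.2.1.not_isUnit (hσ _ (h9.trans (h6.pow.dvd_of_dvd_mul_right h7)))
  simpa [h8] using hs.exists_commute_det hz μ

end reg

section comm

/-- `g` is a commutator `a b a⁻¹ b⁻¹` with `det b = δ` and `det a = ε`. -/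
def Comm (g : End F V) (δ ε : F) : Prop :=
  ∃ a b : End F V, LinearMap.det a = ε ∧ LinearMap.det b = δ ∧ a * b = g * b * a

theorem Comm.of_sim {f : End F V} {g : End F W} {δ ε : F} (h : Comm g δ ε) (hs : Sim f g) :
    Comm f δ ε := by
  obtain ⟨a, b, h1, h2, h3⟩ := h
  obtain ⟨e, he⟩ := hs.symm
  refine ⟨e.conj a, e.conj b, by rw [← h1, (sim_conj a e).det_eq],
    by rw [← h2, (sim_conj b e).det_eq], ?_⟩
  rw [Sim.eq_conj he]
  exact (map_mul (e.conjAlgEquiv F) a b).symm.trans ((congrArg _ h3).trans (by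
    rw [map_mul, map_mul]; rfl))

theorem Comm.prodMap [Module.Finite F V] [Module.Finite F W] {f : End F V} {g : End F W}
    {δ ε δ' ε' : F} (h : Comm f δ ε) (h' : Comm g δ' ε') :
    Comm (f.prodMap g : End F (V × W)) (δ * δ') (ε * ε') := by
  obtain ⟨a, b, h1, h2, h3⟩ := h
  obtain ⟨a', b', h1', h2', h3'⟩ := h'
  refine ⟨a.prodMap a', b.prodMap b', by rw [← tri_zero, det_tri, h1, h1'],
    by rw [← tri_zero, det_tri, h2, h2'], ?_⟩
  simp only [LinearMap.prodMap_mul, h3, h3']

theorem comm_of_sim {g b : End F V} (h : Sim b (g * b)) :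
    ∃ ε, ε ≠ 0 ∧ Comm g (LinearMap.det b) ε := by
  obtain ⟨e, he⟩ := h
  exact ⟨_, (LinearEquiv.isUnit_det' e).ne_zero, e, b, rfl, rfl, LinearMap.ext he⟩

theorem comm_of_sim_of_commute {g b : End F V} (h : Sim b (g * b))
    (hc : ∀ μ, ∃ c : End F V, c * b = b * c ∧ LinearMap.det c = μ) (ε : F) :
    Comm g (LinearMap.det b) ε := by
  obtain ⟨e, he⟩ := h
  obtain ⟨c, h1, h2⟩ := hc ((LinearMap.det (e : End F V))⁻¹ * ε)
  have h3 : (e : End F V) * b = g * b * e := LinearMap.ext he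
  refine ⟨e * c, b, ?_, rfl, ?_⟩
  · rw [map_mul, h2, mul_inv_cancel_left₀ (LinearEquiv.isUnit_det' e).ne_zero]
  · rw [mul_assoc, h1, ← mul_assoc, h3, mul_assoc]

theorem comm_of_reg [Finite F] [Module.Finite F V] {g b : End F V} {σ : F[X]}
    (hσ : Squarefree σ) (hσ1 : σ.eval 1 ≠ 0) (hd : 0 < σ.natDegree) {k : ℕ}
    (h1 : b.charpoly = σ * (X - C 1) ^ k) (h2 : (g * b).charpoly = σ * (X - C 1) ^ k)
    (h3 : Reg b) (h4 : Reg (g * b)) (ε : F) : Comm g (LinearMap.det b) ε :=
  comm_of_sim_of_commute (sim_of_reg hσ h1 h2 h3 h4)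
    (exists_commute_det_of_simple hσ hσ1 hd h1) ε

theorem Comm.exists_SL {n : Type*} [Fintype n] [DecidableEq n] {g : Matrix.SpecialLinearGroup n F}
    (h : Comm (Matrix.toLin' (g : Matrix n n F)) 1 1) :
    ∃ a b : Matrix.SpecialLinearGroup n F, g = a * b * a⁻¹ * b⁻¹ := by
  obtain ⟨a, b, h1, h2, h3⟩ := h
  let A : Matrix.SpecialLinearGroup n F := ⟨LinearMap.toMatrix' a, by rwa [LinearMap.det_toMatrix']⟩
  let B : Matrix.SpecialLinearGroup n F := ⟨LinearMap.toMatrix' b, by rwa [LinearMap.det_toMatrix']⟩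
  have h4 : A * B = g * B * A := Subtype.ext (by
    change LinearMap.toMatrix' a * LinearMap.toMatrix' b =
      g * LinearMap.toMatrix' b * LinearMap.toMatrix' a
    rw [← LinearMap.toMatrix'_mul, h3, LinearMap.toMatrix'_mul, LinearMap.toMatrix'_mul,
      LinearMap.toMatrix'_toLin'])
  exact ⟨A, B, by rw [h4]; group⟩

end comm

section split

/-- The splitting given by a vector and a functional pairing to one. -/
def splitEquiv (e : V) (f : V →ₗ[F] F) (h : f e = 1) : (F × LinearMap.ker f) ≃ₗ[F] V where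
  toFun v := v.1 • e + v.2
  invFun v := (f v, ⟨v - f v • e, by simp [h]⟩)
  map_add' a b := by simp [add_smul, add_add_add_comm]
  map_smul' c a := by simp [mul_smul]
  left_inv v := by
    have := LinearMap.mem_ker.1 v.2.2
    ext <;> simp [h, this]
  right_inv v := by simp

theorem splitEquiv_apply (e : V) (f : V →ₗ[F] F) (h : f e = 1) (v : F × LinearMap.ker f) :
    splitEquiv e f h v = v.1 • e + v.2 := rfl

theorem finrank_ker_add_one [Module.Finite F V] {e : V} {f : V →ₗ[F] F} (h : f e = 1) :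
    finrank F (LinearMap.ker f) + 1 = finrank F V := by
  rw [← (splitEquiv e f h).finrank_eq, finrank_prod, finrank_self, add_comm]

theorem exists_split_apply {e : V} {f : V →ₗ[F] F} (h : f e = 1) (v : V) :
    ∃ (c : F) (w : LinearMap.ker f), v = c • e + w :=
  ⟨f v, ⟨v - f v • e, by simp [h]⟩, by simp⟩

theorem sim_tri_upper {e : V} {f : V →ₗ[F] F} (h : f e = 1) {T : End F V} {β : F}
    {z : LinearMap.ker f →ₗ[F] F} {B : End F (LinearMap.ker f)} (h1 : T e = β • e)
    (h2 : ∀ v : LinearMap.ker f, T v = B v + z v • e) : Sim (tri (β • (1 : End F F)) z B) T :=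
  ⟨splitEquiv e f h, fun v => by
    simp only [splitEquiv_apply, tri_apply, map_add, map_smul, h1, h2, LinearMap.smul_apply,
      Module.End.one_apply, smul_eq_mul]
    module⟩

theorem sim_tri_lower {e : V} {f : V →ₗ[F] F} (h : f e = 1) {T : End F V} {β : F}
    {w : LinearMap.ker f} {B : End F (LinearMap.ker f)} (h1 : T e = β • e + w)
    (h2 : ∀ v : LinearMap.ker f, T v = B v) :
    Sim (tri B (LinearMap.toSpanSingleton F _ w) (β • (1 : End F F))) T :=
  ⟨(LinearEquiv.prodComm F _ _).trans (splitEquiv e f h), fun v => by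
    simp only [LinearEquiv.trans_apply, LinearEquiv.prodComm_apply, splitEquiv_apply, tri_apply,
      map_add, map_smul, h1, h2, LinearMap.smul_apply, Module.End.one_apply, smul_eq_mul,
      Prod.fst_swap, Prod.snd_swap, LinearMap.toSpanSingleton_apply, Submodule.coe_add,
      Submodule.coe_smul]
    module⟩

/-- The endomorphism with prescribed values on a splitting. -/
theorem exists_end_split {e : V} {f : V →ₗ[F] F} (h : f e = 1) (w : W)
    (B : LinearMap.ker f →ₗ[F] W) :
    ∃ T : V →ₗ[F] W, T e = w ∧ ∀ v : LinearMap.ker f, T v = B v := by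
  refine ⟨((LinearMap.toSpanSingleton F _ w).coprod B) ∘ₗ (splitEquiv e f h).symm.toLinearMap,
    ?_, fun v => ?_⟩
  · have : (splitEquiv e f h).symm e = (1, 0) := by
      rw [LinearEquiv.symm_apply_eq, splitEquiv_apply]; simp
    simp [this]
  · have : (splitEquiv e f h).symm v = (0, v) := by
      rw [LinearEquiv.symm_apply_eq, splitEquiv_apply]; simp
    simp [this]

end split

end Cfsg.Agent.H4
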